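import Cfsg.Agent.Lib.Spor.SymNine.BigBraid
import Cfsg.Agent.S2530
import Mathlib.GroupTheory.SpecificGroups.Alternating.Simple
import Mathlib.GroupTheory.Perm.Cycle.Type

/-!
The big case: a copy of the symmetric group of degree nine closed under centralisers of elements of order three.
-/

set_option autoImplicit false
set_option linter.unusedSectionVars false
set_option linter.style.haveILetI false
set_option maxRecDepth 100000
set_option synthInstance.maxSize 4096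
set_option synthInstance.maxHeartbeats 200000

namespace Cfsg.Agent.Spor.SymNine

open Cfsg.Agent.Lie.PSpFourThreeAmalgam (V3 mU mT)
open Cfsg.Agent.Lie.PSpFourThreeFull (six dia smap)
open Cfsg.Agent.Lie.PSpFourThreeFull.Axis (P6 s1 s2 w1 w2 tau)
open Equiv

/-- The adjacent transpositions of six points. -/
def adj (k : Fin 5) : P6 := swap k.castSucc k.succ

/-- The lower index. -/
def lo (i : Fin 8) : Fin 5 := ⟨min i.val 4, by omega⟩

/-- The upper index. -/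
def hi (i : Fin 8) : Fin 5 := ⟨i.val - 3, by omega⟩

theorem adj_sq : ∀ k : Fin 5, adj k * adj k = 1 := fun _ => swap_mul_self _ _

theorem cox_low : ∀ i j : Fin 8, i.val < 5 → j.val < 5 →
    ((i = j ∧ lo i = lo j) ∨ ((i.val + 1 = j.val ∨ j.val + 1 = i.val) ∧ i ≠ j ∧ (adj (lo i) * adj (lo j)) ^ 3 = 1) ∨
      (¬(i.val + 1 = j.val ∨ j.val + 1 = i.val) ∧ i ≠ j ∧ adj (lo i) * adj (lo j) = adj (lo j) * adj (lo i))) := by
  decide +kernel

theorem cox_high : ∀ i j : Fin 8, 3 ≤ i.val → 3 ≤ j.val →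
    ((i = j ∧ hi i = hi j) ∨ ((i.val + 1 = j.val ∨ j.val + 1 = i.val) ∧ i ≠ j ∧ (adj (hi i) * adj (hi j)) ^ 3 = 1) ∨
      (¬(i.val + 1 = j.val ∨ j.val + 1 = i.val) ∧ i ≠ j ∧ adj (hi i) * adj (hi j) = adj (hi j) * adj (hi i))) := by
  decide +kernel

theorem adj_vals : adj 0 = s1 * w1 ∧ adj 1 = w1 ∧ adj 2 = swap 2 3 ∧ adj 3 = s2 * w2 ∧ adj 4 = w2 ∧
    adj 0 = s1 ^ (1 : ZMod 3).val * w1 ∧ adj 1 = s1 ^ (0 : ZMod 3).val * w1 ∧
    adj 3 = s2 ^ (1 : ZMod 3).val * w2 ∧ adj 4 = s2 ^ (0 : ZMod 3).val * w2 ∧ adj 0 ≠ adj 1 ∧ adj 0 ≠ 1 := by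
  decide +kernel

theorem wr_split : ∀ m : Wr, m = jc m.v * ⟨0, m.k⟩ := by decide +kernel

theorem six_words : ∀ k : Fin 6, ∃ (i : Fin 2) (j : Fin 3), (⟨0, k⟩ : Wr) = tm ^ i.val * sm ^ j.val := by decide +kernel

theorem tm_word : tm * sm * tm * sm⁻¹ = sm := by decide +kernel

/-- The representatives of the elements of order three. -/
def rep : Fin 3 → Perm (Fin 9)
  | 0 => swap 0 1 * swap 1 2
  | 1 => swap 0 1 * swap 1 2 * (swap 3 4 * swap 4 5)
  | 2 => swap 0 1 * swap 1 2 * (swap 3 4 * swap 4 5) * (swap 6 7 * swap 7 8)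

theorem rep_facts : ∀ k : Fin 3, rep k ^ 3 = 1 ∧ rep k ≠ 1 ∧ (rep k).support.card = 3 * (k.val + 1) := by
  decide +kernel

theorem conj_rep {x : Perm (Fin 9)} (hx : orderOf x = 3) : ∃ (k : Fin 3) (c : Perm (Fin 9)), c * rep k * c⁻¹ = x := by
  obtain ⟨n, hn⟩ := Equiv.Perm.cycleType_prime_order (σ := x) (by rw [hx]; exact Nat.prime_three)
  rw [hx] at hn
  have h9 := Equiv.Perm.sum_cycleType_le x
  rw [hn, Multiset.sum_replicate, Fintype.card_fin, smul_eq_mul] at h9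
  obtain ⟨k, hk⟩ : ∃ k : Fin 3, k.val = n := ⟨⟨n, by omega⟩, rfl⟩
  refine ⟨k, ?_⟩
  obtain ⟨h3, h1, hs⟩ := rep_facts k
  have ho : orderOf (rep k) = 3 := orderOf_eq_prime h3 h1
  obtain ⟨m, hm⟩ := Equiv.Perm.cycleType_prime_order (σ := rep k) (by rw [ho]; exact Nat.prime_three)
  rw [ho] at hm
  have hsum := Equiv.Perm.sum_cycleType (rep k)
  rw [hm, Multiset.sum_replicate, smul_eq_mul, hs] at hsum
  have hmn : m = n := by omega
  exact isConj_iff.1 (Equiv.Perm.isConj_iff_cycleType_eq.2 (by rw [hm, hn, hmn]))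

theorem rep_words : ∀ (u : Fin 8 → Perm (Fin 9)), (∀ i : Fin 8, u i = swap i.castSucc i.succ) →
    rep 0 = u 0 * u 1 ∧ rep 1 = u 0 * u 1 * (u 3 * u 4) ∧ rep 2 = u 0 * u 1 * (u 3 * u 4) * (u 6 * u 7) :=
  fun u hu => by
    simp only [hu]
    exact ⟨rfl, rfl, rfl⟩

theorem nine_facts : swap (0 : Fin 9) 1 * swap 1 2 ∈ alternatingGroup (Fin 9) ∧
    swap (0 : Fin 8).castSucc (0 : Fin 8).succ * swap (1 : Fin 8).castSucc (1 : Fin 8).succ =
      swap (0 : Fin 9) 1 * swap 1 2 := by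
  refine ⟨?_, rfl⟩
  rw [Equiv.Perm.mem_alternatingGroup]
  decide +kernel

namespace Conf.Cpl.Label

variable {G : Type*} [Group G] [Finite G] {T : Conf G} {C : Cpl T} (hL : C.Label)
include hL

/-- The eight generators. -/
noncomputable def gen (i : Fin 8) : G := if i.val < 5 then (hL.lift (adj (lo i)) : G) else hL.up (adj (hi i))

theorem gen_lt {i : Fin 8} (h : i.val < 5) : hL.gen i = hL.lift (adj (lo i)) := if_pos h

theorem up_adj0 : hL.up (adj 0) = (hL.lift (adj 3) : G) := by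
  rw [adj_vals.2.2.2.2.2.1, hL.up_inner0, adj_vals.2.2.2.2.2.2.2.1, hL.lift_inner1]

theorem up_adj1 : hL.up (adj 1) = (hL.lift (adj 4) : G) := by
  rw [adj_vals.2.2.2.2.2.2.1, hL.up_inner0, adj_vals.2.2.2.2.2.2.2.2.1, hL.lift_inner1]

theorem gen_ge {i : Fin 8} (h : 3 ≤ i.val) : hL.gen i = hL.up (adj (hi i)) := by
  unfold gen
  split_ifs with h5
  · obtain rfl | rfl : i = 3 ∨ i = 4 := by omega
    · exact hL.up_adj0.symm
    · exact hL.up_adj1.symm
  · rfl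

theorem lift_braid {σ σ' : P6} (h : σ * σ = 1) (h' : σ' * σ' = 1) (h3 : (σ * σ') ^ 3 = 1) :
    ((hL.lift σ : G) * hL.lift σ') ^ 3 = 1 := by
  have e : σ * σ' * σ = σ' * σ * σ' := by
    have h3' : σ * σ' * σ * (σ' * σ * σ') = 1 := by
      rw [← h3]
      simp only [pow_succ, pow_zero, one_mul]
      group
    rw [← inv_eq_of_mul_eq_one_right h3', mul_inv_rev, mul_inv_rev, inv_eq_of_mul_eq_one_right h,
      inv_eq_of_mul_eq_one_right h', mul_assoc]
  have hs : σ' * σ * σ' * (σ' * σ * σ') = 1 := by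
    calc _ = σ' * σ * (σ' * σ') * σ * σ' := by group
      _ = σ' * (σ * σ) * σ' := by rw [h']; group
      _ = 1 := by rw [h, mul_one, h']
  calc ((hL.lift σ : G) * hL.lift σ') ^ 3
      = (hL.lift σ : G) * hL.lift σ' * hL.lift σ * ((hL.lift σ' : G) * hL.lift σ * hL.lift σ') := by
        simp only [pow_succ, pow_zero, one_mul]
        group
    _ = 1 := by rw [hL.lift_conj' h' h, hL.lift_conj' h h', e, hL.lift_sq' hs]

theorem gen_low (i j : Fin 8) (hi' : i.val < 5) (hj' : j.val < 5) :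
    (hL.gen i * hL.gen j) ^ (CoxeterMatrix.A 8).M i j = 1 := by
  rw [hL.gen_lt hi', hL.gen_lt hj']
  rcases cox_low i j hi' hj' with ⟨rfl, -⟩ | ⟨ha, hne, h⟩ | ⟨ha, hne, h⟩
  · simp [CoxeterMatrix.A, hL.lift_sq' (adj_sq _)]
  · simp only [CoxeterMatrix.A, Matrix.of_apply, if_neg hne, if_pos ha.symm]
    exact hL.lift_braid (adj_sq _) (adj_sq _) h
  · simp only [CoxeterMatrix.A, Matrix.of_apply, if_neg hne, if_neg (fun e => ha (Or.symm e))]
    rw [(show Commute (hL.lift (adj (lo i)) : G) (hL.lift (adj (lo j)) : G) from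
      congrArg Subtype.val (hL.lift_mul (adj_sq _) (adj_sq _) h).2.eq).mul_pow, pow_two, pow_two,
      hL.lift_sq' (adj_sq _), hL.lift_sq' (adj_sq _), one_mul]

theorem gen_high (i j : Fin 8) (hi' : 3 ≤ i.val) (hj' : 3 ≤ j.val) :
    (hL.gen i * hL.gen j) ^ (CoxeterMatrix.A 8).M i j = 1 := by
  rw [hL.gen_ge hi', hL.gen_ge hj', up, up, conj_mul, conj_pow, conj_eq_one_iff]
  rcases cox_high i j hi' hj' with ⟨rfl, -⟩ | ⟨ha, hne, h⟩ | ⟨ha, hne, h⟩
  · simp [CoxeterMatrix.A, hL.lift_sq' (adj_sq _)]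
  · simp only [CoxeterMatrix.A, Matrix.of_apply, if_neg hne, if_pos ha.symm]
    exact hL.lift_braid (adj_sq _) (adj_sq _) h
  · simp only [CoxeterMatrix.A, Matrix.of_apply, if_neg hne, if_neg (fun e => ha (Or.symm e))]
    rw [(show Commute (hL.lift (adj (hi i)) : G) (hL.lift (adj (hi j)) : G) from
      congrArg Subtype.val (hL.lift_mul (adj_sq _) (adj_sq _) h).2.eq).mul_pow, pow_two, pow_two,
      hL.lift_sq' (adj_sq _), hL.lift_sq' (adj_sq _), one_mul]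

theorem gen_sq (i : Fin 8) : hL.gen i * hL.gen i = 1 := by
  unfold gen
  split_ifs
  · exact hL.lift_sq' (adj_sq _)
  · rw [up, conj_mul, hL.lift_sq' (adj_sq _), mul_one, mul_inv_cancel]

theorem gen_apart (hF : T.Framed .eight) (hpair : T.centQ (1, 1, 0) ≤ Subgroup.normalizer (T.J : Set G))
    (i j : Fin 8) (hi' : i.val < 3) (hj' : 5 ≤ j.val) : Commute (hL.gen i) (hL.gen j) := by
  rw [hL.gen_ge (i := j) (by omega), hL.gen_lt (i := i) (by omega)]
  obtain rfl | rfl | rfl : i = 0 ∨ i = 1 ∨ i = 2 := by omega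
  · rw [show lo 0 = 0 from rfl, adj_vals.2.2.2.2.2.1, hL.lift_inner0]
    exact hL.inner0_up 1 (adj_sq _)
  · rw [show lo 1 = 1 from rfl, adj_vals.2.2.2.2.2.2.1, hL.lift_inner0]
    exact hL.inner0_up 0 (adj_sq _)
  · rw [show lo 2 = 2 from rfl]
    obtain rfl | rfl | rfl : j = 5 ∨ j = 6 ∨ j = 7 := by omega
    · rw [show hi 5 = 2 from rfl, adj_vals.2.2.1]
      exact hL.main_comm hF hpair
    · rw [show hi 6 = 3 from rfl, adj_vals.2.2.2.2.2.2.2.1, hL.up_inner1]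
      exact (hL.inner2_lift 1 (adj_sq _)).symm
    · rw [show hi 7 = 4 from rfl, adj_vals.2.2.2.2.2.2.2.2.1, hL.up_inner1]
      exact (hL.inner2_lift 0 (adj_sq _)).symm

theorem gen_liftable (hF : T.Framed .eight) (hpair : T.centQ (1, 1, 0) ≤ Subgroup.normalizer (T.J : Set G)) :
    (CoxeterMatrix.A 8).IsLiftable hL.gen := by
  intro i j
  by_cases h1 : i.val < 5 ∧ j.val < 5
  · exact hL.gen_low i j h1.1 h1.2
  by_cases h2 : 3 ≤ i.val ∧ 3 ≤ j.val
  · exact hL.gen_high i j h2.1 h2.2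
  have hc : Commute (hL.gen i) (hL.gen j) := by
    by_cases h3 : i.val < 3
    · exact hL.gen_apart hF hpair i j h3 (by omega)
    · exact (hL.gen_apart hF hpair j i (by omega) (by omega)).symm
  rw [show (CoxeterMatrix.A 8).M i j = 2 by
    simp only [CoxeterMatrix.A, Matrix.of_apply, Fin.ext_iff]
    rw [if_neg (by omega), if_neg (by omega)], hc.mul_pow, pow_two, pow_two, hL.gen_sq, hL.gen_sq, one_mul]

/-- A subgroup containing the generators over the six points and the axis contains the centraliser. -/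
theorem axis_le (K : Subgroup G) (hK : ∀ k : Fin 5, (hL.lift (adj k) : G) ∈ K) (hq : T.q (0, 0, 1) ∈ K) :
    T.centQ (0, 0, 1) ≤ K := by
  intro g hg
  set H : Subgroup (T.centQ (0, 0, 1)) := K.comap (T.centQ (0, 0, 1)).subtype
  have htop : ∀ σ : P6, σ ∈ H.map hL.π := fun σ => by
    have hσ : σ ∈ Submonoid.closure (Set.range fun i : Fin 5 => swap i.castSucc i.succ) :=
      (Equiv.Perm.mclosure_swap_castSucc_succ 5) ▸ Submonoid.mem_top σ
    refine (Submonoid.closure_le (S := (H.map hL.π).toSubmonoid)).2 ?_ hσ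
    rintro _ ⟨k, rfl⟩
    exact ⟨hL.lift (adj k), hK k, hL.π_lift (adj_sq k)⟩
  obtain ⟨h, hh, e⟩ := htop (hL.π ⟨g, hg⟩)
  obtain ⟨a, ha⟩ := hL.π_one (x := h⁻¹ * ⟨g, hg⟩) (by rw [map_mul, map_inv, e, inv_mul_cancel])
  have h1 : g = (h : G) * T.q (a • (0, 0, 1)) :=
    congrArg Subtype.val (eq_mul_of_inv_mul_eq ha)
  rw [h1, T.q_smul]
  exact K.mul_mem hh (K.pow_mem hq _)

end Conf.Cpl.Label

/-- In the big case there is a copy of the symmetric group of degree nine containing the centralisers of its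
elements of order three. -/
theorem Conf.Framed.big {G : Type*} [Group G] [Finite G] {T : Conf G} (hF : T.Framed .eight)
    (hpair : T.centQ (1, 1, 0) ≤ Subgroup.normalizer (T.J : Set G))
    (π : T.centQ (0, 0, 1) →* Equiv.Perm (Fin 6)) (hπ : Function.Surjective π)
    (hk : π.ker = T.lineQ (0, 0, 1)) :
    ∃ Ψ : Equiv.Perm (Fin 9) →* G, Function.Injective Ψ ∧
      ∀ x, orderOf x = 3 → ∀ g : G, Commute g (Ψ x) → g ∈ Ψ.range := by
  obtain ⟨C⟩ := Conf.exists_cpl hF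
  obtain ⟨hL⟩ := C.exists_label π hπ hk
  obtain ⟨cs, hcs⟩ := S2530.result 8
  set Ψ : Perm (Fin 9) →* G := cs.lift ⟨hL.gen, hL.gen_liftable hF hpair⟩ with hΨ
  have hgen : ∀ i, Ψ (swap i.castSucc i.succ) = hL.gen i := fun i => by
    rw [← hcs i]
    exact cs.lift_apply_simple _ i
  have hR : ∀ i, hL.gen i ∈ Ψ.range := fun i => ⟨_, hgen i⟩
  have hlow : ∀ k : Fin 5, (hL.lift (adj k) : G) ∈ Ψ.range := fun k => by
    have h := hR ⟨k.val, by omega⟩
    rwa [hL.gen_lt (by exact k.isLt), show lo ⟨k.val, _⟩ = k from Fin.ext (by simp [lo]; omega)] at h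
  have hup : ∀ k : Fin 5, hL.up (adj k) ∈ Ψ.range := fun k => by
    have h := hR ⟨k.val + 3, by omega⟩
    rwa [hL.gen_ge (show 3 ≤ k.val + 3 by omega), show hi ⟨k.val + 3, _⟩ = k from Fin.ext (by simp [hi])] at h
  obtain ⟨-, -, -, -, -, a0, a1, a3, a4, hne, -⟩ := adj_vals
  have g0 : (hL.lift (adj 0) : G) = T.q (1, 0, 0) * C.d 0 := by rw [a0]; exact hL.lift_inner0 1
  have g1 : (hL.lift (adj 1) : G) = C.d 0 := by
    rw [a1, hL.lift_inner0 0]
    exact (congrArg (· * C.d 0) T.q_zero).trans (one_mul _)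
  have g3 : (hL.lift (adj 3) : G) = T.q (0, 1, 0) * C.d 1 := by rw [a3]; exact hL.lift_inner1 1
  have g4 : (hL.lift (adj 4) : G) = C.d 1 := by
    rw [a4, hL.lift_inner1 0]
    exact (congrArg (· * C.d 1) T.q_zero).trans (one_mul _)
  have g6 : hL.up (adj 3) = T.q (0, 0, 1) * C.d 2 := by rw [a3]; exact hL.up_inner1 1
  have g7 : hL.up (adj 4) = C.d 2 := by
    rw [a4, hL.up_inner1 0]
    exact (congrArg (· * C.d 2) T.q_zero).trans (one_mul _)
  have qe : ∀ (x y : G) (v : V3) (k : Fin 3), x = T.q v * C.d k → y = C.d k → x * y = T.q v := fun x y v k h h' => by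
    rw [h, h', mul_assoc, C.d_sq, mul_one]
  have q1 := qe _ _ _ _ g0 g1
  have q2 := qe _ _ _ _ g3 g4
  have q3 := qe _ _ _ _ g6 g7
  have e3 : T.q (0, 0, 1) ∈ Ψ.range := q3 ▸ Ψ.range.mul_mem (hup 3) (hup 4)
  have e1 : T.q (1, 0, 0) ∈ Ψ.range := q1 ▸ Ψ.range.mul_mem (hlow 0) (hlow 1)
  have hC3 : T.centQ (0, 0, 1) ≤ Ψ.range := hL.axis_le _ hlow e3
  have hC1' : T.centQ (0, 0, 1) ≤ Ψ.range.comap (MulAut.conj (T.φ sm)).toMonoidHom := by
    refine hL.axis_le _ (fun k => hup k) ?_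
    show T.φ sm * T.q (0, 0, 1) * (T.φ sm)⁻¹ ∈ Ψ.range
    rw [hL.sm_q]
    exact e1
  have hC1 : T.centQ (1, 0, 0) ≤ Ψ.range := fun g hg => by
    have hq : (T.φ sm)⁻¹ * T.q (1, 0, 0) * T.φ sm = T.q (0, 0, 1) := by
      rw [show T.q (1, 0, 0) = T.φ sm * T.q (0, 0, 1) * (T.φ sm)⁻¹ from (hL.sm_q (0, 0, 1)).symm]
      group
    have h1 : (T.φ sm)⁻¹ * g * T.φ sm ∈ T.centQ (0, 0, 1) := by
      rw [mem_centQ, ← hq]
      calc (T.φ sm)⁻¹ * g * T.φ sm * ((T.φ sm)⁻¹ * T.q (1, 0, 0) * T.φ sm)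
          = (T.φ sm)⁻¹ * (g * T.q (1, 0, 0)) * T.φ sm := by group
        _ = _ := by rw [mem_centQ.1 hg]; group
    have h2 : T.φ sm * ((T.φ sm)⁻¹ * g * T.φ sm) * (T.φ sm)⁻¹ ∈ Ψ.range := hC1' h1
    rwa [show T.φ sm * ((T.φ sm)⁻¹ * g * T.φ sm) * (T.φ sm)⁻¹ = g by group] at h2
  have htm : T.φ tm ∈ Ψ.range := hC3 T.tc.2
  have hJ : ∀ v, T.q v ∈ Ψ.range := fun v => hC3 (T.J_le_centQ _ (T.q_mem v))
  have hsm : T.φ sm ∈ Ψ.range := by
    have h1 : T.φ sm * T.φ tm * (T.φ sm)⁻¹ ∈ Ψ.range := hC1' T.tc.2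
    have h2 := Ψ.range.mul_mem htm h1
    rwa [← map_inv, ← map_mul, ← map_mul, ← map_mul, show tm * (sm * tm * sm⁻¹) = sm by
      rw [← mul_assoc, ← mul_assoc]; exact tm_word] at h2
  have hφ : ∀ m : Wr, T.φ m ∈ Ψ.range := fun m => by
    obtain ⟨i, j, h⟩ := six_words m.k
    rw [wr_split m, h, map_mul, map_mul, map_pow, map_pow]
    exact Ψ.range.mul_mem (hJ _) (Ψ.range.mul_mem (Ψ.range.pow_mem htm _) (Ψ.range.pow_mem hsm _))
  have hfour : ∀ g, g * T.q (1, 1, 0) = T.q (1, 1, 0) * g → g ∈ Ψ.range := fun g hg => by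
    obtain ⟨u, i, j, rfl⟩ := C.pair_form hF hpair hg
    exact Ψ.range.mul_mem (hJ u) (Ψ.range.mul_mem (Ψ.range.pow_mem htm _) (Ψ.range.pow_mem (g7 ▸ hup 4) _))
  refine ⟨Ψ, ?_, fun x hx g hg => ?_⟩
  · rw [← MonoidHom.ker_eq_bot_iff]
    by_contra hne'
    have hA := Equiv.Perm.alternatingGroup_le_of_normal (α := Fin 9) (N := Ψ.ker) (by simp)
      ((Subgroup.nontrivial_iff_ne_bot _).2 hne')
    have h := hA nine_facts.1
    rw [MonoidHom.mem_ker, ← nine_facts.2, map_mul, hgen, hgen, hL.gen_lt (by decide), hL.gen_lt (by decide),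
      show lo 0 = 0 from rfl, show lo 1 = 1 from rfl, q1, ← T.q_zero] at h
    exact absurd (T.q_inj h) (by decide +kernel)
  · obtain ⟨k, c, hc⟩ := conj_rep hx
    obtain ⟨r0, r1, r2⟩ := rep_words (fun i => swap i.castSucc i.succ) fun i => rfl
    set g' := (Ψ c)⁻¹ * g * Ψ c with hg'
    have hg'' : Commute g' (Ψ (rep k)) := by
      have h1 := (Commute.conj_iff (Ψ c)⁻¹).2 hg
      rw [← hc, map_mul, map_mul, map_inv, inv_inv] at h1
      rwa [show (Ψ c)⁻¹ * (Ψ c * Ψ (rep k) * (Ψ c)⁻¹) * Ψ c = Ψ (rep k) by group] at h1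
    have hmem : g' ∈ Ψ.range := by
      have k1 : hL.gen 0 * hL.gen 1 = T.q (1, 0, 0) := by
        rw [hL.gen_lt (by decide), hL.gen_lt (by decide)]; exact q1
      have k2 : hL.gen 3 * hL.gen 4 = T.q (0, 1, 0) := by
        rw [hL.gen_lt (by decide), hL.gen_lt (by decide)]; exact q2
      have k3 : hL.gen 6 * hL.gen 7 = T.q (0, 0, 1) := by
        rw [hL.gen_ge (by decide), hL.gen_ge (by decide)]; exact q3
      match k, hg'' with
      | 0, h =>
        rw [r0, map_mul, hgen, hgen, k1] at h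
        exact hC1 (mem_centQ.2 h)
      | 1, h =>
        rw [r1, map_mul, map_mul, map_mul, hgen, hgen, hgen, hgen, k1, k2, ← T.q_add] at h
        exact hfour g' h
      | 2, h =>
        rw [r2, map_mul, map_mul, map_mul, map_mul, map_mul, hgen, hgen, hgen, hgen, hgen, hgen, k1, k2, k3,
          ← T.q_add, ← T.q_add] at h
        obtain ⟨m, hm⟩ := T.cent_a.1 (show g' * T.a = T.a * g' by rw [← T.q_dia]; exact h)
        exact hm ▸ hφ m
    have h2 := Ψ.range.mul_mem (Ψ.range.mul_mem ⟨c, rfl⟩ hmem) (Ψ.range.inv_mem ⟨c, rfl⟩)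
    rwa [show Ψ c * g' * (Ψ c)⁻¹ = g by rw [hg']; group] at h2

end Cfsg.Agent.Spor.SymNine
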