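import Cfsg.Agent.Lib.Spor.SymNine.Frame
import Cfsg.Agent.Lib.Lie.PSpFourThreeFull.SelfThree

/-!
The centralisers and normalisers of the subgroups of order nine of the base lie in its normaliser.
-/

set_option autoImplicit false
set_option linter.unusedSectionVars false
set_option linter.style.haveILetI false
set_option maxRecDepth 100000
set_option synthInstance.maxSize 4096
set_option synthInstance.maxHeartbeats 200000

namespace Cfsg.Agent.Spor.SymNine

open Cfsg.Agent.Lie.PSpFourThreeAmalgam (V3)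
open Cfsg.Agent.Lie.PSpFourThreeFull (smap smap_add indep smap_three unitV self_three central_complement)

theorem exists_unit : ∀ v w : V3, indep v w → ∃ i : Fin 3, ∀ a b : ZMod 3, a • v + b • w ≠ unitV i := by
  decide +kernel

theorem exists_third (v w : V3) (h : indep v w) : ∃ u : V3, (∀ a b : ZMod 3, a • v + b • w ≠ u) ∧
    ∀ r : V3, ∃ a b c : ZMod 3, r = (a • v + b • w) + c • u := by
  obtain ⟨i, hi⟩ := exists_unit v w h
  refine ⟨unitV i, hi, ?_⟩
  let f : ZMod 3 × ZMod 3 × ZMod 3 → V3 := fun x => (x.1 • v + x.2.1 • w) + x.2.2 • unitV i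
  have hinj : Function.Injective f := by
    rintro ⟨a, b, c⟩ ⟨a', b', c'⟩ e
    simp only [f] at e
    have e1 : (a - a') • v + (b - b') • w = (c' - c) • unitV i := by
      calc (a - a') • v + (b - b') • w
          = (a • v + b • w + c • unitV i) - (a' • v + b' • w) - c • unitV i := by
            rw [sub_smul, sub_smul]; abel
        _ = (a' • v + b' • w + c' • unitV i) - (a' • v + b' • w) - c • unitV i := by rw [e]
        _ = (c' - c) • unitV i := by rw [sub_smul]; abel
    by_cases hc : c' - c = 0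
    · rw [hc, zero_smul] at e1
      obtain ⟨ha, hb⟩ := h _ _ e1
      simp only [sub_eq_zero] at ha hb hc
      rw [ha, hb, hc]
    · exfalso
      obtain ⟨d, hd⟩ : ∃ d : ZMod 3, d * (c' - c) = 1 := (show ∀ t : ZMod 3, t ≠ 0 → ∃ d, d * t = 1 by decide) _ hc
      refine hi (d * (a - a')) (d * (b - b')) ?_
      rw [mul_smul, mul_smul, ← smul_add, e1, smul_smul, hd, one_smul]
  intro r
  obtain ⟨⟨a, b, c⟩, hr⟩ := (Finite.injective_iff_surjective.1 hinj) r
  exact ⟨a, b, c, hr.symm⟩

theorem fix_plane (p : Fin 24 × Bool) {v w : V3} (hv : smap p v = v) (hw : smap p w = w) (hvw : indep v w)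
    {u : V3} (hcoord : ∀ r : V3, ∃ a b c : ZMod 3, r = (a • v + b • w) + c • u) {a b : ZMod 3}
    (hu : smap p u = u + (a • v + b • w)) : ∀ r, smap p r = r := by
  let f : V3 →+ V3 := AddMonoidHom.mk' (smap p) (smap_add p)
  have hsm : ∀ (t : ZMod 3) (y : V3), smap p (t • y) = t • smap p y := fun t y => ZMod.map_smul f t y
  have hd : smap p (a • v + b • w) = a • v + b • w := by rw [smap_add, hsm, hsm, hv, hw]
  refine smap_three v w hvw p hv hw fun r => ?_
  obtain ⟨i, j, k, rfl⟩ := hcoord r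
  have hu3 : smap p (smap p (smap p u)) = u := by
    rw [hu, smap_add, hu, hd, smap_add, smap_add, hu, hd, add_assoc u, add_assoc u]
    have : ∀ d : V3, d + d + d = 0 := by decide
    rw [this, add_zero]
  simp only [smap_add, hsm, hv, hw, hu3]

theorem add_comb (a a' b b' : ZMod 3) (v w : V3) :
    a • v + b • w + (a' • v + b' • w) = (a + a') • v + (b + b') • w := by
  rw [add_smul, add_smul]; abel

theorem sub_comb (a a' b b' : ZMod 3) (v w : V3) :
    (a - a') • v + (b - b') • w = a • v + b • w - (a' • v + b' • w) := by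
  rw [sub_smul, sub_smul]; abel

namespace Conf

variable {G : Type*} [Group G] [Finite G] (T : Conf G)

theorem comm_comb {g : G} {v w : V3} (hv : g * T.q v = T.q v * g) (hw : g * T.q w = T.q w * g) (a b : ZMod 3) :
    g * T.q (a • v + b • w) = T.q (a • v + b • w) * g := by
  rw [T.q_add, T.q_smul, T.q_smul]
  exact (((show Commute g (T.q v) from hv).pow_right _).mul_right ((show Commute g (T.q w) from hw).pow_right _)).eq

theorem acts_conj_comm {g h : G} {f : V3 → V3} (hh : T.Acts h f) {v : V3} (hv : g * T.q v = T.q v * g) :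
    h * g * h⁻¹ * T.q (f v) = T.q (f v) * (h * g * h⁻¹) := by
  rw [← hh]
  calc h * g * h⁻¹ * (h * T.q v * h⁻¹) = h * (g * T.q v) * h⁻¹ := by group
    _ = _ := by rw [hv]; group

namespace Framed

variable {T} {κ : Kind} (hF : T.Framed κ)
include hF

theorem acts_smap {g : G} (hg : g ∈ Subgroup.normalizer (T.J : Set G)) : ∃ p, T.Acts g (smap p) :=
  (hF.dir g hg).imp fun _ h => h.2

/-- The centraliser of two independent elements normalises the subgroup. -/
theorem plane_cent {g : G} {v w : V3} (hvw : indep v w) (h1 : g * T.q v = T.q v * g) (h2 : g * T.q w = T.q w * g) :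
    g ∈ Subgroup.normalizer (T.J : Set G) := by
  haveI : Fact (Nat.Prime 3) := ⟨Nat.prime_three⟩
  obtain ⟨u, hu, hcoord⟩ := exists_third v w hvw
  set X := Subgroup.centralizer ({T.q v, T.q w} : Set G) with hX
  have hmX : ∀ x, x ∈ X ↔ x * T.q v = T.q v * x ∧ x * T.q w = T.q w * x := by
    intro x
    rw [hX, Subgroup.mem_centralizer_iff]
    exact ⟨fun h => ⟨(h _ (Or.inl rfl)).symm, (h _ (Or.inr rfl)).symm⟩,
      fun h y hy => by rcases hy with rfl | rfl; exacts [h.1.symm, h.2.symm]⟩
  have hxy : ∀ x ∈ X, ∀ a b : ZMod 3, x * T.q (a • v + b • w) = T.q (a • v + b • w) * x := by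
    intro x hx a b
    exact T.comm_comb ((hmX x).1 hx).1 ((hmX x).1 hx).2 a b
  have hJX : T.J ≤ X := fun x hx => (hmX x).2 ⟨T.J_comm hx (T.q_mem _), T.J_comm hx (T.q_mem _)⟩
  let ι : Multiplicative (ZMod 3 × ZMod 3) →* X := MonoidHom.mk' (fun x => ⟨T.q (x.toAdd.1 • v + x.toAdd.2 • w), hJX (T.q_mem _)⟩)
    fun x y => Subtype.ext (by simp only [toAdd_mul, Prod.fst_add, Prod.snd_add, Subgroup.coe_mul, ← T.q_add]; rw [add_comb])
  set P := ι.range with hP
  have hPc : Nat.card P = 9 := by
    rw [hP, ← Nat.card_congr (MonoidHom.ofInjective (f := ι) fun x y h => by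
      have h1 := T.q_inj (congrArg Subtype.val h)
      obtain ⟨e1, e2⟩ := hvw (x.toAdd.1 - y.toAdd.1) (x.toAdd.2 - y.toAdd.2) (by
        rw [sub_comb, sub_eq_zero]; exact h1)
      exact Prod.ext (sub_eq_zero.1 e1) (sub_eq_zero.1 e2)).toEquiv, Nat.card_congr Multiplicative.toAdd, Nat.card_prod, Nat.card_zmod]
  have hPmem : ∀ a b, (⟨T.q (a • v + b • w), hJX (T.q_mem _)⟩ : X) ∈ P := fun a b => ⟨Multiplicative.ofAdd (a, b), rfl⟩
  have hPcen : P ≤ Subgroup.center X := by
    rintro _ ⟨x, rfl⟩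
    exact Subgroup.mem_center_iff.2 fun y => Subtype.ext (hxy y y.2 _ _)
  haveI hPn : P.Normal := ⟨fun x hx y => by rwa [Subgroup.mem_center_iff.1 (hPcen hx) y, mul_inv_cancel_right]⟩
  let z : X := ⟨T.q u, hJX (T.q_mem _)⟩
  set zb : X ⧸ P := QuotientGroup.mk z
  have hz3 : zb ^ 3 = 1 := by
    rw [← QuotientGroup.mk_pow, show z ^ 3 = 1 from Subtype.ext (by simpa [z] using T.q_cube u)]
    rfl
  have hz1 : zb ≠ 1 := fun h => by
    obtain ⟨x, hx⟩ := (QuotientGroup.eq_one_iff z).1 h
    exact hu _ _ (T.q_inj (congrArg Subtype.val hx))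
  have hCz : ∀ gb : X ⧸ P, gb * zb = zb * gb → gb ∈ Subgroup.zpowers zb := by
    intro gb hg
    induction gb using QuotientGroup.induction_on with
    | H x =>
      rw [← QuotientGroup.mk_mul, ← QuotientGroup.mk_mul] at hg
      obtain ⟨ww, hw⟩ := (QuotientGroup.eq).1 hg.symm
      have hw' : (x : G) * T.q u * (x : G)⁻¹ = T.q (u + (ww.toAdd.1 • v + ww.toAdd.2 • w)) := by
        have h1 : T.q (ww.toAdd.1 • v + ww.toAdd.2 • w) = ((z * x)⁻¹ * (x * z) : X) := congrArg Subtype.val hw
        simp only [Subgroup.coe_mul, Subgroup.coe_inv, z] at h1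
        rw [T.q_add,
          mul_inv_eq_iff_eq_mul, mul_assoc (T.q u), ← hxy x x.2, h1]
        group
      have hN : (x : G) ∈ Subgroup.normalizer (T.J : Set G) := by
        rw [Subgroup.mem_normalizer_iff_map_conj_eq]
        refine Subgroup.eq_of_le_of_card_ge ?_ (by rw [Subgroup.card_map_of_injective (MulEquiv.injective _)])
        rintro _ ⟨y, hy, rfl⟩
        obtain ⟨r, rfl⟩ := T.mem_J.1 hy
        show (x : G) * T.q r * (x : G)⁻¹ ∈ T.J
        obtain ⟨a, b, c, rfl⟩ := hcoord r
        rw [T.q_add, ← conj_mul, T.q_smul c u,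
          ← conj_pow, hw', hxy x x.2 a b, mul_inv_cancel_right]
        exact T.J.mul_mem (T.q_mem _) (T.J.pow_mem (T.q_mem _) _)
      obtain ⟨p, hp⟩ := hF.acts_smap hN
      have e1 : smap p v = v := (Acts.comm_iff T hp).1 ((hmX x).1 x.2).1
      have e2 : smap p w = w := (Acts.comm_iff T hp).1 ((hmX x).1 x.2).2
      have e3 := T.q_inj ((hp u).symm.trans hw')
      obtain ⟨r, hv⟩ := T.mem_J.1 (T.mem_J_of_acts (show T.Acts (x : G) id from fun u => by
        rw [hp u, fix_plane p e1 e2 hvw hcoord e3 u]; rfl))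
      obtain ⟨a, b, c, rfl⟩ := hcoord r
      refine Subgroup.mem_zpowers_iff.2 ⟨(c.val : ℕ), ?_⟩
      rw [zpow_natCast, ← QuotientGroup.mk_pow]
      refine QuotientGroup.eq.2 ?_
      convert hPmem a b
      simp only [Subgroup.coe_mul, Subgroup.coe_inv, SubgroupClass.coe_pow, z, ← hv]
      rw [← T.q_smul, inv_mul_eq_iff_eq_mul, ← T.q_add]
      congr 1
      abel
  -- no subgroup of order prime to three of the quotient is normalised by the third axis
  have key : ∀ V : Subgroup (X ⧸ P), (Nat.card V).Coprime 3 → zb ∈ Subgroup.normalizer (V : Set (X ⧸ P)) → V = ⊥ := by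
    intro V hV hzV
    set Vh := V.comap (QuotientGroup.mk' P) with hVh
    have hPV : P ≤ Vh := fun x hx => by
      show QuotientGroup.mk' P x ∈ V
      rw [show QuotientGroup.mk' P x = 1 from (QuotientGroup.eq_one_iff x).2 hx]
      exact V.one_mem
    have hPc' : Nat.card (P.subgroupOf Vh) = 9 := by
      rw [Nat.card_congr (Subgroup.subgroupOfEquivOfLe hPV).toEquiv, hPc]
    have hidx : (P.subgroupOf Vh).index = Nat.card V := by
      show P.relIndex Vh = _
      have h := Subgroup.relIndex_ker (f := QuotientGroup.mk' P) Vh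
      rw [QuotientGroup.ker_mk'] at h
      rw [h, hVh, Subgroup.map_comap_eq_self_of_surjective (QuotientGroup.mk'_surjective P)]
    obtain ⟨K, hK, hKc⟩ := central_complement (P.subgroupOf Vh)
      (fun x hx => Subgroup.mem_center_iff.2 fun y => Subtype.ext (Subgroup.mem_center_iff.1 (hPcen hx) (y : X)))
      (by rw [hPc', hidx, show (9 : ℕ) = 3 ^ 2 from rfl]; exact (hV.symm).pow_left 2)
    have hb : (K.map Vh.subtype).map X.subtype = ⊥ := by
      refine T.sig _ ?_ fun j hj => ?_
      · rw [Subgroup.card_map_of_injective X.subtype_injective, Subgroup.card_map_of_injective Vh.subtype_injective,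
          hKc, hidx]
        exact hV
      · obtain ⟨r, rfl⟩ := T.mem_J.1 hj
        set jj : X := ⟨T.q r, hJX (T.q_mem r)⟩
        obtain ⟨a, b, c, hr⟩ := hcoord r
        have hjb : QuotientGroup.mk' P jj = zb ^ c.val := by
          rw [QuotientGroup.mk'_apply, ← QuotientGroup.mk_pow]
          refine QuotientGroup.eq.2 ?_
          convert hPmem (-a) (-b)
          simp only [Subgroup.coe_mul, Subgroup.coe_inv, SubgroupClass.coe_pow, z, jj]
          rw [← T.q_smul, inv_mul_eq_iff_eq_mul, ← T.q_add]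
          congr 1
          rw [hr, neg_smul, neg_smul]
          abel
        have hjV : jj ∈ Subgroup.normalizer (Vh : Set X) := by
          rw [Subgroup.mem_normalizer_iff]
          intro y
          show QuotientGroup.mk' P y ∈ V ↔ QuotientGroup.mk' P (jj * y * jj⁻¹) ∈ V
          rw [map_mul, map_mul, map_inv, hjb]
          exact Subgroup.mem_normalizer_iff.1 (Subgroup.pow_mem _ hzV _) _
        rw [Subgroup.mem_normalizer_iff_map_conj_eq]
        refine Subgroup.eq_of_le_of_card_ge ?_ (le_of_eq ?_)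
        swap
        · exact (Subgroup.card_map_of_injective (f := (MulAut.conj (T.q r)).toMonoidHom)
            (MulEquiv.injective (MulAut.conj (T.q r)))).symm
        rintro _ ⟨_, ⟨_, ⟨x, hx, rfl⟩, rfl⟩, rfl⟩
        refine ⟨_, ⟨⟨jj * x * jj⁻¹, (Subgroup.mem_normalizer_iff.1 hjV _).1 x.2⟩, (hK _).2 ?_, rfl⟩, rfl⟩
        refine Subtype.ext ?_
        rw [SubgroupClass.coe_pow, conj_pow, ← SubgroupClass.coe_pow, (hK x).1 hx]
        simp
    rw [Subgroup.map_eq_bot_iff_of_injective _ X.subtype_injective,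
      Subgroup.map_eq_bot_iff_of_injective _ Vh.subtype_injective] at hb
    rw [hb, Subgroup.card_bot, hidx] at hKc
    exact Subgroup.eq_bot_of_card_eq _ hKc.symm
  -- conclusion
  rcases self_three hz3 hz1 hCz with ⟨N, hN, -, hNco, hNc, -⟩ | ⟨⟨V, hV1, hVc, hVz⟩, -⟩
  · have hNb := key N hNco (by rw [Subgroup.normalizer_eq_top_iff.2 hN]; exact Subgroup.mem_top _)
    rw [hNb, Subgroup.card_bot] at hNc
    have hXc : Nat.card X = Nat.card (X ⧸ P) * 9 := by rw [Subgroup.card_eq_card_quotient_mul_card_subgroup P, hPc]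
    have hi := (T.J.subgroupOf X).card_mul_index
    rw [Nat.card_congr (Subgroup.subgroupOfEquivOfLe hJX).toEquiv, T.card_J, hXc] at hi
    have hn : (T.J.subgroupOf X).Normal := by
      rcases hNc with h | h <;> rw [h] at hi
      · rw [Subgroup.index_eq_one.1 (by omega : (T.J.subgroupOf X).index = 1)]
        infer_instance
      · exact Subgroup.normal_of_index_eq_two (by omega)
    rw [Subgroup.mem_normalizer_iff]
    have hgX : g ∈ X := (hmX g).2 ⟨h1, h2⟩
    intro y
    refine ⟨fun hy => Subgroup.mem_subgroupOf.1 (hn.conj_mem ⟨y, hJX hy⟩ (Subgroup.mem_subgroupOf.2 hy) ⟨g, hgX⟩),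
      fun hy => ?_⟩
    have := Subgroup.mem_subgroupOf.1 (hn.conj_mem ⟨_, hJX hy⟩ (Subgroup.mem_subgroupOf.2 hy) ⟨g⁻¹, X.inv_mem hgX⟩)
    simpa [mul_assoc] using this
  · exact absurd (key V hVc hVz) hV1

/-- The normaliser of such a plane normalises the subgroup. -/
theorem plane_conj {g : G} {v w v' w' : V3} (hvw : indep v w) (hv : g * T.q v * g⁻¹ = T.q v')
    (hw : g * T.q w * g⁻¹ = T.q w') : g ∈ Subgroup.normalizer (T.J : Set G) := by
  have key : ∀ x ∈ T.J, g⁻¹ * x * g ∈ T.J := by
    intro x hx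
    have hc : ∀ {u u' : V3}, g * T.q u * g⁻¹ = T.q u' → g⁻¹ * x * g * T.q u = T.q u * (g⁻¹ * x * g) := by
      intro u u' h
      have h1 := T.J_comm hx (h ▸ T.q_mem u')
      calc g⁻¹ * x * g * T.q u = g⁻¹ * (x * (g * T.q u * g⁻¹)) * g := by group
        _ = _ := by rw [h1]; group
    obtain ⟨p, hp⟩ := hF.acts_smap (hF.plane_cent hvw (hc hv) (hc hw))
    have h3 : (g⁻¹ * x * g) ^ 3 = 1 := by
      obtain ⟨u, rfl⟩ := T.mem_J.1 hx
      rw [show (g⁻¹ * T.q u * g) = g⁻¹ * T.q u * g⁻¹⁻¹ by group, conj_pow, T.q_cube]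
      group
    have hfix := smap_three v w hvw p ((Acts.comm_iff T hp).1 (hc hv)) ((Acts.comm_iff T hp).1 (hc hw)) fun u =>
      T.q_inj (by
        have h4 := Acts.mul T (Acts.mul T hp hp) hp u
        rw [← h4, ← pow_two, ← pow_succ, h3]
        simp)
    exact T.mem_J_of_acts fun u => by rw [hp u, hfix u]; rfl
  rw [← inv_inv g]
  refine Subgroup.inv_mem _ ?_
  rw [Subgroup.mem_normalizer_iff_map_conj_eq]
  refine Subgroup.eq_of_le_of_card_ge ?_ (by rw [Subgroup.card_map_of_injective (MulEquiv.injective _)])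
  rintro _ ⟨x, hx, rfl⟩
  show g⁻¹ * x * g⁻¹⁻¹ ∈ T.J
  rw [inv_inv]
  exact key x hx

end Framed

end Conf

end Cfsg.Agent.Spor.SymNine
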