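import Cfsg.Agent.Lib.Spor.SymNine.FourModel
import Cfsg.Agent.Lib.Spor.SymNine.Planes
import Mathlib.GroupTheory.Transfer

/-!
The monomial case: the normaliser of the base is the whole group.

A transfer of the sign gives a subgroup of index two and a second transfer a subgroup of index three in it, which meets
the normaliser in `3³ : 2²`; the characterisation of the whole group by such a subgroup then applies.
-/

set_option autoImplicit false
set_option linter.unusedSectionVars false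
set_option linter.style.haveILetI false
set_option maxRecDepth 100000
set_option synthInstance.maxSize 4096
set_option synthInstance.maxHeartbeats 200000

namespace Cfsg.Agent.Spor.SymNine

open Cfsg.Agent.Lie.PSpFourThreeAmalgam (V3 mU mT mA mB act act_add eta eta_surj three_conj pT pU pA pB)
open Cfsg.Agent.Lie.PSpFourThreeFull (smap dia ext_additive)
open Cfsg.Agent.Solv.Special (M108)

open MulAction in
/-- The transfer of an element whose nontrivial powers are conjugate into the subgroup only from inside. -/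
theorem transfer_only {G A : Type*} [Group G] [Finite G] [CommGroup A] {H : Subgroup G} (χ : H →* A) {r : G}
    (hrH : r ∈ H) (hfix : ∀ m : ℕ, r ^ m ≠ 1 → ∀ g : G, g⁻¹ * r ^ m * g ∈ H → g ∈ H) :
    MonoidHom.transfer χ r = χ ⟨r, hrH⟩ := by
  classical
  haveI := Fintype.ofFinite (G ⧸ H)
  haveI := Fintype.ofFinite (Quotient (orbitRel (Subgroup.zpowers r) (G ⧸ H)))
  rw [MonoidHom.transfer_eq_prod_quotient_orbitRel_zpowers_quot]
  set b : G ⧸ H := QuotientGroup.mk 1 with hb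
  have hbfix : r • b = b := by
    show QuotientGroup.mk (r * 1) = b
    rw [mul_one, hb, QuotientGroup.eq, mul_one]
    exact H.inv_mem hrH
  set q₀ : Quotient (orbitRel (Subgroup.zpowers r) (G ⧸ H)) := Quotient.mk _ b with hq₀
  have hout : q₀.out = b := by
    obtain ⟨⟨z, k, rfl⟩, hz⟩ := Quotient.mk_out (s := orbitRel (Subgroup.zpowers r) (G ⧸ H)) b
    rw [hq₀, ← hz]
    exact Subgroup.zpow_mem (stabilizer G b) hbfix k
  rw [Finset.prod_eq_single q₀ ?_ (fun h => absurd (Finset.mem_univ q₀) h)]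
  · have hm : Function.minimalPeriod (r • ·) q₀.out = 1 :=
      Function.minimalPeriod_eq_one_iff_isFixedPt.2 (by rw [hout]; exact hbfix)
    have hbo : q₀.out.out ∈ H := by
      have h1 : (QuotientGroup.mk q₀.out.out : G ⧸ H) = QuotientGroup.mk 1 := by
        rw [QuotientGroup.out_eq', hout]
      rw [QuotientGroup.eq, mul_one] at h1
      simpa using H.inv_mem h1
    have he : (⟨q₀.out.out⁻¹ * r ^ Function.minimalPeriod (r • ·) q₀.out * q₀.out.out,
        QuotientGroup.out_conj_pow_minimalPeriod_mem H r q₀.out⟩ : H) =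
          (⟨q₀.out.out, hbo⟩ : H)⁻¹ * ⟨r, hrH⟩ * ⟨q₀.out.out, hbo⟩ := Subtype.ext (by simp [hm])
    rw [he, map_mul, map_mul, map_inv, mul_comm ((χ ⟨q₀.out.out, hbo⟩)⁻¹), inv_mul_cancel_right]
  · intro q _ hq
    by_cases h1 : r ^ Function.minimalPeriod (r • ·) q.out = 1
    · have he : (⟨q.out.out⁻¹ * r ^ Function.minimalPeriod (r • ·) q.out * q.out.out,
          QuotientGroup.out_conj_pow_minimalPeriod_mem H r q.out⟩ : H) = 1 := Subtype.ext (by
        show q.out.out⁻¹ * r ^ Function.minimalPeriod (r • ·) q.out * q.out.out = 1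
        rw [h1]
        group)
      rw [he, map_one]
    · have hg := hfix _ h1 q.out.out (QuotientGroup.out_conj_pow_minimalPeriod_mem H r q.out)
      have hqb : q.out = b := by
        rw [← QuotientGroup.out_eq' q.out, hb, QuotientGroup.eq, mul_one]
        exact H.inv_mem hg
      exact absurd (by rw [hq₀, ← hqb, Quotient.out_eq]) hq

theorem units_sq_cube {u : ℤˣ} (h : u * u * u = 1) : u = 1 := by
  rcases Int.units_eq_one_or u with rfl | rfl
  · rfl
  · exact absurd h (by decide)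

theorem three_sq : ∀ u : Multiplicative (ZMod 3), u * u = 1 → u = 1 := by decide

namespace Conf

variable {G : Type*} [Group G] [Finite G] {T : Conf G}

local notation "N" => Subgroup.normalizer (T.J : Set G)

theorem J_le_N : T.J ≤ N := Subgroup.le_normalizer

theorem inJ_of_mem {m : Wr} (h : T.φ m ∈ T.J) : inJ m := by
  obtain ⟨p, hp, he⟩ := h
  exact T.inj he ▸ mem_Jm.1 hp

theorem acts_unique {g : G} {f e : V3 → V3} (h1 : T.Acts g f) (h2 : T.Acts g e) (v : V3) : f v = e v :=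
  T.q_inj ((h1 v).symm.trans (h2 v))

theorem range_le_N : T.φ.range ≤ N := fun g hg =>
  T.centQ_dia_le (mem_centQ.2 (by rw [T.q_dia]; exact T.cent_a.2 hg))

theorem mem_N_of_comm {g : G} (h : g * T.a = T.a * g) : g ∈ N := range_le_N (T.cent_a.1 h)

namespace Framed

variable (hF : T.Framed .four)
include hF

theorem exists_idx (g : N) : ∃ i : Fin 24, T.Acts (g : G) (act i) := by
  obtain ⟨p, hp, hpv⟩ := hF.dir g g.2
  refine ⟨p.1, fun v => ?_⟩
  rw [hpv v, smap, if_pos (show p.2 = true from hp)]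

theorem exists_acts (i : Fin 24) : ∃ g : G, T.Acts g (act i) := by
  obtain ⟨g, hg⟩ := hF.all (i, true) rfl
  exact ⟨g, hg⟩

/-- The action on the four lines. -/
noncomputable def pim : N →* Equiv.Perm (Fin 4) :=
  MonoidHom.mk' (fun g => eta (hF.exists_idx g).choose) fun g h => by
    obtain ⟨k, hk, he⟩ := act_comp (hF.exists_idx g).choose (hF.exists_idx h).choose
    rw [← he]
    congr 1
    refine act_idx _ _ fun v => ?_
    rw [hk]
    exact acts_unique (hF.exists_idx (g * h)).choose_spec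
      (Acts.mul T (hF.exists_idx g).choose_spec (hF.exists_idx h).choose_spec) v

theorem pim_eq {g : N} {i : Fin 24} (h : T.Acts (g : G) (act i)) : hF.pim g = eta i :=
  congrArg eta (act_idx _ _ fun v => acts_unique (hF.exists_idx g).choose_spec h v)

theorem pim_surj : Function.Surjective hF.pim := fun σ => by
  obtain ⟨i, rfl⟩ := eta_surj σ
  obtain ⟨g, hg⟩ := hF.exists_acts i
  exact ⟨⟨g, Acts.mem_normalizer T hg⟩, hF.pim_eq hg⟩

theorem pim_eq_one {g : N} : hF.pim g = 1 ↔ (g : G) ∈ T.J := by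
  constructor
  · intro h
    obtain ⟨i, hi⟩ := hF.exists_idx g
    rw [hF.pim_eq hi] at h
    obtain rfl := eta_idx i h
    exact T.mem_J_of_acts fun v => by rw [hi, idx_facts.1]; rfl
  · intro h
    rw [← idx_facts.2.1]
    exact hF.pim_eq fun v => by rw [T.acts_of_mem h v, idx_facts.1]; rfl

theorem pim_tm : hF.pim ⟨_, T.tm_normal⟩ = pT := by
  rw [← idx_facts.2.2.2.1]
  exact hF.pim_eq fun v => by rw [idx_facts.2.2.1]; exact T.tm_act' v

theorem pim_sm : hF.pim ⟨_, T.sm_normal⟩ = pU := by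
  rw [← idx_facts.2.2.2.2.2.1]
  exact hF.pim_eq fun v => by rw [idx_facts.2.2.2.2.1]; exact T.sm_act' v

/-- Two commuting involutions acting as sign changes. -/
theorem exists_pair : ∃ A B : G, T.Acts A mA ∧ T.Acts B mB ∧ A * A = 1 ∧ B * B = 1 ∧ A * B = B * A := by
  have inv : ∀ g : G, ∀ f : V3 → V3, T.Acts g f → (∀ v, f (f v) = v) →
      ∃ g' : G, T.Acts g' f ∧ g' * g' = 1 := by
    intro g f hg hf
    obtain ⟨w, hw⟩ := T.mem_J.1 (T.mem_J_of_acts (fun v =>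
      (Acts.mul T hg hg v).trans (congrArg T.q (hf v)) : T.Acts (g * g) id))
    have hfw : f w = w := T.q_inj (mul_right_cancel (b := g) (by
      rw [← Acts.comm T hg, hw]; group))
    have hc : g * T.q w = T.q w * g := by rw [Acts.comm T hg, hfw]
    refine ⟨g * T.q w, fun v => by rw [Acts.mul T hg (T.acts_of_mem (T.q_mem w)) v]; rfl, ?_⟩
    calc g * T.q w * (g * T.q w) = g * g * T.q w * T.q w := by
          rw [mul_assoc g (T.q w), ← mul_assoc (T.q w) g, ← hc]; group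
      _ = T.q w ^ 3 := by rw [← hw, pow_succ, pow_two]
      _ = 1 := T.q_cube w
  obtain ⟨g₁, hg₁⟩ := hF.exists_acts 6
  obtain ⟨g₂, hg₂⟩ := hF.exists_acts 12
  rw [show act 6 = mA from funext idx_facts.2.2.2.2.2.2.1] at hg₁
  rw [show act 12 = mB from funext idx_facts.2.2.2.2.2.2.2.2.1] at hg₂
  obtain ⟨A, hA, hA2⟩ := inv g₁ mA hg₁ (fun v => by simp [mA])
  obtain ⟨B, hB, hB2⟩ := inv g₂ mB hg₂ (fun v => by simp [mB])
  have hAi : A⁻¹ = A := inv_eq_of_mul_eq_one_right hA2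
  have hBi : B⁻¹ = B := inv_eq_of_mul_eq_one_right hB2
  obtain ⟨u, hu⟩ := T.mem_J.1 (T.mem_J_of_acts (fun v => by
    exact (Acts.mul T (Acts.mul T (Acts.mul T hA hB) hA) hB v).trans (congrArg T.q (m_comm v).1) : T.Acts (A * B * A * B) id))
  have hcinv : (A * B * A * B)⁻¹ = B * A * B * A := by
    rw [mul_inv_rev, mul_inv_rev, mul_inv_rev, hAi, hBi]
    simp only [mul_assoc]
  have huA : mA u = -u := T.q_inj (by
    rw [← hA u, T.q_neg, hu, hcinv, hAi]
    simp only [← mul_assoc]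
    rw [hA2, one_mul])
  have huB : mB u = -u := T.q_inj (by
    rw [← hB u, T.q_neg, hu, hcinv, hBi]
    simp only [mul_assoc]
    rw [hB2, mul_one])
  obtain ⟨e1, e2⟩ := both_neg u huA huB
  have hq1 : ∀ w : V3, A * T.q w = T.q (mA w) * A := fun w => Acts.comm T hA
  have hq2 : ∀ w : V3, B * T.q w = T.q (mB w) * B := fun w => Acts.comm T hB
  refine ⟨A, T.q (-u) * B, hA, fun v => by rw [Acts.mul T (T.acts_of_mem (T.q_mem _)) hB v]; rfl, hA2, ?_, ?_⟩
  · calc T.q (-u) * B * (T.q (-u) * B) = T.q (-u) * (B * T.q (-u)) * B := by group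
      _ = T.q (-u + mB (-u)) * (B * B) := by rw [hq2, T.q_add]; group
      _ = 1 := by rw [hB2, e2, T.q_zero, one_mul]
  · have h1 : A * (T.q (-u) * B) * A * (T.q (-u) * B) = 1 := by
      have h2 : A * B * A * T.q (-u) = T.q (mB (-u)) * (A * B * A) := by
        have h3 := Acts.comm T (Acts.mul T (Acts.mul T hA hB) hA) (v := -u)
        rwa [(m_comm _).2] at h3
      calc A * (T.q (-u) * B) * A * (T.q (-u) * B) = (A * T.q (-u)) * B * A * T.q (-u) * B := by group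
        _ = T.q (mA (-u)) * (A * B * A * T.q (-u)) * B := by rw [hq1]; group
        _ = T.q (mA (-u) + mB (-u)) * (A * B * A * B) := by rw [h2, T.q_add]; group
        _ = 1 := by rw [← hu, ← T.q_add, e1, T.q_zero]
    have hBu : (T.q (-u) * B)⁻¹ = T.q (-u) * B := inv_eq_of_mul_eq_one_right (by
      calc T.q (-u) * B * (T.q (-u) * B) = T.q (-u) * (B * T.q (-u)) * B := by group
        _ = T.q (-u + mB (-u)) * (B * B) := by rw [hq2, T.q_add]; group
        _ = 1 := by rw [hB2, e2, T.q_zero, one_mul])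
    have h2 := eq_inv_of_mul_eq_one_left h1
    rw [hBu] at h2
    calc A * (T.q (-u) * B) = A * (T.q (-u) * B) * A * A := by rw [mul_assoc _ A A, hA2, mul_one]
      _ = _ := by rw [h2]

/-- A conjugate of the element commuting with it comes from the normaliser. -/
theorem ctrl_cent {g : G} (hg : g * T.a * g⁻¹ ∈ T.φ.range) : g ∈ N := by
  have hfus : ∀ g : G, g * T.a * g⁻¹ ∈ T.J → g ∈ N := by
    intro g hg
    obtain ⟨n, hn, he⟩ := T.fusion hg
    have h1 : n⁻¹ * g ∈ N := mem_N_of_comm (by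
      calc n⁻¹ * g * T.a = n⁻¹ * (g * T.a * g⁻¹) * g := by group
        _ = T.a * (n⁻¹ * g) := by rw [← he]; group)
    simpa using (Subgroup.normalizer (T.J : Set G)).mul_mem hn h1
  obtain ⟨z, hz⟩ : ∃ z, z = g * T.a * g⁻¹ := ⟨_, rfl⟩
  rw [← hz] at hg
  by_contra hgN
  have hzJ : z ∉ T.J := fun h => hgN (hfus g (hz ▸ h))
  have hza : z * T.a = T.a * z := T.cent_a.2 hg
  obtain ⟨b, hb⟩ : ∃ b, b = g⁻¹ * T.a * g := ⟨_, rfl⟩
  have hba : b * T.a = T.a * b := by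
    calc b * T.a = g⁻¹ * (T.a * z) * g := by rw [hb, hz]; group
      _ = g⁻¹ * (z * T.a) * g := by rw [hza]
      _ = T.a * b := by rw [hb, hz]; group
  have hbJ : b ∉ T.J := fun h => hgN (by
    have h1 := hfus g⁻¹ (by rwa [inv_inv, ← hb])
    simpa using (Subgroup.normalizer (T.J : Set G)).inv_mem h1)
  have tw : ∀ c : G, c ∈ T.φ.range → c ∉ T.J → c ^ 3 = 1 → ∃ x : G, x * c * x⁻¹ = T.a * c ∧
      x * T.a * x⁻¹ = T.a := by
    rintro _ ⟨m, rfl⟩ hm h3
    obtain ⟨v, hv⟩ := base_twist m (fun h => hm ⟨m, mem_Jm.2 h, rfl⟩) (T.inj (by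
      rw [map_mul, map_mul, map_one, ← pow_two, ← pow_succ]; exact h3))
    refine ⟨T.q v, ?_, by rw [T.J_comm (T.q_mem v) T.a_mem, mul_inv_cancel_right]⟩
    rw [q, ← map_inv, ← map_mul, ← map_mul, hv, map_mul]
    rfl
  obtain ⟨X, hXz, hXa⟩ := tw z hg hzJ (by rw [hz, conj_pow, T.a_cube]; group)
  obtain ⟨Y₀, hYb, hYa⟩ := tw b (T.cent_a.1 hba) hbJ (by
    rw [hb, show g⁻¹ * T.a * g = g⁻¹ * T.a * g⁻¹⁻¹ by group, conj_pow, T.a_cube]; group)
  set Y := g * Y₀ * g⁻¹ with hY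
  have hYz : Y * z * Y⁻¹ = z := by
    calc Y * z * Y⁻¹ = g * (Y₀ * T.a * Y₀⁻¹) * g⁻¹ := by rw [hY, hz]; group
      _ = z := by rw [hYa, hz]
  have hYa' : Y * T.a * Y⁻¹ = z * T.a := by
    calc Y * T.a * Y⁻¹ = g * (Y₀ * b * Y₀⁻¹) * g⁻¹ := by rw [hY, hb]; group
      _ = z * T.a := by rw [hYb, hb, hz]; group
  have hY1 : Y⁻¹ * z * Y = z := by
    conv_lhs => rw [← hYz]
    group
  have hY2 : Y⁻¹ * T.a * Y = z⁻¹ * T.a := by
    calc Y⁻¹ * T.a * Y = Y⁻¹ * (z⁻¹ * (z * T.a)) * Y := by group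
      _ = Y⁻¹ * (z⁻¹ * (Y * T.a * Y⁻¹)) * Y := by rw [hYa']
      _ = (Y⁻¹ * z * Y)⁻¹ * T.a := by group
      _ = _ := by rw [hY1]
  set W := X * Y⁻¹ * X with hW
  have hWa : W * T.a * W⁻¹ = z⁻¹ := by
    calc W * T.a * W⁻¹ = X * (Y⁻¹ * (X * T.a * X⁻¹) * Y) * X⁻¹ := by rw [hW]; group
      _ = X * (z⁻¹ * T.a) * X⁻¹ := by rw [hXa, hY2]
      _ = (X * z * X⁻¹)⁻¹ * (X * T.a * X⁻¹) := by group
      _ = z⁻¹ := by rw [hXz, hXa]; group
  have hWz : W * z * W⁻¹ = T.a := by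
    calc W * z * W⁻¹ = X * (Y⁻¹ * (X * z * X⁻¹) * Y) * X⁻¹ := by rw [hW]; group
      _ = X * ((Y⁻¹ * T.a * Y) * (Y⁻¹ * z * Y)) * X⁻¹ := by rw [hXz]; group
      _ = X * (z⁻¹ * (T.a * z)) * X⁻¹ := by rw [hY2, hY1]; group
      _ = X * T.a * X⁻¹ := by rw [← hza]; group
      _ = T.a := hXa
  have hWW : (W * W) * T.a * (W * W)⁻¹ = T.a⁻¹ := by
    calc (W * W) * T.a * (W * W)⁻¹ = W * (W * T.a * W⁻¹) * W⁻¹ := by group
      _ = (W * z * W⁻¹)⁻¹ := by rw [hWa]; group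
      _ = _ := by rw [hWz]
  rcases hF.inverted.1 ⟨_, hWW⟩ with h | h <;> exact absurd h (by decide)

/-- A conjugate of the element in the normaliser comes from the normaliser. -/
theorem ctrl {g : G} (hg : g * T.a * g⁻¹ ∈ N) : g ∈ N := by
  set z : N := ⟨_, hg⟩
  have hz3 : z ^ 3 = 1 := Subtype.ext (by
    show (g * T.a * g⁻¹) ^ 3 = 1
    rw [conj_pow, T.a_cube]
    group)
  by_cases h1 : hF.pim z = 1
  · exact hF.ctrl_cent (Subgroup.map_le_range _ _ (hF.pim_eq_one.1 h1))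
  obtain ⟨c, hc⟩ := three_conj (hF.pim z) (by rw [← map_pow, hz3, map_one]) h1
  obtain ⟨n, rfl⟩ := hF.pim_surj c
  have h2 : hF.pim (n * z * n⁻¹ * (⟨_, T.sm_normal⟩ : N)⁻¹) = 1 := by
    rw [map_mul, map_mul, map_mul, map_inv, map_inv, hc, hF.pim_sm, mul_inv_cancel]
  have h3 : ((n : G) * g) * T.a * ((n : G) * g)⁻¹ ∈ T.φ.range := by
    obtain ⟨m, -, hm⟩ := hF.pim_eq_one.1 h2
    refine ⟨m * sm, ?_⟩
    rw [map_mul, hm]
    show (n : G) * (g * T.a * g⁻¹) * (n : G)⁻¹ * (T.φ sm)⁻¹ * T.φ sm = _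
    group
  have h4 := hF.ctrl_cent h3
  simpa using (Subgroup.normalizer (T.J : Set G)).mul_mem ((Subgroup.normalizer (T.J : Set G)).inv_mem n.2) h4

/-- A subgroup of the normaliser containing the base and a sign change is only normalised inside. -/
theorem le_of_normalising {X : Subgroup G} (hX : X ≤ N) (hJX : T.J ≤ X) {A : G} (hA : T.Acts A mA)
    (hA2 : A * A = 1) (hAX : A ∈ X) {g : G} (hg : ∀ x ∈ X, g * x * g⁻¹ ∈ X) (hg' : ∀ x ∈ X, g⁻¹ * x * g ∈ X) :
    g ∈ N := by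
  have key : T.J.map (MulAut.conj g).toMonoidHom ≤ T.J := by
    rintro _ ⟨j, hj, rfl⟩
    obtain ⟨v, rfl⟩ := T.mem_J.1 hj
    show g * T.q v * g⁻¹ ∈ T.J
    obtain ⟨A', hA'⟩ : ∃ A', A' = g⁻¹ * A * g := ⟨_, rfl⟩
    have hA'N : A' ∈ N := hX (hA' ▸ hg' A hAX)
    have hin : A' * T.q v * A'⁻¹ ∈ T.J := (Subgroup.mem_normalizer_iff.1 hA'N _).1 (T.q_mem v)
    have hA'i : A'⁻¹ = A' := inv_eq_of_mul_eq_one_right (by
      rw [hA', show g⁻¹ * A * g * (g⁻¹ * A * g) = g⁻¹ * (A * A) * g by group, hA2]; group)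
    rw [hA'i] at hin
    set xN : N := ⟨_, hX (hg _ (hJX (T.q_mem v)))⟩
    set AN : N := ⟨A, hX hAX⟩
    have hcom : (xN : G) * (A * xN * A) = A * xN * A * xN := by
      show g * T.q v * g⁻¹ * (A * (g * T.q v * g⁻¹) * A) = A * (g * T.q v * g⁻¹) * A * (g * T.q v * g⁻¹)
      calc g * T.q v * g⁻¹ * (A * (g * T.q v * g⁻¹) * A) = g * (T.q v * (A' * T.q v * A')) * g⁻¹ := by
            rw [hA']; group
        _ = g * ((A' * T.q v * A') * T.q v) * g⁻¹ := by rw [T.J_comm (T.q_mem v) hin]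
        _ = _ := by rw [hA']; group
    have hpA : hF.pim AN = pA := by
      rw [← idx_facts.2.2.2.2.2.2.2.1]
      exact hF.pim_eq fun v => by rw [idx_facts.2.2.2.2.2.2.1]; exact hA v
    have h1 : hF.pim xN = 1 := by
      refine comm_three _ ?_ ?_
      · rw [← map_pow, show xN ^ 3 = 1 from Subtype.ext (by
          show (g * T.q v * g⁻¹) ^ 3 = 1
          rw [conj_pow, T.q_cube]; group), map_one]
      · rw [← hpA, ← map_mul, ← map_mul, ← map_mul, ← map_mul]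
        exact congrArg _ (Subtype.ext hcom)
    exact hF.pim_eq_one.1 h1
  exact Subgroup.mem_normalizer_iff_map_conj_eq.2
    (Subgroup.eq_of_le_of_card_ge key (by rw [Subgroup.card_map_of_injective (MulEquiv.injective _)]))

/-- The transfer of the sign extends the sign of the action. -/
theorem exists_even (hfix : ∀ g : G, g⁻¹ * T.φ tm * g ∈ N → g ∈ N) : ∃ G₀ : Subgroup G, G₀.Normal ∧
    ∀ {x : G} (hx : x ∈ N), x ∈ G₀ ↔ Equiv.Perm.sign (hF.pim ⟨x, hx⟩) = 1 := by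
  classical
  set χ : N →* ℤˣ := Equiv.Perm.sign.comp hF.pim with hχ
  set V := MonoidHom.transfer χ with hV
  have hVt : V (T.φ tm) = -1 := by
    rw [hV, transfer_only χ T.tm_normal ?_, hχ, MonoidHom.comp_apply, hF.pim_tm, sign_facts.1]
    intro m hm g hg
    rcases Nat.even_or_odd m with ⟨k, rfl⟩ | ⟨k, rfl⟩
    · exact absurd (by rw [← two_mul, pow_mul, pow_two, ← map_mul, tm_sq, map_one, one_pow]) hm
    · rw [pow_succ, pow_mul, pow_two, ← map_mul, tm_sq, map_one, one_pow, one_mul] at hg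
      exact hfix g hg
  set f : N →* ℤˣ := V.comp (Subgroup.normalizer (T.J : Set G)).subtype with hf
  have hfJ : ∀ x : N, (x : G) ∈ T.J → f x = 1 := by
    intro x hx
    refine units_sq_cube ?_
    rw [← map_mul, ← map_mul, show x * x * x = 1 from Subtype.ext (by
      obtain ⟨v, hv⟩ := T.mem_J.1 hx
      show (x : G) * x * x = 1
      rw [← hv, ← pow_two, ← pow_succ, T.q_cube]), map_one]
  have hfπ : ∀ x y : N, hF.pim x = hF.pim y → f x = f y := fun x y h => by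
    have h1 := hfJ (x * y⁻¹) (hF.pim_eq_one.1 (by rw [map_mul, map_inv, h, mul_inv_cancel]))
    rwa [map_mul, map_inv, mul_inv_eq_one] at h1
  let f' : Equiv.Perm (Fin 4) →* ℤˣ := MonoidHom.mk' (fun σ => f (hF.pim_surj σ).choose) fun σ τ => by
    rw [← map_mul]
    refine hfπ _ _ ?_
    rw [map_mul, (hF.pim_surj σ).choose_spec, (hF.pim_surj τ).choose_spec, (hF.pim_surj (σ * τ)).choose_spec]
  have hf' : ∀ x : N, f' (hF.pim x) = f x := fun x => hfπ _ _ (hF.pim_surj _).choose_spec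
  have hsgn : ∀ x : N, f x = Equiv.Perm.sign (hF.pim x) := by
    intro x
    rw [← hf', Equiv.Perm.eq_sign_of_surjective_hom (s := f') ?_]
    intro u
    rcases Int.units_eq_one_or u with rfl | rfl
    · exact ⟨1, map_one _⟩
    · exact ⟨hF.pim ⟨_, T.tm_normal⟩, by rw [hf']; exact hVt⟩
  refine ⟨V.ker, inferInstance, fun {x} hx => ?_⟩
  rw [MonoidHom.mem_ker, ← hsgn]
  rfl

variable {A B : G}

set_option maxHeartbeats 800000 in
/-- The second transfer cuts out a subgroup meeting the normaliser in the even sign changes. -/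
theorem exists_signs (hA : T.Acts A mA) (hB : T.Acts B mB) (hA2 : A * A = 1) (hB2 : B * B = 1)
    (G₀ : Subgroup G) (hmem₀ : ∀ {x : G} (hx : x ∈ N), x ∈ G₀ ↔ Equiv.Perm.sign (hF.pim ⟨x, hx⟩) = 1) :
    ∃ X : Subgroup G, (∀ g ∈ G₀, ∀ x ∈ X, g * x * g⁻¹ ∈ X) ∧
      ∀ {x : G} (hx : x ∈ N), x ∈ X ↔ v4 (hF.pim ⟨x, hx⟩) := by
  classical
  have hAN : A ∈ N := Acts.mem_normalizer T hA
  have hBN : B ∈ N := Acts.mem_normalizer T hB
  have hpA : hF.pim ⟨A, hAN⟩ = pA := by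
    rw [← idx_facts.2.2.2.2.2.2.2.1]
    exact hF.pim_eq fun v => by rw [idx_facts.2.2.2.2.2.2.1]; exact hA v
  have hpB : hF.pim ⟨B, hBN⟩ = pB := by
    rw [← idx_facts.2.2.2.2.2.2.2.2.2]
    exact hF.pim_eq fun v => by rw [idx_facts.2.2.2.2.2.2.2.2.1]; exact hB v
  set H₀ := (Subgroup.normalizer (T.J : Set G)).subgroupOf G₀ with hH₀
  let ι : H₀ →* N := MonoidHom.mk' (fun x => ⟨((x : G₀) : G), x.2⟩) fun _ _ => rfl
  have heven : ∀ x : H₀, Equiv.Perm.sign (hF.pim (ι x)) = 1 := fun x => (hmem₀ x.2).1 (x : G₀).2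
  let χ₃ : H₀ →* Multiplicative (ZMod 3) :=
    MonoidHom.mk' (fun x => Multiplicative.ofAdd (c3 (hF.pim (ι x)))) fun x y => by
      rw [map_mul, map_mul, c3_mul _ _ (heven x) (heven y)]
      rfl
  have hnN : T.φ nn ∈ N := range_le_N ⟨nn, rfl⟩
  have hnpi : hF.pim ⟨_, hnN⟩ = pU := by
    rw [show (⟨_, hnN⟩ : N) = ⟨T.q (1, 0, 0), J_le_N (T.q_mem _)⟩ * ⟨_, T.sm_normal⟩ from
      Subtype.ext (map_mul T.φ _ _), map_mul, hF.pim_eq_one.2 (T.q_mem _), one_mul, hF.pim_sm]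
  have hn₀ : T.φ nn ∈ G₀ := (hmem₀ hnN).2 (by rw [hnpi, sign_facts.2.1])
  obtain ⟨V₃, hV₃⟩ : ∃ V : G₀ →* Multiplicative (ZMod 3), V = MonoidHom.transfer χ₃ := ⟨_, rfl⟩
  have hVn : V₃ ⟨_, hn₀⟩ = Multiplicative.ofAdd 1 := by
    rw [hV₃, transfer_only χ₃ (show (⟨_, hn₀⟩ : G₀) ∈ H₀ from hnN) ?_]
    · show Multiplicative.ofAdd (c3 (hF.pim ⟨T.φ nn, hnN⟩)) = _
      rw [hnpi, sign_facts.2.2]
    intro m hm g hg
    have hm9 : m % 9 ≠ 0 := fun h => hm (Subtype.ext (by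
      show T.φ nn ^ m = 1
      rw [← map_pow, ← Nat.mod_add_div m 9, h, zero_add, pow_mul, nn_nine, one_pow, map_one]))
    obtain ⟨j, hj⟩ := nn_pows ⟨m % 9, Nat.mod_lt _ (by norm_num)⟩ (fun h => hm9 (congrArg Fin.val h))
    have hg' : (g : G)⁻¹ * T.φ nn ^ m * (g : G) ∈ N := hg
    have h2 : (g : G)⁻¹ * T.a * (g : G) ∈ N := by
      have h3 := (Subgroup.normalizer (T.J : Set G)).pow_mem hg' j.val
      have h4 : T.φ nn ^ m = T.φ (nn ^ (m % 9)) := by
        rw [← map_pow]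
        congr 1
        conv_lhs => rw [← Nat.mod_add_div m 9, pow_add, pow_mul, nn_nine, one_pow, mul_one]
      have h5 : ((g : G)⁻¹ * T.φ nn ^ m * (g : G)) ^ j.val = (g : G)⁻¹ * T.a * (g : G) := by
        rw [show (g : G)⁻¹ * T.φ nn ^ m * (g : G) = (g : G)⁻¹ * T.φ nn ^ m * (g : G)⁻¹⁻¹ by group, conj_pow, h4,
          ← map_pow, ← pow_mul, hj, inv_inv]
        rfl
      rwa [h5] at h3
    have h6 := hF.ctrl (g := (g : G)⁻¹) (by rwa [inv_inv])
    show (g : G) ∈ N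
    simpa using (Subgroup.normalizer (T.J : Set G)).inv_mem h6
  obtain ⟨f₃, hf₃⟩ : ∃ f : H₀ →* Multiplicative (ZMod 3), ∀ x, f x = V₃ x := ⟨V₃.comp H₀.subtype, fun _ => rfl⟩
  have hin : ∀ {x : G} (hx : x ∈ N), v4 (hF.pim ⟨x, hx⟩) → x ∈ G₀ :=
    fun {x} hx h => (hmem₀ hx).2 (v4_even _ h)
  have hv4A : v4 (hF.pim ⟨A, hAN⟩) := Or.inr (Or.inl hpA)
  have hv4B : v4 (hF.pim ⟨B, hBN⟩) := Or.inr (Or.inr (Or.inl hpB))
  have hA₀ := hin hAN hv4A
  have hB₀ := hin hBN hv4B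
  set a₀ : H₀ := ⟨⟨A, hA₀⟩, hAN⟩
  set b₀ : H₀ := ⟨⟨B, hB₀⟩, hBN⟩
  have hfa : f₃ a₀ = 1 := three_sq _ (by
    rw [← map_mul, show a₀ * a₀ = 1 from Subtype.ext (Subtype.ext hA2), map_one])
  have hfb : f₃ b₀ = 1 := three_sq _ (by
    rw [← map_mul, show b₀ * b₀ = 1 from Subtype.ext (Subtype.ext hB2), map_one])
  have hJ₀ : T.J ≤ G₀ := fun x hx => (hmem₀ (J_le_N hx)).2 (by rw [hF.pim_eq_one.2 hx, map_one])
  let qh : V3 → H₀ := fun v => ⟨⟨T.q v, hJ₀ (T.q_mem v)⟩, J_le_N (T.q_mem v)⟩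
  have hfq : ∀ v, f₃ (qh v) = 1 := by
    intro v
    obtain ⟨w, w', hvw⟩ := sign_images v
    have hqa : ∀ {K : G} {f : V3 → V3} (hK : T.Acts K f) (k₀ : H₀) (_ : ((k₀ : G₀) : G) = K) (w : V3),
        f₃ (qh (f w)) = f₃ (qh w) := by
      intro K f hK k₀ hk w
      rw [show qh (f w) = k₀ * qh w * k₀⁻¹ from Subtype.ext (Subtype.ext (by
        show T.q (f w) = ((k₀ : G₀) : G) * T.q w * ((k₀ : G₀) : G)⁻¹
        rw [hk, hK w])), map_mul, map_mul, map_inv, mul_comm (f₃ k₀), mul_inv_cancel_right]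
    have hadd : ∀ v w, qh (v + w) = qh v * qh w := fun v w => Subtype.ext (Subtype.ext (T.q_add v w))
    have hz : f₃ (qh 0) = 1 := by
      rw [show qh 0 = 1 from Subtype.ext (Subtype.ext T.q_zero), map_one]
    have hneg : ∀ w, f₃ (qh w) * f₃ (qh (-w)) = 1 := fun w => by
      rw [← map_mul, ← hadd, add_neg_cancel, hz]
    rw [hvw, hadd, hadd, hadd, map_mul, map_mul, map_mul, hqa hA a₀ rfl, hqa hB b₀ rfl, hneg, hneg, one_mul]
  have hfker : ∀ x : H₀, f₃ x = 1 ↔ v4 (hF.pim (ι x)) := by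
    have hin4 : ∀ x : H₀, v4 (hF.pim (ι x)) → f₃ x = 1 := by
      intro x hx
      obtain ⟨i, j, hij⟩ := (v4_words _).1 hx
      set k : H₀ := a₀ ^ i.val * b₀ ^ j.val
      have hk : hF.pim (ι k) = pA ^ i.val * pB ^ j.val := by
        rw [map_mul, map_mul, map_pow, map_pow, map_pow, map_pow]
        show hF.pim ⟨A, hAN⟩ ^ i.val * hF.pim ⟨B, hBN⟩ ^ j.val = _
        rw [hpA, hpB]
      have h1 : hF.pim (ι (x * k⁻¹)) = 1 := by rw [map_mul, map_inv, map_mul, map_inv, hk, hij, mul_inv_cancel]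
      obtain ⟨v, hv⟩ := T.mem_J.1 (hF.pim_eq_one.1 h1)
      rw [← inv_mul_cancel_right x k, map_mul, show x * k⁻¹ = qh v from Subtype.ext (Subtype.ext hv.symm), hfq,
        map_mul, map_pow, map_pow, hfa, hfb]
      simp
    intro x
    refine ⟨fun h => ?_, hin4 x⟩
    set n₀ : H₀ := ⟨⟨_, hn₀⟩, hnN⟩
    have hfn : f₃ n₀ = Multiplicative.ofAdd 1 := (hf₃ _).trans hVn
    rcases even_cases _ (heven x) with h1 | h1 | h1
    · exact h1
    · exfalso
      have h2 := hin4 (x * n₀⁻¹) (by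
        rw [map_mul, map_mul, map_inv, map_inv]
        show v4 (_ * (hF.pim ⟨T.φ nn, hnN⟩)⁻¹)
        rwa [hnpi])
      rw [map_mul, map_inv, h, hfn, one_mul, inv_eq_one] at h2
      exact absurd h2 (by decide)
    · exfalso
      have h2 := hin4 (x * n₀) (by
        rw [map_mul, map_mul]
        show v4 (_ * (hF.pim ⟨T.φ nn, hnN⟩))
        rwa [hnpi])
      rw [map_mul, h, hfn, one_mul] at h2
      exact absurd h2 (by decide)
  set X := V₃.ker.map G₀.subtype with hX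
  have hXN : ∀ {x : G} (hx : x ∈ N), x ∈ X ↔ v4 (hF.pim ⟨x, hx⟩) := by
    intro x hx
    constructor
    · rintro ⟨y, hy, rfl⟩
      exact (hfker ⟨y, hx⟩).1 ((hf₃ _).trans (MonoidHom.mem_ker.1 hy))
    · intro h
      exact ⟨⟨x, hin hx h⟩, MonoidHom.mem_ker.2 ((hf₃ _).symm.trans ((hfker ⟨⟨x, hin hx h⟩, hx⟩).2 h)), rfl⟩
  refine ⟨X, ?_, hXN⟩
  rintro g hg _ ⟨y, hy, rfl⟩
  exact ⟨⟨g, hg⟩ * y * ⟨g, hg⟩⁻¹, (inferInstance : V₃.ker.Normal).conj_mem y hy _, rfl⟩

/-- The characterisation by the subgroup of signs. -/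
theorem signs_le (hc : ∀ v : V3, v ≠ 0 → T.centQ v ≤ N) (hA : T.Acts A mA) (hB : T.Acts B mB) (hA2 : A * A = 1)
    (hB2 : B * B = 1) (hAB : A * B = B * A) (X : Subgroup G)
    (hXN : ∀ {x : G} (hx : x ∈ N), x ∈ X ↔ v4 (hF.pim ⟨x, hx⟩)) : T.J ≤ X ∧ A ∈ X ∧ X ≤ N := by
  classical
  haveI := Fintype.ofFinite G
  have hAN : A ∈ N := Acts.mem_normalizer T hA
  have hBN : B ∈ N := Acts.mem_normalizer T hB
  have hpA : hF.pim ⟨A, hAN⟩ = pA := by
    rw [← idx_facts.2.2.2.2.2.2.2.1]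
    exact hF.pim_eq fun v => by rw [idx_facts.2.2.2.2.2.2.1]; exact hA v
  have hpB : hF.pim ⟨B, hBN⟩ = pB := by
    rw [← idx_facts.2.2.2.2.2.2.2.2.2]
    exact hF.pim_eq fun v => by rw [idx_facts.2.2.2.2.2.2.2.2.1]; exact hB v
  have hv4A : v4 (hF.pim ⟨A, hAN⟩) := Or.inr (Or.inl hpA)
  have hv4B : v4 (hF.pim ⟨B, hBN⟩) := Or.inr (Or.inr (Or.inl hpB))
  have hJX : T.J ≤ X := fun x hx => (hXN (J_le_N hx)).2 (Or.inl (hF.pim_eq_one.2 hx))
  have hAX : A ∈ X := (hXN hAN).2 hv4A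
  have hBX : B ∈ X := (hXN hBN).2 hv4B
  set HX := (Subgroup.normalizer (T.J : Set G)).subgroupOf X with hHX
  set Jx := T.J.subgroupOf X with hJx
  let af : M108 → G := fun t => T.q (vec t) * (A ^ ca t * B ^ cb t)
  have hafmem : ∀ t, af t ∈ X ∧ af t ∈ N := fun t =>
    ⟨X.mul_mem (hJX (T.q_mem _)) (X.mul_mem (X.pow_mem hAX _) (X.pow_mem hBX _)),
      (Subgroup.normalizer (T.J : Set G)).mul_mem (J_le_N (T.q_mem _))
        ((Subgroup.normalizer (T.J : Set G)).mul_mem ((Subgroup.normalizer (T.J : Set G)).pow_mem hAN _)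
          ((Subgroup.normalizer (T.J : Set G)).pow_mem hBN _))⟩
  have hpowA : ∀ {K : G} {f : V3 → V3}, T.Acts K f → ∀ n : ℕ, T.Acts (K ^ n) f^[n] := by
    intro K f hK n
    induction n with
    | zero => intro v; simp
    | succ n ih =>
      intro v
      rw [pow_succ, Acts.mul T ih hK v, Function.iterate_succ_apply]
  have hact : ∀ a b : ℕ, T.Acts (A ^ a * B ^ b) fun v => mA^[a] (mB^[b] v) := fun a b =>
    Acts.mul T (hpowA hA a) (hpowA hB b)
  let ψ : M108 →* HX := MonoidHom.mk' (fun t => ⟨⟨af t, (hafmem t).1⟩, (hafmem t).2⟩) fun t u => by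
    refine Subtype.ext (Subtype.ext ?_)
    show af (t * u) = af t * af u
    obtain ⟨hv, ha, hb⟩ := m108_mul t u
    show T.q (vec (t * u)) * (A ^ ca (t * u) * B ^ cb (t * u)) = _
    rw [hv, ha, hb, T.q_add, ← pow_eq_pow_mod (ca t + ca u) (by rw [pow_two, hA2]),
      ← pow_eq_pow_mod (cb t + cb u) (by rw [pow_two, hB2]), pow_add, pow_add]
    calc T.q (vec t) * T.q (mA^[ca t] (mB^[cb t] (vec u))) * (A ^ ca t * A ^ ca u * (B ^ cb t * B ^ cb u))
        = T.q (vec t) * (T.q (mA^[ca t] (mB^[cb t] (vec u))) * A ^ ca t * (A ^ ca u * B ^ cb t) * B ^ cb u) := by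
          simp only [mul_assoc]
      _ = T.q (vec t) * (T.q (mA^[ca t] (mB^[cb t] (vec u))) * (A ^ ca t * B ^ cb t) * A ^ ca u * B ^ cb u) := by
          rw [((show Commute A B from hAB).pow_pow (ca u) (cb t)).eq]
          simp only [mul_assoc]
      _ = T.q (vec t) * ((A ^ ca t * B ^ cb t) * T.q (vec u) * A ^ ca u * B ^ cb u) := by
          rw [← Acts.comm T (hact _ _)]
      _ = _ := by simp only [af, mul_assoc]
  have hπw : ∀ a b : ℕ, a < 2 → b < 2 → ∀ g : N, T.Acts (g : G) (fun v => mA^[a] (mB^[b] v)) →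
      hF.pim g = pA ^ a * pB ^ b := by
    intro a b ha hb g hg
    obtain ⟨i, hi⟩ := sign_exists ⟨a, ha⟩ ⟨b, hb⟩
    rw [hF.pim_eq (i := i) (fun v => (hg v).trans (congrArg T.q (hi v).symm))]
    exact (sign_idx ⟨a, ha⟩ ⟨b, hb⟩ i hi).1
  have hflt : ∀ t : M108, ca t < 2 ∧ cb t < 2 := fun t =>
    have hfl : ∀ d, fl d < 2 := fun d => by cases d <;> simp [fl]
    ⟨hfl _, hfl _⟩
  have hψbij : Function.Bijective ψ := by
    refine ⟨(injective_iff_map_eq_one ψ).2 fun t ht => ?_, fun x => ?_⟩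
    · have h1 : af t = 1 := congrArg (fun y : HX => ((y : X) : G)) ht
      have hQ : A ^ ca t * B ^ cb t = (T.q (vec t))⁻¹ := eq_inv_of_mul_eq_one_right h1
      obtain ⟨ha, hb⟩ := hflt t
      obtain ⟨i, hi⟩ := sign_exists ⟨_, ha⟩ ⟨_, hb⟩
      have hid : ∀ v, act i v = v := fun v => by
        rw [hi]
        exact acts_unique (hact (ca t) (cb t)) (hQ ▸ T.acts_of_mem (T.J.inv_mem (T.q_mem _))) v
      obtain ⟨h2, h3⟩ := (sign_idx ⟨_, ha⟩ ⟨_, hb⟩ i hi).2 hid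
      have h2' : ca t = 0 := congrArg Fin.val h2
      have h3' : cb t = 0 := congrArg Fin.val h3
      refine m108_inj t h2' h3' (T.q_inj ?_)
      rw [T.q_zero, ← h1]
      show T.q (vec t) = T.q (vec t) * (A ^ ca t * B ^ cb t)
      rw [h2', h3', pow_zero, pow_zero, mul_one, mul_one]
    · have hxN : ((x : X) : G) ∈ N := x.2
      obtain ⟨a, b, hab⟩ := (v4_words _).1 ((hXN hxN).1 (x : X).2)
      have hkN : A ^ a.val * B ^ b.val ∈ N :=
        Acts.mem_normalizer T (hact a.val b.val)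
      obtain ⟨v, hv⟩ := T.mem_J.1 (hF.pim_eq_one.1 (show hF.pim (⟨_, hxN⟩ * (⟨_, hkN⟩ : N)⁻¹) = 1 by
        rw [map_mul, map_inv, hab, hπw a.val b.val a.2 b.2 ⟨_, hkN⟩ (hact _ _), mul_inv_cancel]))
      obtain ⟨t, e1, e2, e3⟩ := m108_surj v a b
      refine ⟨t, Subtype.ext (Subtype.ext ?_)⟩
      show T.q (vec t) * (A ^ ca t * B ^ cb t) = _
      rw [e1, e2, e3, hv]
      show ((x : X) : G) * (A ^ a.val * B ^ b.val)⁻¹ * (A ^ a.val * B ^ b.val) = _
      rw [inv_mul_cancel_right]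
  have htop : HX = ⊤ := by
    refine Cfsg.Agent.Solv.Special.Emb.eq_top (T := Jx) (e := (MulEquiv.ofBijective ψ hψbij).symm)
      ⟨fun x hx => J_le_N hx, ?_, ?_, fun t ht ht1 x hx => ?_⟩
    · rw [hJx, Nat.card_congr (Subgroup.subgroupOfEquivOfLe hJX).toEquiv, T.card_J]
    · ext x
      show x ∈ Subgroup.normalizer (Jx : Set X) ↔ (x : G) ∈ N
      rw [Subgroup.mem_normalizer_iff, Subgroup.mem_normalizer_iff]
      constructor
      · intro h y
        constructor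
        · intro hy
          exact (h ⟨y, hJX hy⟩).1 hy
        · intro hy
          have hyX : y ∈ X := by
            have := X.mul_mem (X.mul_mem (X.inv_mem x.2) (hJX hy)) x.2
            simpa [mul_assoc] using this
          exact (h ⟨y, hyX⟩).2 hy
      · intro h y
        exact h y
    · obtain ⟨v, hv⟩ := T.mem_J.1 (show (t : G) ∈ T.J from ht)
      have hv0 : v ≠ 0 := fun h => ht1 (Subtype.ext (by rw [← hv, h, T.q_zero]; rfl))
      refine hc v hv0 (mem_centQ.2 ?_)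
      rw [hv]
      exact congrArg Subtype.val (Subgroup.mem_centralizer_singleton_iff.1 hx)
  have hXle : X ≤ N := fun x hx => (show (⟨x, hx⟩ : X) ∈ HX by rw [htop]; exact Subgroup.mem_top _)
  exact ⟨hJX, hAX, hXle⟩

/-- The normaliser is the whole group. -/
theorem four_normal (hc : ∀ v : V3, v ≠ 0 → T.centQ v ≤ N)
    (hfix : ∀ g : G, g⁻¹ * T.φ tm * g ∈ N → g ∈ N) : N = ⊤ := by
  obtain ⟨A, B, hA, hB, hA2, hB2, hAB⟩ := hF.exists_pair
  have hAN : A ∈ N := Acts.mem_normalizer T hA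
  have hpA : hF.pim ⟨A, hAN⟩ = pA := by
    rw [← idx_facts.2.2.2.2.2.2.2.1]
    exact hF.pim_eq fun v => by rw [idx_facts.2.2.2.2.2.2.1]; exact hA v
  obtain ⟨G₀, hnorm, hmem₀⟩ := hF.exists_even hfix
  obtain ⟨X, hXG, hXN⟩ := hF.exists_signs hA hB hA2 hB2 G₀ hmem₀
  obtain ⟨hJX, hAX, hXle⟩ := hF.signs_le hc hA hB hA2 hB2 hAB X hXN
  have hJ₀ : T.J ≤ G₀ := fun x hx => (hmem₀ (J_le_N hx)).2 (by rw [hF.pim_eq_one.2 hx, map_one])
  have hA₀ : A ∈ G₀ := (hmem₀ hAN).2 (v4_even _ (Or.inr (Or.inl hpA)))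
  have hG₀N : G₀ ≤ N := fun g hg => hF.le_of_normalising hXle hJX hA hA2 hAX (hXG g hg) fun x hx => by
    simpa using hXG g⁻¹ (G₀.inv_mem hg) x hx
  rw [eq_top_iff]
  intro g _
  refine hF.le_of_normalising hG₀N hJ₀ hA hA2 hA₀ (fun x hx => hnorm.conj_mem x hx g) fun x hx => ?_
  simpa using hnorm.conj_mem x hx g⁻¹

end Framed

end Conf

end Cfsg.Agent.Spor.SymNine
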