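import Cfsg.Agent.Lib.Spor.SymNine.TopModel
import Cfsg.Agent.Lib.Spor.AltNine.Top.Main
import Cfsg.Agent.Lib.Lie.PSpFourThreeFull.EightSig
import Cfsg.Agent.S0111

/-!
A finite group with a copy of the symmetric group of degree nine containing the centralisers of all its elements of
order three is that copy.
-/

set_option autoImplicit false
set_option maxRecDepth 100000
set_option linter.unusedSectionVars false

namespace Cfsg.Agent.Spor.SymNine.Top

open Equiv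
open Cfsg.Agent.Spor.AltNine.Top

/-- An element of order five, respectively nine, centralises. -/
def HasFive (x : P9) : Prop := ∃ z : P9, z ^ 5 = 1 ∧ z ≠ 1 ∧ z * x = x * z
/-- An element of order nine centralises. -/
def HasNine (x : P9) : Prop := ∃ z : P9, z ^ 9 = 1 ∧ z ^ 3 ≠ 1 ∧ z * x = x * z

theorem five_pb : ¬ HasFive pb := fun ⟨z, hz, hz1, hc⟩ => hz1
  (of_comm [pb] (fun q => q ^ 5 = 1 → q = 1) cb_five
    (fun g hg => by rw [List.mem_singleton] at hg; subst hg; exact hc.symm) hz)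

theorem five_pc : ¬ HasFive pc := fun ⟨z, hz, hz1, hc⟩ => hz1
  (cc_five (fun g hg => by rw [List.mem_singleton] at hg; subst hg; exact hc.symm) hz)

theorem nine_pb : ¬ HasNine pb := fun ⟨z, hz, hz3, hc⟩ => hz3
  (cb_nine (fun g hg => by rw [List.mem_singleton] at hg; subst hg; exact hc.symm) hz)

theorem five_pa : HasFive pa := ⟨pf5, small_facts.2.1.1, small_facts.2.1.2.1, small_facts.2.1.2.2.symm⟩

theorem nine_pc : HasNine pc := ⟨pn, pn_facts.1, pn_facts.2.1, pn_facts.2.2⟩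

theorem cube_reps : pa ^ 3 = 1 ∧ pa ≠ 1 ∧ pb ^ 3 = 1 ∧ pb ≠ 1 ∧ pc ^ 3 = 1 ∧ pc ≠ 1 := by
  obtain ⟨-, -, -, -, -, -, -, -, -, -, -, -, -, -, -, -, -, -, -, -, -, ha, hb, hc, -, -, ha3, hb3, hc3, -⟩ :=
    gen_facts
  exact ⟨ha3, ha, hb3, hb, hc3, hc⟩

theorem mem_wlist {d : P9} (hd : d ∈ Subgroup.closure ({w1, w2, w3} : Set P9)) : d ∈ wlist := by
  induction hd using Subgroup.closure_induction with
  | mem x hx => rcases hx with rfl | rfl | rfl <;> simp [wlist]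
  | one => simp [wlist]
  | mul x y _ _ hx hy => exact wlist_mul x hx y hy
  | inv x _ hx => rwa [inv_eq_of_mul_eq_one_right (wlist_sq x hx)]

theorem wlist_mem {d : P9} (hd : d ∈ wlist) : d ∈ Subgroup.closure ({w1, w2, w3} : Set P9) := by
  have h1 : w1 ∈ Subgroup.closure ({w1, w2, w3} : Set P9) := Subgroup.subset_closure (by simp)
  have h2 : w2 ∈ Subgroup.closure ({w1, w2, w3} : Set P9) := Subgroup.subset_closure (by simp)
  have h3 : w3 ∈ Subgroup.closure ({w1, w2, w3} : Set P9) := Subgroup.subset_closure (by simp)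
  simp only [wlist, List.mem_cons, List.not_mem_nil, or_false] at hd
  rcases hd with rfl | rfl | rfl | rfl | rfl | rfl | rfl | rfl
  exacts [one_mem _, h1, h2, h3, mul_mem h1 h2, mul_mem h1 h3, mul_mem h2 h3, mul_mem (mul_mem h1 h2) h3]

/-- Every involution centralises an element of order three. -/
theorem involution_three {a : P9} (h2 : a * a = 1) (h1 : a ≠ 1) :
    ∃ x : P9, x ^ 3 = 1 ∧ x ≠ 1 ∧ x * a = a * x := by
  haveI : Fact (Nat.Prime 2) := ⟨Nat.prime_two⟩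
  have ho : orderOf a = 2 := orderOf_eq_prime (by rw [pow_two]; exact h2) h1
  obtain ⟨n, hn⟩ := Equiv.Perm.cycleType_prime_order (σ := a) (by rw [ho]; exact Nat.prime_two)
  rw [ho] at hn
  have hsum := a.sum_cycleType_le
  rw [hn, Multiset.sum_replicate, Fintype.card_fin, smul_eq_mul] at hsum
  have t1 : Equiv.Perm.cycleType w1 = Multiset.replicate 1 2 := by decide +kernel
  have t2 : Equiv.Perm.cycleType (w1 * w2) = Multiset.replicate 2 2 := by decide +kernel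
  have t3 : Equiv.Perm.cycleType (w1 * w2 * w3) = Multiset.replicate 3 2 := by decide +kernel
  have t4 : Equiv.Perm.cycleType pt = Multiset.replicate 4 2 := by decide +kernel
  obtain ⟨hx1, hx2, hx3, hdt, hx, hx', hd, hd', -⟩ := reps_three
  have key : ∀ (r x : P9), a.cycleType = r.cycleType → x ^ 3 = 1 → x ≠ 1 → x * r = r * x →
      ∃ x : P9, x ^ 3 = 1 ∧ x ≠ 1 ∧ x * a = a * x := by
    intro r x hct h3 hne hc
    obtain ⟨σ, hσ⟩ := isConj_iff.1 (Equiv.Perm.isConj_iff_cycleType_eq.2 hct)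
    refine ⟨σ⁻¹ * x * σ, ?_, fun e => hne ?_, ?_⟩
    · have h5 := conj_pow (a := σ⁻¹) (b := x) (i := 3)
      rw [inv_inv] at h5
      rw [h5, h3]; group
    · calc x = σ * (σ⁻¹ * x * σ) * σ⁻¹ := by group
        _ = 1 := by rw [e]; group
    · rw [← hσ] at hc
      calc σ⁻¹ * x * σ * a = σ⁻¹ * (x * (σ * a * σ⁻¹)) * σ := by group
        _ = σ⁻¹ * (σ * a * σ⁻¹ * x) * σ := by rw [hc]
        _ = _ := by group
  obtain rfl | rfl | rfl | rfl : n = 0 ∨ n = 1 ∨ n = 2 ∨ n = 3 := by omega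
  · exact key w1 px (hn.trans t1.symm) hx hx' hx1
  · exact key (w1 * w2) px (hn.trans t2.symm) hx hx' hx2
  · exact key (w1 * w2 * w3) px (hn.trans t3.symm) hx hx' hx3
  · exact key pt pd (hn.trans t4.symm) hd hd' hdt

/-- The hypothesis. -/
structure SCopy (G : Type*) [Group G] where
  Ψ : P9 →* G
  inj : Function.Injective Ψ
  cent' : ∀ x, orderOf x = 3 → ∀ g : G, Commute g (Ψ x) → g ∈ Ψ.range

namespace SCopy

variable {G : Type*} [Group G] [Finite G] (c : SCopy G)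

/-- The copy. -/
def K : Subgroup G := c.Ψ.range

theorem mem (x : P9) : c.Ψ x ∈ c.K := ⟨x, rfl⟩

theorem psi_eq_one {x : P9} (h : c.Ψ x = 1) : x = 1 := c.inj (h.trans (map_one _).symm)

theorem cent {x : P9} (h3 : x ^ 3 = 1) (h1 : x ≠ 1) {g : G} (hg : g * c.Ψ x = c.Ψ x * g) : g ∈ c.K :=
  haveI : Fact (Nat.Prime 3) := ⟨Nat.prime_three⟩
  c.cent' x (orderOf_eq_prime h3 h1) g hg

theorem transport {x y : P9} {k : G} (hy3 : y ^ 3 = 1) (hy1 : y ≠ 1) (h : k⁻¹ * c.Ψ x * k = c.Ψ y) {z : P9}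
    (hz : z * x = x * z) : ∃ w : P9, w * y = y * w ∧ ∀ n : ℕ, w ^ n = 1 ↔ z ^ n = 1 := by
  have hcx : c.Ψ z * c.Ψ x = c.Ψ x * c.Ψ z := by rw [← map_mul, ← map_mul, hz]
  have he : k⁻¹ * c.Ψ z * k * (k⁻¹ * c.Ψ x * k) = k⁻¹ * c.Ψ x * k * (k⁻¹ * c.Ψ z * k) := by
    calc k⁻¹ * c.Ψ z * k * (k⁻¹ * c.Ψ x * k) = k⁻¹ * (c.Ψ z * c.Ψ x) * k := by group
      _ = k⁻¹ * (c.Ψ x * c.Ψ z) * k := by rw [hcx]
      _ = _ := by group
  obtain ⟨w, hw⟩ := c.cent hy3 hy1 (g := k⁻¹ * c.Ψ z * k) (by rw [← h]; exact he)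
  refine ⟨w, c.inj ?_, fun n => ?_⟩
  · rw [map_mul, map_mul, hw, ← h]
    exact he
  · have h2 := conj_pow (a := k⁻¹) (b := c.Ψ z) (i := n)
    rw [inv_inv, ← hw, ← map_pow, ← map_pow] at h2
    constructor
    · intro hn
      rw [hn, map_one] at h2
      refine c.psi_eq_one ?_
      calc c.Ψ (z ^ n) = k * (k⁻¹ * c.Ψ (z ^ n) * k) * k⁻¹ := by group
        _ = 1 := by rw [← h2]; group
    · intro hn
      rw [hn, map_one] at h2
      refine c.psi_eq_one ?_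
      rw [h2]; group

theorem ctl {x : P9} (h3 : x ^ 3 = 1) (h1 : x ≠ 1) {g : G} (hg : g⁻¹ * c.Ψ x * g ∈ c.K) : g ∈ c.K := by
  obtain ⟨y, hy⟩ := hg
  have hy3 : y ^ 3 = 1 := c.psi_eq_one (by
    have h2 := conj_pow (a := g⁻¹) (b := c.Ψ x) (i := 3)
    rw [inv_inv] at h2
    rw [map_pow, hy, h2, ← map_pow, h3, map_one]; group)
  have hy1 : y ≠ 1 := fun e => h1 (c.psi_eq_one (by
    rw [e, map_one] at hy
    calc c.Ψ x = g * (g⁻¹ * c.Ψ x * g) * g⁻¹ := by group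
      _ = 1 := by rw [← hy]; group))
  obtain ⟨σ, hσ⟩ := three_classes h3 h1
  obtain ⟨τ, hτ⟩ := three_classes hy3 hy1
  have key : ∀ r r' : P9, r ^ 3 = 1 → r ≠ 1 → r' ^ 3 = 1 → r' ≠ 1 →
      (σ : P9) * x * (σ : P9)⁻¹ = r → (τ : P9) * y * (τ : P9)⁻¹ = r' →
      ((HasFive r ↔ HasFive r') → (HasNine r ↔ HasNine r') → r = r') → g ∈ c.K := by
    intro r r' hr3 hr1 hr3' hr1' hr hr' hsep
    set k := c.Ψ σ * g * c.Ψ (τ : P9)⁻¹ with hkdef
    have hk : k⁻¹ * c.Ψ r * k = c.Ψ r' := by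
      rw [hkdef, ← hr, ← hr', map_mul, map_mul, map_mul, map_mul, map_inv, map_inv, hy]
      group
    have hk' : k⁻¹⁻¹ * c.Ψ r' * k⁻¹ = c.Ψ r := by rw [← hk]; group
    have tr : ∀ (x y : P9) (k : G), y ^ 3 = 1 → y ≠ 1 → k⁻¹ * c.Ψ x * k = c.Ψ y →
        (HasFive x → HasFive y) ∧ (HasNine x → HasNine y) := by
      intro x y k hy3 hy1 hk
      constructor
      · rintro ⟨z, hz5, hz1, hz⟩
        obtain ⟨w, hw, hwn⟩ := c.transport hy3 hy1 hk hz
        exact ⟨w, (hwn 5).2 hz5, fun e => hz1 (by simpa using (hwn 1).1 (by rw [e, one_pow])), hw⟩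
      · rintro ⟨z, hz9, hz3, hz⟩
        obtain ⟨w, hw, hwn⟩ := c.transport hy3 hy1 hk hz
        exact ⟨w, (hwn 9).2 hz9, fun e => hz3 ((hwn 3).1 e), hw⟩
    obtain ⟨f1, n1⟩ := tr r r' k hr3' hr1' hk
    obtain ⟨f2, n2⟩ := tr r' r k⁻¹ hr3 hr1 hk'
    obtain rfl := hsep ⟨f1, f2⟩ ⟨n1, n2⟩
    have hcomm : k ∈ c.K := c.cent hr3 hr1 (by
      conv_lhs => rw [← hk]
      group)
    have h2 : g = (c.Ψ σ)⁻¹ * k * c.Ψ τ := by rw [hkdef, map_inv]; group
    rw [h2]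
    exact c.K.mul_mem (c.K.mul_mem (c.K.inv_mem (c.mem _)) hcomm) (c.mem _)
  obtain ⟨a3, a1, b3, b1, c3, c1⟩ := cube_reps
  rcases hσ with hr | hr | hr <;> rcases hτ with hr' | hr' | hr'
  · exact key pa pa a3 a1 a3 a1 hr hr' fun _ _ => rfl
  · exact key pa pb a3 a1 b3 b1 hr hr' fun h _ => absurd (h.1 five_pa) five_pb
  · exact key pa pc a3 a1 c3 c1 hr hr' fun h _ => absurd (h.1 five_pa) five_pc
  · exact key pb pa b3 b1 a3 a1 hr hr' fun h _ => absurd (h.2 five_pa) five_pb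
  · exact key pb pb b3 b1 b3 b1 hr hr' fun _ _ => rfl
  · exact key pb pc b3 b1 c3 c1 hr hr' fun _ h => absurd (h.2 nine_pc) nine_pb
  · exact key pc pa c3 c1 a3 a1 hr hr' fun h _ => absurd (h.2 five_pa) five_pc
  · exact key pc pb c3 c1 b3 b1 hr hr' fun _ h => absurd (h.1 nine_pc) nine_pb
  · exact key pc pc c3 c1 c3 c1 hr hr' fun _ _ => rfl

/-- A three-subgroup meeting the copy in an element of order three lies in it. -/
theorem three_sub {P : Subgroup G} (hP : IsPGroup 3 P) {x : P9} (h3 : x ^ 3 = 1) (h1 : x ≠ 1)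
    (hx : c.Ψ x ∈ P) : P ≤ c.K := by
  haveI : Fact (Nat.Prime 3) := ⟨Nat.prime_three⟩
  haveI : Nontrivial P := ⟨⟨c.Ψ x, hx⟩, 1, fun e => h1 (c.psi_eq_one (congrArg Subtype.val e))⟩
  haveI := hP.center_nontrivial
  obtain ⟨n, hn, hcard⟩ := (hP.to_subgroup (Subgroup.center P)).nontrivial_iff_card.1 inferInstance
  obtain ⟨z, hz⟩ := exists_prime_orderOf_dvd_card' (G := Subgroup.center P) 3
    (by rw [hcard]; exact dvd_pow_self 3 hn.ne')
  have hzo : orderOf ((z : P) : G) = 3 := by rw [Subgroup.orderOf_coe, Subgroup.orderOf_coe, hz]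
  have hcomm : ∀ p ∈ P, p * ((z : P) : G) = ((z : P) : G) * p := fun p hp =>
    congrArg Subtype.val (Subgroup.mem_center_iff.1 z.2 ⟨p, hp⟩)
  obtain ⟨y, hy⟩ := c.cent h3 h1 (hcomm _ hx).symm
  have hy3 : y ^ 3 = 1 := c.psi_eq_one (by rw [map_pow, hy, ← hzo, pow_orderOf_eq_one])
  have hy1 : y ≠ 1 := fun e => by
    rw [e, map_one] at hy
    rw [← hy, orderOf_one] at hzo
    norm_num at hzo
  intro p hp
  exact c.cent hy3 hy1 (by rw [hy]; exact hcomm p hp)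

/-- The copy controls fusion of elements centralising elements of order three. -/
theorem fusion {a b x y : P9} (hx3 : x ^ 3 = 1) (hx1 : x ≠ 1) (hxa : x * a = a * x) (hy3 : y ^ 3 = 1)
    (hy1 : y ≠ 1) (hyb : y * b = b * y) {g : G} (h : g * c.Ψ a * g⁻¹ = c.Ψ b) :
    ∃ σ : P9, σ * a * σ⁻¹ = b := by
  haveI : Fact (Nat.Prime 3) := ⟨Nat.prime_three⟩
  set M := Subgroup.centralizer ({c.Ψ b} : Set G) with hM
  have hyM : c.Ψ y ∈ M := by rw [hM, Subgroup.mem_centralizer_singleton_iff, ← map_mul, ← map_mul, hyb]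
  have hxM : g * c.Ψ x * g⁻¹ ∈ M := by
    rw [hM, Subgroup.mem_centralizer_singleton_iff, ← h]
    calc g * c.Ψ x * g⁻¹ * (g * c.Ψ a * g⁻¹) = g * (c.Ψ x * c.Ψ a) * g⁻¹ := by group
      _ = g * (c.Ψ a * c.Ψ x) * g⁻¹ := by rw [← map_mul, ← map_mul, hxa]
      _ = _ := by group
  have hp : ∀ (m : M), m ^ 3 = 1 → IsPGroup 3 (Subgroup.zpowers m) := fun m hm => by
    obtain ⟨j, -, hj⟩ := (Nat.dvd_prime_pow Nat.prime_three).1 (orderOf_dvd_of_pow_eq_one hm : orderOf m ∣ 3 ^ 1)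
    exact IsPGroup.of_card (n := j) (by rw [Nat.card_zpowers, hj])
  obtain ⟨P, hP⟩ := (hp ⟨c.Ψ y, hyM⟩ (Subtype.ext (by
    show c.Ψ y ^ 3 = 1
    rw [← map_pow, hy3, map_one]))).exists_le_sylow
  obtain ⟨Q, hQ⟩ := (hp ⟨_, hxM⟩ (Subtype.ext (by
    show (g * c.Ψ x * g⁻¹) ^ 3 = 1
    rw [conj_pow, ← map_pow, hx3, map_one]; group))).exists_le_sylow
  obtain ⟨k, hk⟩ := MulAction.exists_smul_eq M Q P
  have hPK : (P : Subgroup M).map M.subtype ≤ c.K :=
    c.three_sub (P.isPGroup'.map _) hy3 hy1 ⟨⟨c.Ψ y, hyM⟩, hP (Subgroup.mem_zpowers _), rfl⟩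
  have hin : k * ⟨_, hxM⟩ * k⁻¹ ∈ (P : Subgroup M) := by
    rw [← hk, Sylow.coe_subgroup_smul]
    exact ⟨⟨_, hxM⟩, hQ (Subgroup.mem_zpowers _), rfl⟩
  have hin' : (k : G) * (g * c.Ψ x * g⁻¹) * (k : G)⁻¹ ∈ c.K := hPK ⟨_, hin, rfl⟩
  obtain ⟨σ, hσ⟩ := c.ctl hx3 hx1 (g := ((k : G) * g)⁻¹) (by
    convert hin' using 1
    group)
  refine ⟨σ⁻¹, c.inj ?_⟩
  rw [inv_inv, map_mul, map_mul, map_inv, hσ, inv_inv]
  have hkb : (k : G) * c.Ψ b = c.Ψ b * k := Subgroup.mem_centralizer_singleton_iff.1 k.2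
  calc (k : G) * g * c.Ψ a * ((k : G) * g)⁻¹ = k * (g * c.Ψ a * g⁻¹) * (k : G)⁻¹ := by group
    _ = c.Ψ b := by rw [h, hkb, mul_inv_cancel_right]

theorem gen_le (E : Subgroup P9) (hEc : ∀ a ∈ E, ∀ b ∈ E, a * b = b * a) (hE3 : ∀ a ∈ E, a ^ 3 = 1)
    (hcard : Nat.card E = 9) (N : Subgroup G) (hnorm : ∀ a ∈ E, c.Ψ a ∈ Subgroup.normalizer (N : Set G))
    (hco : (Nat.card N).Coprime 3) : N ≤ c.K := by
  haveI : Fact (Nat.Prime 3) := ⟨Nat.prime_three⟩
  set A := E.map c.Ψ with hA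
  have hAc : IsMulCommutative A := ⟨⟨fun a b => Subtype.ext (by
    obtain ⟨a', ha', hae⟩ := a.2
    obtain ⟨b', hb', hbe⟩ := b.2
    show (a : G) * b = b * a
    rw [← hae, ← hbe, ← map_mul, ← map_mul, hEc a' ha' b' hb'])⟩⟩
  have hAN : A ≤ Subgroup.normalizer (N : Set G) := by
    rintro _ ⟨a, ha, rfl⟩; exact hnorm a ha
  have hAcard : Nat.card A = 9 := by rw [hA, Subgroup.card_map_of_injective c.inj, hcard]
  have hcop : (Nat.card A).Coprime (Nat.card N) := by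
    rw [hAcard, show 9 = 3 ^ 2 from rfl]; exact hco.symm.pow_left _
  intro x hx
  rw [← Solv.gen_eq A N hAc hAN hcop] at hx
  refine (iSup₂_le (fun B hB => ?_) : (⨆ B ∈ Solv.CycQuot A, N ⊓ Subgroup.centralizer (B : Set G)) ≤ c.K) hx
  obtain ⟨hBA, a, ha, hBa⟩ := hB
  have hB : B ≠ ⊥ := fun h0 => by
    rw [h0, bot_sup_eq] at hBa
    obtain ⟨a', ha', rfl⟩ := ha
    have h1 : Nat.card (Subgroup.zpowers (c.Ψ a')) ∣ 3 := by
      rw [Nat.card_zpowers]
      exact orderOf_dvd_of_pow_eq_one (by rw [← map_pow, hE3 a' ha', map_one])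
    rw [hBa, hAcard] at h1
    norm_num at h1
  obtain ⟨b, hb, hb1⟩ : ∃ b ∈ B, b ≠ 1 := (B.ne_bot_iff_exists_ne_one.1 hB).elim fun b hb =>
    ⟨b, b.2, fun h => hb (Subtype.ext h)⟩
  obtain ⟨b', hb', rfl⟩ := hBA hb
  intro g hg
  exact c.cent (hE3 b' hb') (fun h => hb1 (by rw [h, map_one]))
    (Subgroup.mem_centralizer_iff.1 hg.2 _ hb).symm

/-- The centraliser of three disjoint transpositions. -/
theorem cw_le {g : G} (h1 : g * c.Ψ w1 = c.Ψ w1 * g) (h2 : g * c.Ψ w2 = c.Ψ w2 * g)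
    (h3 : g * c.Ψ w3 = c.Ψ w3 * g) : g ∈ c.K := by
  haveI : Fact (Nat.Prime 3) := ⟨Nat.prime_three⟩
  haveI : Fact (Nat.Prime 2) := ⟨Nat.prime_two⟩
  obtain ⟨hw11, hw22, hw33, hx1', hx2', hx3', hw44, hw41, hw42, hw43⟩ := w_facts
  obtain ⟨hd1', hd2', hd3', hwc3, hwc1⟩ := w_act
  obtain ⟨-, -, -, -, hx3, hx1, hd3, hd1, -⟩ := reps_three
  set W := Subgroup.closure ({w1, w2, w3} : Set P9) with hW
  obtain ⟨M, hM⟩ : ∃ M : Subgroup G, M = Subgroup.centralizer ((W.map c.Ψ : Subgroup G) : Set G) := ⟨_, rfl⟩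
  have hmemM : ∀ m : G, m ∈ M ↔
      m * c.Ψ w1 = c.Ψ w1 * m ∧ m * c.Ψ w2 = c.Ψ w2 * m ∧ m * c.Ψ w3 = c.Ψ w3 * m := by
    intro m
    rw [hM, hW, MonoidHom.map_closure, Subgroup.centralizer_closure]
    simp only [Subgroup.mem_centralizer_iff, Set.image_insert_eq, Set.image_singleton, Set.mem_insert_iff,
      Set.mem_singleton_iff, forall_eq_or_imp, forall_eq]
    exact ⟨fun h => ⟨h.1.symm, h.2.1.symm, h.2.2.symm⟩, fun h => ⟨h.1.symm, h.2.1.symm, h.2.2.symm⟩⟩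
  have hpsi : ∀ z : P9, z * w1 = w1 * z → z * w2 = w2 * z → z * w3 = w3 * z → c.Ψ z ∈ M := fun z a b d =>
    (hmemM _).2 ⟨by rw [← map_mul, ← map_mul, a], by rw [← map_mul, ← map_mul, b], by rw [← map_mul, ← map_mul, d]⟩
  suffices hle : M ≤ c.K from hle ((hmemM g).2 ⟨h1, h2, h3⟩)
  have hWle : W.map c.Ψ ≤ M := by
    rintro _ ⟨d, hd, rfl⟩
    have hcd : ∀ e ∈ wlist, d * e = e * d := fun e he => by
      have hdl := mem_wlist hd
      have hde := wlist_sq _ (wlist_mul d hdl e he)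
      calc d * e = (d * e)⁻¹ := (inv_eq_of_mul_eq_one_right hde).symm
        _ = e * d := by
          rw [mul_inv_rev, inv_eq_of_mul_eq_one_right (wlist_sq e he), inv_eq_of_mul_eq_one_right (wlist_sq d hdl)]
    exact hpsi d (hcd w1 (by simp [wlist])) (hcd w2 (by simp [wlist])) (hcd w3 (by simp [wlist]))
  set D := (W.map c.Ψ).subgroupOf M with hD
  have hDp : IsPGroup 2 D := by
    intro x
    refine ⟨1, Subtype.ext (Subtype.ext ?_)⟩
    obtain ⟨d, hd, he⟩ := Subgroup.mem_subgroupOf.1 x.2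
    rw [pow_one, pow_two]
    show ((x : M) : G) * ((x : M) : G) = 1
    change c.Ψ d = ((x : M) : G) at he
    rw [← he, ← map_mul, wlist_sq d (mem_wlist hd), map_one]
  have hDc : D ≤ Subgroup.center M := fun x hx => Subgroup.mem_center_iff.2 fun m => Subtype.ext (by
    have hm : (m : G) ∈ Subgroup.centralizer ((W.map c.Ψ : Subgroup G) : Set G) := hM.le m.2
    rw [Subgroup.mem_centralizer_iff] at hm
    exact (hm _ (Subgroup.mem_subgroupOf.1 hx)).symm)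
  have hxe : c.Ψ px ∈ M := hpsi px hx1' hx2' hx3'
  have hwe : c.Ψ w4 ∈ M := hpsi w4 hw41 hw42 hw43
  have he3 : (⟨c.Ψ px, hxe⟩ : M) ^ 3 = 1 :=
    Subtype.ext ((map_pow c.Ψ px 3).symm.trans (by rw [hx3, map_one]; rfl))
  have he1 : (⟨c.Ψ px, hxe⟩ : M) ≠ 1 := fun h => hx1 (c.psi_eq_one (congrArg Subtype.val h))
  have hCe : ∀ x : M, x * ⟨c.Ψ px, hxe⟩ = ⟨c.Ψ px, hxe⟩ * x →
      ∃ d ∈ D, ∃ i : ℕ, x = d * (⟨c.Ψ px, hxe⟩ : M) ^ i := by
    intro x hx
    have hx' : (x : G) * c.Ψ px = c.Ψ px * x := congrArg Subtype.val hx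
    obtain ⟨y, hy⟩ := c.cent hx3 hx1 hx'
    obtain ⟨a, b, d⟩ := (hmemM _).1 x.2
    rw [← hy, ← map_mul, ← map_mul] at a b d hx'
    obtain ⟨e, he, i, hei⟩ := cw_px (q := y) (by
        intro g hg
        simp only [List.mem_cons, List.not_mem_nil, or_false] at hg
        rcases hg with rfl | rfl | rfl | rfl
        exacts [(c.inj a).symm, (c.inj b).symm, (c.inj d).symm, (c.inj hx').symm])
    have heW : c.Ψ e ∈ W.map c.Ψ := Subgroup.mem_map_of_mem _ (wlist_mem he)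
    exact ⟨⟨c.Ψ e, hWle heW⟩, Subgroup.mem_subgroupOf.2 heW, i.val, Subtype.ext (by
      rw [Subgroup.coe_mul, SubgroupClass.coe_pow, ← hy, hei, map_mul, map_pow])⟩
  obtain ⟨E, hE9, hdE, hxE, hEc, hE3, hEle⟩ := nine (x := px) (y := pd) hx3 hx1 hd3 hd1
    small_facts.2.2.2.2.2.2.2.2.symm
    (fun i h => by
      rw [pow_eq_pow_mod i hx3] at h
      exact pf_indep.2 ⟨i % 3, Nat.mod_lt _ (by norm_num)⟩ h)
  have hnorm : ∀ a ∈ E, c.Ψ a ∈ Subgroup.normalizer (M : Set G) := by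
    refine hEle ((Subgroup.normalizer (M : Set G)).comap c.Ψ) ?_ ?_
    · exact Subgroup.le_normalizer hxe
    · show c.Ψ pd ∈ Subgroup.normalizer (M : Set G)
      refine Subgroup.mem_normalizer_iff.2 fun m => ?_
      have conj : ∀ (k m : G) (u u' : P9), k * c.Ψ u * k⁻¹ = c.Ψ u' → m * c.Ψ u = c.Ψ u * m →
          k * m * k⁻¹ * c.Ψ u' = c.Ψ u' * (k * m * k⁻¹) := by
        intro k m u u' hu hm
        rw [← hu]
        calc k * m * k⁻¹ * (k * c.Ψ u * k⁻¹) = k * (m * c.Ψ u) * k⁻¹ := by group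
          _ = k * (c.Ψ u * m) * k⁻¹ := by rw [hm]
          _ = _ := by group
      have e1 : c.Ψ pd * c.Ψ w1 * (c.Ψ pd)⁻¹ = c.Ψ w2 := by rw [← hd1', map_mul, map_mul, map_inv]
      have e2 : c.Ψ pd * c.Ψ w2 * (c.Ψ pd)⁻¹ = c.Ψ w3 := by rw [← hd2', map_mul, map_mul, map_inv]
      have e3 : c.Ψ pd * c.Ψ w3 * (c.Ψ pd)⁻¹ = c.Ψ w1 := by rw [← hd3', map_mul, map_mul, map_inv]
      rw [hmemM, hmemM]
      constructor
      · rintro ⟨a, b, d⟩
        exact ⟨conj _ m w3 w1 e3 d, conj _ m w1 w2 e1 a, conj _ m w2 w3 e2 b⟩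
      · rintro ⟨a, b, d⟩
        have back : ∀ u u' : P9, c.Ψ pd * c.Ψ u * (c.Ψ pd)⁻¹ = c.Ψ u' →
            c.Ψ pd * m * (c.Ψ pd)⁻¹ * c.Ψ u' = c.Ψ u' * (c.Ψ pd * m * (c.Ψ pd)⁻¹) →
            m * c.Ψ u = c.Ψ u * m := by
          intro u u' hu hm
          have h := conj (c.Ψ pd)⁻¹ (c.Ψ pd * m * (c.Ψ pd)⁻¹) u' u (by rw [← hu]; group) hm
          simpa [mul_assoc] using h
        exact ⟨back w1 w2 e1 b, back w2 w3 e2 d, back w3 w1 e3 a⟩
  obtain ⟨k, hk⟩ := IsPGroup.iff_card.1 hDp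
  have hbad : ∀ (a ℓ : ℕ) [Fact ℓ.Prime], (ℓ = 5 ∨ ℓ = 7) → Nat.card M ≠ 2 ^ a * 3 * ℓ := by
    intro a ℓ _ hℓ hc
    obtain ⟨y, hy, hy1, hdvd⟩ := Lie.PSpFourThreeFull.exists_central_prime (M := M) (E := E.map c.Ψ)
      (by rintro _ ⟨e, he, rfl⟩; exact hnorm e he) (by rw [Subgroup.card_map_of_injective c.inj, hE9]) hℓ hc
    obtain ⟨e, he, rfl⟩ := hy
    obtain ⟨⟨m, hm⟩, hmo⟩ := exists_prime_orderOf_dvd_card' ℓ hdvd
    rw [Subgroup.orderOf_mk] at hmo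
    obtain ⟨hmM, hmc⟩ := hm
    obtain ⟨z, hz⟩ := c.cent (hE3 e he) (fun h => hy1 (by rw [h, map_one]))
      (Subgroup.mem_centralizer_singleton_iff.1 hmc)
    obtain ⟨a', b', d'⟩ := (hmemM _).1 hmM
    rw [← hz, ← map_mul, ← map_mul] at a' b' d'
    have hz6 : z ^ 6 = 1 := cw_exp (q := z) (by
      intro g hg
      simp only [List.mem_cons, List.not_mem_nil, or_false] at hg
      rcases hg with rfl | rfl | rfl
      exacts [(c.inj a').symm, (c.inj b').symm, (c.inj d').symm])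
    have h6 : m ^ 6 = 1 := by rw [← hz, ← map_pow, hz6, map_one]
    have := orderOf_dvd_of_pow_eq_one h6
    rw [hmo] at this
    rcases hℓ with rfl | rfl <;> norm_num at this
  rcases local_cases D hDp hDc he3 he1 hCe with ⟨N, hN, hbig, hco, -, hq⟩ | ⟨N, hN, -, hN2, ⟨eq⟩⟩ | h168
  · have hNK : N.map M.subtype ≤ c.K := c.gen_le E hEc hE3 hE9 _
      (fun a ha => Copy.big_normalizer hN hbig hco (hnorm a ha))
      (by rw [Subgroup.card_map_of_injective M.subtype_injective]; exact hco)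
    have hxN : (⟨c.Ψ px, hxe⟩ : M) ∉ N := fun h => he1 (eq_one_of_coprime h he3 hco)
    have hw2 : (⟨c.Ψ w4, hwe⟩ : M) ^ 2 = 1 := Subtype.ext (by
      show c.Ψ w4 ^ 2 = 1
      rw [← map_pow, pow_two, hw44, map_one])
    have hwN : (⟨c.Ψ w4, hwe⟩ : M) ∉ N := fun h => by
      have hcN : (⟨c.Ψ px, hxe⟩ * ⟨c.Ψ w4, hwe⟩ * (⟨c.Ψ px, hxe⟩ : M)⁻¹ * (⟨c.Ψ w4, hwe⟩ : M)⁻¹) ∈ N :=
        N.mul_mem (hN.conj_mem _ h _) (N.inv_mem h)
      have h1 := congrArg Subtype.val (eq_one_of_coprime hcN (n := 3) (Subtype.ext (by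
        show (c.Ψ px * c.Ψ w4 * (c.Ψ px)⁻¹ * (c.Ψ w4)⁻¹) ^ 3 = 1
        rw [← map_inv, ← map_inv, ← map_mul, ← map_mul, ← map_mul, ← map_pow, hwc3, map_one])) hco)
      have h2 : c.Ψ (px * w4 * px⁻¹ * w4⁻¹) = 1 := by
        rw [map_mul, map_mul, map_mul, map_inv, map_inv]; exact h1
      exact hwc1 (c.psi_eq_one h2)
    set R := (c.K.subgroupOf M).map (QuotientGroup.mk' N) with hR
    have ord : ∀ (x : M) (p : ℕ), p.Prime → x ^ p = 1 → x ∉ N → (x : G) ∈ c.K → p ∣ Nat.card R := by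
      intro x p hp hxp hxN' hxK
      haveI := Fact.mk hp
      have hx : (x : M ⧸ N) ≠ 1 := fun h => hxN' ((QuotientGroup.eq_one_iff x).1 h)
      have hpow : (x : M ⧸ N) ^ p = 1 := by rw [← QuotientGroup.mk_pow, hxp, QuotientGroup.mk_one]
      have := orderOf_dvd_natCard (G := R) ⟨(x : M ⧸ N), ⟨x, Subgroup.mem_subgroupOf.2 hxK, rfl⟩⟩
      rw [← Subgroup.orderOf_coe] at this
      exact (orderOf_eq_prime hpow hx) ▸ this
    have h6 : 6 ∣ Nat.card R :=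
      Nat.Coprime.mul_dvd_of_dvd_of_dvd (by norm_num : Nat.Coprime 2 3)
        (ord _ 2 Nat.prime_two hw2 hwN (c.mem _)) (ord _ 3 Nat.prime_three he3 hxN (c.mem _))
    have htop : R = ⊤ := by
      refine Subgroup.eq_top_of_card_eq _ (Nat.dvd_antisymm (Subgroup.card_subgroup_dvd_card _) ?_)
      rcases small_card hq with h | h <;> rw [h]
      · exact (by norm_num : 3 ∣ 6).trans h6
      · exact h6
    intro m hm
    obtain ⟨j, hj, hjm⟩ : ((⟨m, hm⟩ : M) : M ⧸ N) ∈ R := htop ▸ Subgroup.mem_top _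
    have hjN : j⁻¹ * ⟨m, hm⟩ ∈ N := QuotientGroup.eq.1 hjm
    have h := c.K.mul_mem (Subgroup.mem_subgroupOf.1 hj) (hNK ⟨_, hjN, rfl⟩)
    simpa using h
  · exfalso
    obtain ⟨j, hj⟩ := IsPGroup.iff_card.1 hN2
    haveI : Fact (Nat.Prime 5) := ⟨by norm_num⟩
    refine hbad (j + 2) 5 (Or.inl rfl) ?_
    rw [Subgroup.card_eq_card_quotient_mul_card_subgroup N, hj, Nat.card_congr eq.toEquiv,
      nat_card_alternatingGroup, Nat.card_fin, show Nat.factorial 5 / 2 = 60 from rfl]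
    ring
  · exfalso
    haveI : Fact (Nat.Prime 7) := ⟨by norm_num⟩
    refine hbad (k + 3) 7 (Or.inr rfl) ?_
    rw [h168, hk]
    ring

/-- Elements normalising a Sylow two-subgroup of the copy lie in it. -/
theorem norm_sylow {S : Subgroup P9} (hw1 : w1 ∈ S) (hw2 : w2 ∈ S) (hw3 : w3 ∈ S) {g : G}
    (hg : g ∈ Subgroup.normalizer ((S.map c.Ψ : Subgroup G) : Set G)) : g ∈ c.K := by
  obtain ⟨hx1', hx2', hx3', -, -, -, -, -, -⟩ := reps_three
  obtain ⟨hw11, hw22, hw33, hxw1, hxw2, hxw3, -⟩ := w_facts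
  obtain ⟨-, -, -, -, hx3, hx1, -⟩ := reps_three
  have img_swap : ∀ w : P9, w ∈ S → w * w = 1 → w ≠ 1 → mv w = 2 → px * w = w * px →
      ∃ a : P9, g⁻¹ * c.Ψ w * g = c.Ψ a ∧ mv a = 2 := by
    intro w hw hww hw1' hmv hxw
    obtain ⟨a, -, ha⟩ := (Subgroup.mem_normalizer_iff''.1 hg (c.Ψ w)).1 (Subgroup.mem_map_of_mem _ hw)
    have ha2 : a * a = 1 := c.psi_eq_one (by
      rw [map_mul, ha]
      calc g⁻¹ * c.Ψ w * g * (g⁻¹ * c.Ψ w * g) = g⁻¹ * (c.Ψ w * c.Ψ w) * g := by group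
        _ = 1 := by rw [← map_mul, hww, map_one]; group)
    have ha1 : a ≠ 1 := fun e => hw1' (c.psi_eq_one (by
      rw [e, map_one] at ha
      calc c.Ψ w = g * (g⁻¹ * c.Ψ w * g) * g⁻¹ := by group
        _ = 1 := by rw [← ha]; group))
    obtain ⟨y, hy3, hy1, hya⟩ := involution_three ha2 ha1
    obtain ⟨σ, hσ⟩ := c.fusion hx3 hx1 hxw hy3 hy1 hya (g := g⁻¹) (by rw [inv_inv]; exact ha.symm)
    exact ⟨a, ha.symm, by rw [← hσ, mv_conj]; exact hmv⟩
  obtain ⟨a, hag, ha⟩ := img_swap w1 hw1 hw11 (by decide) (by decide +kernel) hxw1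
  obtain ⟨b, hbg, hb⟩ := img_swap w2 hw2 hw22 (by decide) (by decide +kernel) hxw2
  obtain ⟨d, hdg, hd⟩ := img_swap w3 hw3 hw33 (by decide) (by decide +kernel) hxw3
  -- three transpositions fix three points
  set T := (Finset.univ.filter fun i => a i ≠ i) ∪ (Finset.univ.filter fun i => b i ≠ i) ∪
    (Finset.univ.filter fun i => d i ≠ i) with hT
  have hTc : T.card ≤ 6 := by
    refine (Finset.card_union_le _ _).trans ((Nat.add_le_add_right (Finset.card_union_le _ _) _).trans ?_)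
    rw [show (Finset.univ.filter fun i => a i ≠ i).card = 2 from ha,
      show (Finset.univ.filter fun i => b i ≠ i).card = 2 from hb,
      show (Finset.univ.filter fun i => d i ≠ i).card = 2 from hd]
  have h3 : 2 < Tᶜ.card := by rw [Finset.card_compl, Fintype.card_fin]; omega
  obtain ⟨i, hi, j, hj, k, hk, hij, hik, hjk⟩ := Finset.two_lt_card.1 h3
  set x : P9 := Equiv.swap i j * Equiv.swap j k with hx
  have hx3' : x ^ 3 = 1 ∧ x ≠ 1 := by
    have key : ∀ i j k : Fin 9, i ≠ j → i ≠ k → j ≠ k →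
        (Equiv.swap i j * Equiv.swap j k : P9).IsThreeCycle := fun i j k h1 h2 h3 => by
      have h := Equiv.Perm.isThreeCycle_swap_mul_swap_same h1.symm h3 h2
      rwa [Equiv.swap_comm i j]
    have h := key i j k hij hik hjk
    refine ⟨?_, fun e => ?_⟩
    · rw [hx, ← h.orderOf, pow_orderOf_eq_one]
    · have := h.orderOf
      rw [← hx, e, orderOf_one] at this
      norm_num at this
  have hfix : ∀ l : Fin 9, l ∈ Tᶜ → a l = l ∧ b l = l ∧ d l = l := fun l hl => by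
    simpa [hT, not_or] using hl
  have comm : ∀ w : P9, w i = i → w j = j → w k = k → x * w = w * x := fun w h1 h2 h3 => by
    rw [hx, mul_assoc, fixed_commute h2 h3, ← mul_assoc, fixed_commute h1 h2, mul_assoc]
  have push : ∀ w a : P9, g⁻¹ * c.Ψ w * g = c.Ψ a → x * a = a * x →
      g * c.Ψ x * g⁻¹ * c.Ψ w = c.Ψ w * (g * c.Ψ x * g⁻¹) := by
    intro w a hw hc
    calc g * c.Ψ x * g⁻¹ * c.Ψ w = g * (c.Ψ x * (g⁻¹ * c.Ψ w * g)) * g⁻¹ := by group
      _ = g * (g⁻¹ * c.Ψ w * g * c.Ψ x) * g⁻¹ := by rw [hw, ← map_mul, hc, map_mul]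
      _ = _ := by group
  have hm : g * c.Ψ x * g⁻¹ ∈ c.K := c.cw_le
    (push w1 a hag (comm a (hfix i hi).1 (hfix j hj).1 (hfix k hk).1))
    (push w2 b hbg (comm b (hfix i hi).2.1 (hfix j hj).2.1 (hfix k hk).2.1))
    (push w3 d hdg (comm d (hfix i hi).2.2 (hfix j hj).2.2 (hfix k hk).2.2))
  have := c.ctl hx3'.1 hx3'.2 (g := g⁻¹) (by rw [inv_inv]; exact hm)
  exact (c.K.inv_mem_iff).1 this

theorem K_eq_top : c.K = ⊤ := by
  classical
  haveI : Fact (Nat.Prime 2) := ⟨Nat.prime_two⟩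
  obtain ⟨hw11, -, -, hxw1, -⟩ := w_facts
  obtain ⟨-, -, -, hdt, hx3, hx1, hd3, hd1, hau⟩ := reps_three
  have hW : IsPGroup 2 (Subgroup.closure ({w1, w2, w3} : Set P9)) := fun x =>
    ⟨1, Subtype.ext (by rw [SubgroupClass.coe_pow, pow_one, pow_two]; exact wlist_sq _ (mem_wlist x.2))⟩
  obtain ⟨S, hS⟩ := hW.exists_le_sylow
  have hw1 : w1 ∈ (S : Subgroup P9) := hS (Subgroup.subset_closure (by simp))
  have hw2 : w2 ∈ (S : Subgroup P9) := hS (Subgroup.subset_closure (by simp))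
  have hw3 : w3 ∈ (S : Subgroup P9) := hS (Subgroup.subset_closure (by simp))
  obtain ⟨T, hT⟩ := (S.isPGroup'.map c.Ψ).exists_le_sylow
  have hTS : (T : Subgroup G) = (S : Subgroup P9).map c.Ψ := by
    refine le_antisymm ?_ hT
    by_contra hne
    have hlt : ((S : Subgroup P9).map c.Ψ).subgroupOf (T : Subgroup G) ≠ ⊤ := fun e =>
      hne (Subgroup.subgroupOf_eq_top.1 e)
    haveI := T.isPGroup'.isNilpotent
    have h := Group.normalizerCondition_of_isNilpotent (G := (T : Subgroup G)) _ (lt_top_iff_ne_top.2 hlt)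
    obtain ⟨t, ht, htS⟩ := SetLike.exists_of_lt h
    have htn : (t : G) ∈ Subgroup.normalizer (((S : Subgroup P9).map c.Ψ : Subgroup G) : Set G) := by
      have h2 := Subgroup.le_normalizer_map (T : Subgroup G).subtype ⟨t, ht, rfl⟩
      rwa [Subgroup.map_subgroupOf_eq_of_le hT] at h2
    obtain ⟨σ, hσ⟩ := c.norm_sylow hw1 hw2 hw3 htn
    have hp : IsPGroup 2 ((T : Subgroup G).comap c.Ψ) := T.isPGroup'.comap_of_injective c.Ψ c.inj
    have hSle : (S : Subgroup P9) ≤ (T : Subgroup G).comap c.Ψ := Subgroup.map_le_iff_le_comap.1 hT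
    have hσS : σ ∈ (S : Subgroup P9) := by
      rw [← S.is_maximal' hp hSle, Subgroup.mem_comap, hσ]
      exact t.2
    exact htS (Subgroup.mem_subgroupOf.2 ⟨σ, hσS, hσ⟩)
  -- transfer
  set Q := ((alternatingGroup (Fin 9)) ⊓ (S : Subgroup P9)).map c.Ψ with hQ
  have hQT : Q ≤ (T : Subgroup G) := by rw [hTS]; exact Subgroup.map_mono inf_le_right
  have hsw : Equiv.Perm.sign w1 = -1 := Equiv.Perm.sign_swap (by decide)
  have hQi : Q.relIndex (T : Subgroup G) = 2 := by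
    rw [hTS, hQ, Subgroup.relIndex_map_map_of_injective _ _ c.inj, Subgroup.inf_relIndex_right, Subgroup.relIndex]
    refine Subgroup.index_eq_two_iff.2 ⟨⟨w1, hw1⟩, fun b => ?_⟩
    simp only [Subgroup.mem_subgroupOf, Equiv.Perm.mem_alternatingGroup, Subgroup.coe_mul, map_mul, hsw]
    rcases Int.units_eq_one_or (Equiv.Perm.sign (b : P9)) with hb | hb <;> rw [hb] <;> decide
  have hu1 : w1 ≠ 1 := fun e => by rw [e, map_one] at hsw; exact absurd hsw (by decide)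
  have hu : orderOf (c.Ψ w1) = 2 := orderOf_eq_prime (by rw [pow_two, ← map_mul, hw11, map_one])
    (fun e => hu1 (c.psi_eq_one e))
  have huQ : c.Ψ w1 ∉ Q := by
    rintro ⟨p, ⟨hp, -⟩, hpe⟩
    rw [c.inj hpe] at hp
    rw [Equiv.Perm.mem_alternatingGroup.1 hp] at hsw
    exact absurd hsw (by decide)
  rcases S0111.result T Q hQT hQi (c.Ψ w1) hu (by rw [hTS]; exact Subgroup.mem_map_of_mem _ hw1) huQ with
    ⟨M, hMn, hMi, huM⟩ | ⟨g, p, ⟨hp, -⟩, hpe⟩
  · haveI := hMn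
    have hM' : M.comap c.Ψ = alternatingGroup (Fin 9) := by
      apply Equiv.Perm.eq_alternatingGroup_of_index_eq_two
      rw [Subgroup.index_comap]
      have h2 : M.relIndex c.Ψ.range ∣ 2 := hMi ▸ M.relIndex_dvd_index_of_normal c.Ψ.range
      refine ((Nat.dvd_prime Nat.prime_two).1 h2).resolve_left fun h1 => huM ?_
      exact Subgroup.relIndex_eq_one.1 h1 ⟨w1, rfl⟩
    let Φ : alternatingGroup (Fin 9) →* M :=
      (c.Ψ.comp (alternatingGroup (Fin 9)).subtype).codRestrict M fun x => hM'.ge x.2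
    have hΦ : Φ.range = ⊤ := alt_nine_eq_top Φ
      (fun x y h => Subtype.ext (c.inj (congrArg Subtype.val h)))
      (fun x hx m hm => by
        have hx' : orderOf (x : P9) = 3 := by rw [Subgroup.orderOf_coe, hx]
        obtain ⟨σ, hσ⟩ := c.cent' x hx' m (congrArg Subtype.val hm)
        have hσA : σ ∈ alternatingGroup (Fin 9) := hM'.le (by
          rw [Subgroup.mem_comap, hσ]; exact m.2)
        exact ⟨⟨σ, hσA⟩, Subtype.ext hσ⟩)
    refine eq_top_iff.2 fun y _ => ?_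
    have hMK : M ≤ c.K := fun m hm => by
      obtain ⟨x, hx⟩ : (⟨m, hm⟩ : M) ∈ Φ.range := hΦ ▸ Subgroup.mem_top _
      exact ⟨x, congrArg Subtype.val hx⟩
    by_cases hy : y ∈ M
    · exact hMK hy
    · have : c.Ψ w1 * y ∈ M := (Subgroup.mul_mem_iff_of_index_two hMi).2 (iff_of_false huM hy)
      have h := c.K.mul_mem (c.K.inv_mem (c.mem w1)) (hMK this)
      rwa [inv_mul_cancel_left] at h
  · exfalso
    have hps := Equiv.Perm.mem_alternatingGroup.1 hp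
    have hp2 : p * p = 1 := c.psi_eq_one (by
      rw [map_mul, hpe]
      calc g * c.Ψ w1 * g⁻¹ * (g * c.Ψ w1 * g⁻¹) = g * (c.Ψ w1 * c.Ψ w1) * g⁻¹ := by group
        _ = 1 := by rw [← map_mul, hw11, map_one]; group)
    have hp1 : p ≠ 1 := fun e => hu1 (c.psi_eq_one (by
      rw [e, map_one] at hpe
      calc c.Ψ w1 = g⁻¹ * (g * c.Ψ w1 * g⁻¹) * g := by group
        _ = 1 := by rw [← hpe]; group))
    obtain ⟨y, hy3, hy1, hyp⟩ := involution_three hp2 hp1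
    obtain ⟨σ, hσ⟩ := c.fusion hx3 hx1 hxw1 hy3 hy1 hyp hpe.symm
    rw [← hσ, map_mul, map_mul, map_inv, hsw, mul_neg, mul_one, neg_mul, mul_inv_cancel] at hps
    exact absurd hps (by decide)

end SCopy

/-- A finite group with a copy of the symmetric group of degree nine containing the centralisers of all its elements
of order three is that copy. -/
theorem sym_nine_eq_top {G : Type*} [Group G] [Finite G] (Ψ : Equiv.Perm (Fin 9) →* G)
    (hinj : Function.Injective Ψ) (hcent : ∀ x, orderOf x = 3 → ∀ g : G, Commute g (Ψ x) → g ∈ Ψ.range) :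
    Ψ.range = ⊤ :=
  (⟨Ψ, hinj, hcent⟩ : SCopy G).K_eq_top

end Cfsg.Agent.Spor.SymNine.Top
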