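import Cfsg.Agent.S3331
import Cfsg.Agent.Lib.Small.Order168Classes
import Cfsg.Agent.Lib.Small.PSLThreeTwo
import Mathlib.GroupTheory.SpecificGroups.Alternating

/-!
The involutions of a group with a central involution and an element of order three self-centralising modulo it,
inverted by an involution with centraliser of order at most four: all but the central one are conjugate.
-/

set_option autoImplicit false
set_option linter.unusedSectionVars false
set_option linter.style.haveILetI false
set_option maxRecDepth 100000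

namespace Cfsg.Agent.Spor.SymNine

theorem altFive_invol_conj : ∀ a b : alternatingGroup (Fin 5), a * a = 1 → a ≠ 1 → b * b = 1 → b ≠ 1 →
    ∃ g, g * a * g⁻¹ = b := by decide +kernel

section Small

variable {Q : Type*} [Group Q] [Finite Q] (N : Subgroup Q) [N.Normal] (t q : Q)

/-- A normal subgroup without fixed points of an element of order three, with an inverting involution fixing at
most two of its elements. -/
theorem normal_small (ht : t * t = 1) (hq3 : q ^ 3 = 1) (hq1 : q ≠ 1) (hinv : t * q * t⁻¹ = q⁻¹)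
    (hC : ∀ x, x * q = q * x → x ∈ Subgroup.zpowers q) (hq : q ∉ N) (htN : t ∉ N)
    (hCt : Nat.card (Subgroup.centralizer ({t} : Set Q)) ≤ 4) :
    Nat.card N ≤ 4 ∧ (∀ n ∈ N, n * q = q * n → n = 1) ∧
      ∀ n ∈ N, t * n * t = n⁻¹ → Nat.card N = 1 ∨ Nat.card N = 4 → ∃ m ∈ N, m * t * m⁻¹ = n * t := by
  classical
  haveI := Fintype.ofFinite Q
  haveI := Fintype.ofFinite N
  have hti : t⁻¹ = t := inv_eq_of_mul_eq_one_right ht
  rw [hti] at hinv
  have hqq : q * q * q = 1 := by rwa [pow_succ, pow_two] at hq3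
  have hqi : q⁻¹ = q * q := inv_eq_of_mul_eq_one_right (by rw [← mul_assoc, hqq])
  have htq : t * q = q * q * t := by
    rw [← hqi, ← hinv, mul_assoc, ht, mul_one]
  have hfix : ∀ n ∈ N, n * q = q * n → n = 1 := by
    intro n hn h
    obtain ⟨i, hi⟩ := Subgroup.mem_zpowers_iff.1 (hC n h)
    obtain ⟨j, rfl | rfl | rfl⟩ : ∃ j : ℤ, i = 3 * j ∨ i = 3 * j + 1 ∨ i = 3 * j + 2 := ⟨i / 3, by omega⟩
    all_goals
      simp only [zpow_add, zpow_mul, show q ^ (3 : ℤ) = 1 by exact_mod_cast hq3, one_zpow, one_mul, zpow_one,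
        zpow_two] at hi
    · exact hi.symm
    · exact absurd (hi ▸ hn) hq
    · exact absurd (by rw [← inv_inv q, hqi, hi]; exact N.inv_mem hn) hq
  -- fixed points of the involution
  have hfix2 : Nat.card (N ⊓ Subgroup.centralizer ({t} : Set Q) : Subgroup Q) ≤ 2 := by
    have hlt : (N ⊓ Subgroup.centralizer ({t} : Set Q)) < Subgroup.centralizer ({t} : Set Q) :=
      lt_of_le_of_ne inf_le_right fun h => htN
        (inf_le_left (a := N) (h.symm ▸ Subgroup.mem_centralizer_singleton_iff.2 rfl : t ∈ N ⊓ Subgroup.centralizer ({t} : Set Q)))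
    obtain ⟨k, hk⟩ := Subgroup.card_dvd_of_le hlt.le
    have hk2 : 2 ≤ k := by
      rcases k with _ | _ | k
      · rw [mul_zero] at hk
        exact absurd hk (Nat.card_pos (α := Subgroup.centralizer ({t} : Set Q))).ne'
      · exact absurd (Subgroup.eq_of_le_of_card_ge hlt.le (by rw [hk]; simp)) hlt.ne
      · omega
    have h2 := Nat.mul_le_mul_left (Nat.card (N ⊓ Subgroup.centralizer ({t} : Set Q) : Subgroup Q)) hk2
    rw [← hk] at h2
    omega
  -- the three involutions
  have r1 : ∀ x, t * (q * x) = q * (q * (t * x)) := fun x => by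
    rw [← mul_assoc, htq, mul_assoc, mul_assoc]
  have r2 : ∀ x, t * (t * x) = x := fun x => by rw [← mul_assoc, ht, one_mul]
  have r3 : ∀ x, q * (q * (q * x)) = x := fun x => by rw [← mul_assoc, ← mul_assoc, hqq, one_mul]
  have r1' : t * q = q * (q * t) := by rw [htq, mul_assoc]
  have r3' : q * (q * q) = 1 := by rw [← mul_assoc, hqq]
  let s : Fin 3 → Q := fun k => q ^ k.val * t
  have hs2 : ∀ k, s k * s k = 1 := by
    intro k
    fin_cases k <;> simp [s, pow_two, mul_assoc, r1, r2, r3, r1', r3', ht]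
  have hsc : ∀ k, ∃ c : Q, c * t * c⁻¹ = s k := by
    intro k
    refine ⟨q ^ (2 * k.val), ?_⟩
    rw [← inv_pow, hqi]
    fin_cases k <;> simp [s, pow_succ, mul_assoc, r1, r2, r3, r1', r3', ht]
  let A : Fin 3 → Finset N := fun k => Finset.univ.filter fun n => s k * (n : Q) * s k = (n : Q)⁻¹
  have hone : ∀ k, (1 : N) ∈ A k := fun k => by simp [A, hs2 k]
  have hmeet : ∀ i j, i ≠ j → ∀ n ∈ A i, n ∈ A j → n = 1 := by
    intro i j hij n hi hj
    simp only [A, Finset.mem_filter, Finset.mem_univ, true_and] at hi hj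
    have key : ∀ a b x : Q, a * a = 1 → b * b = 1 → a * x * a = b * x * b → x * (a * b) = a * b * x := by
      intro a b x ha hb e
      calc x * (a * b) = a * a * x * (a * b) := by rw [ha, one_mul]
        _ = a * (a * x * a) * b := by group
        _ = a * (b * x * b) * b := by rw [e]
        _ = a * b * x * (b * b) := by group
        _ = a * b * x := by rw [hb, mul_one]
    have h2 : (n : Q) * (s i * s j) = s i * s j * (n : Q) := key _ _ _ (hs2 i) (hs2 j) (hi.trans hj.symm)
    refine Subtype.ext (hfix n n.2 ?_)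
    have e01 : s 0 * s 1 = q * q := by simp [s, pow_two, mul_assoc, r1, r2, r3, r1', r3', ht]
    have e10 : s 1 * s 0 = q := by simp [s, pow_two, mul_assoc, r1, r2, r3, r1', r3', ht]
    have e02 : s 0 * s 2 = q := by simp [s, pow_two, mul_assoc, r1, r2, r3, r1', r3', ht]
    have e20 : s 2 * s 0 = q * q := by simp [s, pow_two, mul_assoc, r1, r2, r3, r1', r3', ht]
    have e12 : s 1 * s 2 = q * q := by simp [s, pow_two, mul_assoc, r1, r2, r3, r1', r3', ht]
    have e21 : s 2 * s 1 = q := by simp [s, pow_two, mul_assoc, r1, r2, r3, r1', r3', ht]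
    have hsq : (n : Q) * (q * q) = q * q * (n : Q) → (n : Q) * q = q * (n : Q) := fun h => by
      rw [← hqi] at h
      simpa using (show Commute (n : Q) q⁻¹ from h).inv_right.eq
    fin_cases i <;> fin_cases j <;> simp at hij <;> simp only [Fin.isValue, Fin.zero_eta, Fin.mk_one, Fin.reduceFinMk] at h2
    · exact hsq (by rwa [e01] at h2)
    · rwa [e02] at h2
    · rwa [e10] at h2
    · exact hsq (by rwa [e12] at h2)
    · exact hsq (by rwa [e20] at h2)
    · rwa [e21] at h2
  -- each inverted set has half the elements at least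
  let f : Fin 3 → N → N := fun k n => ⟨(n : Q) * s k * (n : Q)⁻¹ * s k, by
    rw [mul_assoc (n : Q), mul_assoc (n : Q)]
    exact N.mul_mem n.2 (by
      simpa [inv_eq_of_mul_eq_one_right (hs2 k)] using ‹N.Normal›.conj_mem _ (N.inv_mem n.2) (s k))⟩
  have hfA : ∀ k n, f k n ∈ A k := by
    intro k n
    simp only [A, f, Finset.mem_filter, Finset.mem_univ, true_and, mul_inv_rev, inv_inv,
      inv_eq_of_mul_eq_one_right (hs2 k)]
    calc s k * ((n : Q) * s k * (n : Q)⁻¹ * s k) * s k
        = s k * ((n : Q) * s k * (n : Q)⁻¹) * (s k * s k) := by group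
      _ = _ := by rw [hs2, mul_one]; simp only [mul_assoc]
  have hfib : ∀ k, Fintype.card N ≤ 2 * ((Finset.univ : Finset N).image (f k)).card := by
    intro k
    rw [← Finset.card_univ]
    refine Finset.card_le_mul_card_image _ _ fun b hb => ?_
    obtain ⟨n₀, -, rfl⟩ := Finset.mem_image.1 hb
    obtain ⟨c, hc⟩ := hsc k
    refine le_trans ?_ hfix2
    rw [← Fintype.card_coe, Nat.card_eq_fintype_card]
    refine Fintype.card_le_of_injective (fun n => ⟨c⁻¹ * ((n₀ : Q)⁻¹ * ((n.1 : N) : Q)) * c, ?_, ?_⟩)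
      fun a b h => ?_
    · simpa using ‹N.Normal›.conj_mem _ (N.mul_mem (N.inv_mem n₀.2) n.1.2) c⁻¹
    · refine Subgroup.mem_centralizer_singleton_iff.2 ?_
      have hn : ((n.1 : N) : Q) * s k * ((n.1 : N) : Q)⁻¹ = (n₀ : Q) * s k * (n₀ : Q)⁻¹ :=
        mul_right_cancel (congrArg Subtype.val (Finset.mem_filter.1 n.2).2)
      have hd : (n₀ : Q)⁻¹ * (n.1 : N) * s k = s k * ((n₀ : Q)⁻¹ * (n.1 : N)) := by
        calc (n₀ : Q)⁻¹ * (n.1 : N) * s k
            = (n₀ : Q)⁻¹ * (((n.1 : N) : Q) * s k * ((n.1 : N) : Q)⁻¹) * (n.1 : N) := by group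
          _ = s k * ((n₀ : Q)⁻¹ * (n.1 : N)) := by rw [hn]; group
      calc c⁻¹ * ((n₀ : Q)⁻¹ * (n.1 : N)) * c * t = c⁻¹ * ((n₀ : Q)⁻¹ * (n.1 : N) * (c * t * c⁻¹)) * c := by group
        _ = c⁻¹ * (c * t * c⁻¹ * ((n₀ : Q)⁻¹ * (n.1 : N))) * c := by rw [hc, hd]
        _ = _ := by group
    · have h1 := congrArg Subtype.val h
      simpa using h1
  have himA : ∀ k, (Finset.univ : Finset N).image (f k) ⊆ A k := fun k x hx => by
    obtain ⟨n, -, rfl⟩ := Finset.mem_image.1 hx
    exact hfA k n
  have hsum : ((A 0).erase 1).card + ((A 1).erase 1).card + ((A 2).erase 1).card + 1 ≤ Fintype.card N := by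
    have hd : ∀ i j : Fin 3, i ≠ j → Disjoint ((A i).erase 1) ((A j).erase 1) := fun i j hij =>
      Finset.disjoint_left.2 fun x hx hx' =>
        (Finset.mem_erase.1 hx).1 (hmeet i j hij x (Finset.mem_erase.1 hx).2 (Finset.mem_erase.1 hx').2)
    rw [← Finset.card_union_of_disjoint (hd 0 1 (by decide)),
      ← Finset.card_union_of_disjoint (Finset.disjoint_union_left.2 ⟨hd 0 2 (by decide), hd 1 2 (by decide)⟩),
      ← Finset.card_insert_of_notMem (a := (1 : N)) (by simp), ← Finset.card_univ]
    exact Finset.card_le_card (Finset.subset_univ _)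
  rw [Finset.card_erase_of_mem (hone 0), Finset.card_erase_of_mem (hone 1), Finset.card_erase_of_mem (hone 2)] at hsum
  have hle := fun k => (hfib k).trans (Nat.mul_le_mul_left 2 (Finset.card_le_card (himA k)))
  have h0 := hle 0
  have h1 := hle 1
  have h2 := hle 2
  refine ⟨by rw [Nat.card_eq_fintype_card]; omega, hfix, fun n hn hni hcard => ?_⟩
  rw [Nat.card_eq_fintype_card] at hcard
  have hnA : (⟨n, hn⟩ : N) ∈ A 0 := by simp [A, s, hni]
  have heq : (Finset.univ : Finset N).image (f 0) = A 0 := by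
    refine Finset.eq_of_subset_of_card_le (himA 0) ?_
    have := hfib 0
    have := (A 0).card_le_univ
    have := Finset.card_pos.2 ⟨_, hone 0⟩
    omega
  rw [← heq] at hnA
  obtain ⟨m, -, hm⟩ := Finset.mem_image.1 hnA
  refine ⟨m, m.2, ?_⟩
  have h3 : (m : Q) * t * (m : Q)⁻¹ * t = n := by simpa [f, s] using congrArg Subtype.val hm
  rw [← h3, mul_assoc _ t t, ht, mul_one]

end Small

/-- All involutions but the central one are conjugate. -/
theorem invol_conj {U : Type*} [Group U] [Finite U] (u t q : U) (hu : u * u = 1) (hu1 : u ≠ 1)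
    (hcen : ∀ x, x * u = u * x) (ht : t * t = 1) (hq3 : q ^ 3 = 1) (hq1 : q ≠ 1) (hinv : t * q * t⁻¹ = q⁻¹)
    (hCq : ∀ x, x * q = q * x → ∃ i : ℕ, x = q ^ i ∨ x = q ^ i * u)
    (hCt : Nat.card (Subgroup.centralizer ({t} : Set U)) ≤ 4) (hex : ∃ x, x * t * x⁻¹ = t * u) :
    ∀ y, y * y = 1 → y ≠ 1 → y ≠ u → IsConj t y := by
  classical
  haveI := Fintype.ofFinite U
  obtain ⟨x₀, hx₀⟩ := hex
  set L := Subgroup.zpowers u with hL
  haveI : L.Normal := ⟨fun y hy x => by
    obtain ⟨i, rfl⟩ := Subgroup.mem_zpowers_iff.1 hy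
    rw [((show Commute x u from hcen x).zpow_right i).eq, mul_inv_cancel_right]
    exact hy⟩
  have hmL : ∀ x, x ∈ L ↔ x = 1 ∨ x = u := by
    intro x
    rw [hL, Subgroup.mem_zpowers_iff]
    constructor
    · rintro ⟨i, rfl⟩
      rcases Int.even_or_odd i with ⟨j, rfl⟩ | ⟨j, rfl⟩
      · exact Or.inl (by rw [← two_mul, zpow_mul, zpow_two, hu, one_zpow])
      · exact Or.inr (by rw [zpow_add, zpow_mul, zpow_two, hu, one_zpow, one_mul, zpow_one])
    · rintro (h | h)
      · exact ⟨0, by rw [zpow_zero, h]⟩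
      · exact ⟨1, by rw [zpow_one, h]⟩
  set π := QuotientGroup.mk' L with hπ
  have hπ2 : ∀ a b, π a = π b ↔ b = a ∨ b = a * u := fun a b => by
    rw [hπ, QuotientGroup.mk'_apply, QuotientGroup.mk'_apply, QuotientGroup.eq, hmL, inv_mul_eq_one,
      inv_mul_eq_iff_eq_mul, eq_comm (a := a)]
  have hqu : q ≠ u := fun h => hu1 (by rw [h, pow_succ, pow_two, hu, one_mul] at hq3; exact hq3)
  set qb := π q with hqb
  set tb := π t with htb
  have hqb1 : qb ≠ 1 := fun h => by
    rcases (hmL q).1 ((QuotientGroup.eq_one_iff q).1 h) with h | h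
    exacts [hq1 h, hqu h]
  have hqb3 : qb ^ 3 = 1 := by rw [hqb, ← map_pow, hq3, map_one]
  have htb2 : tb * tb = 1 := by rw [htb, ← map_mul, ht, map_one]
  have hinvb : tb * qb * tb⁻¹ = qb⁻¹ := by rw [htb, hqb, ← map_mul, ← map_inv, ← map_mul, hinv, map_inv]
  have hC : ∀ xb, xb * qb = qb * xb → xb ∈ Subgroup.zpowers qb := by
    intro xb h
    obtain ⟨x, rfl⟩ := QuotientGroup.mk'_surjective L xb
    rw [hqb, ← mul_inv_eq_iff_eq_mul, ← map_inv, ← map_mul, ← map_mul] at h
    rcases (hπ2 _ _).1 h with h1 | h1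
    · obtain ⟨i, hi⟩ := hCq x (mul_inv_eq_iff_eq_mul.1 h1.symm)
      refine Subgroup.mem_zpowers_iff.2 ⟨i, ?_⟩
      rw [zpow_natCast, hqb, ← map_pow, eq_comm]
      rcases hi with rfl | rfl
      · rfl
      · rw [map_mul, show π u = 1 from (QuotientGroup.eq_one_iff u).2 ((hmL u).2 (Or.inr rfl)), mul_one]
    · exfalso
      have h3 : (x * q * x⁻¹) ^ 3 = 1 := by rw [conj_pow, hq3, mul_one, mul_inv_cancel]
      have h4 : q ^ 3 = (x * q * x⁻¹) ^ 3 * u := by
        refine (congrArg (· ^ 3) h1).trans ?_
        show (x * q * x⁻¹ * u) ^ 3 = _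
        rw [(show Commute (x * q * x⁻¹) u from hcen _).mul_pow]
        rw [show u ^ 3 = u by rw [pow_succ, pow_two, hu, one_mul]]
      rw [hq3, h3, one_mul] at h4
      exact hu1 h4.symm
  set X := Subgroup.zpowers qb with hX
  have hXc : Nat.card X = 3 := by rw [hX, Nat.card_zpowers, orderOf_eq_prime hqb3 hqb1]
  have hCX : Subgroup.centralizer (X : Set (U ⧸ L)) = X := by
    refine le_antisymm (fun xb h => hC xb (Subgroup.mem_centralizer_iff.1 h qb (Subgroup.mem_zpowers qb)).symm)
      fun a ha => Subgroup.mem_centralizer_iff.2 fun b hb => ?_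
    obtain ⟨i, rfl⟩ := Subgroup.mem_zpowers_iff.1 ha
    obtain ⟨j, rfl⟩ := Subgroup.mem_zpowers_iff.1 hb
    exact ((Commute.refl qb).zpow_zpow j i).eq
  have hCtb : Nat.card (Subgroup.centralizer ({tb} : Set (U ⧸ L))) ≤ 4 := by
    have hout : ∀ x : Subgroup.centralizer ({tb} : Set (U ⧸ L)),
        (x : U ⧸ L).out * t * (x : U ⧸ L).out⁻¹ = t ∨ (x : U ⧸ L).out * t * (x : U ⧸ L).out⁻¹ = t * u := by
      intro x
      refine (hπ2 t _).1 ?_
      rw [map_mul, map_mul, map_inv, eq_comm, mul_inv_eq_iff_eq_mul]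
      simpa [hπ, htb] using Subgroup.mem_centralizer_singleton_iff.1 x.2
    let g : Subgroup.centralizer ({tb} : Set (U ⧸ L)) × Bool → U := fun p =>
      (p.1 : U ⧸ L).out * bif p.2 then u else 1
    have hg : ∀ p, g p * t * (g p)⁻¹ = (p.1 : U ⧸ L).out * t * (p.1 : U ⧸ L).out⁻¹ := by
      rintro ⟨x, b⟩
      cases b
      · simp [g]
      · simp only [g, cond_true, mul_inv_rev, inv_eq_of_mul_eq_one_right hu]
        rw [mul_assoc _ u t, ← hcen t, mul_assoc _ (t * u), ← mul_assoc (t * u), mul_assoc t u u, hu, mul_one,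
          ← mul_assoc]
    let f : Subgroup.centralizer ({tb} : Set (U ⧸ L)) × Bool → Subgroup.centralizer ({t} : Set U) × Bool :=
      fun p => if h : g p * t * (g p)⁻¹ = t then
          (⟨g p, Subgroup.mem_centralizer_singleton_iff.2 (mul_inv_eq_iff_eq_mul.1 h)⟩, false)
        else (⟨x₀⁻¹ * g p, Subgroup.mem_centralizer_singleton_iff.2 (mul_inv_eq_iff_eq_mul.1 (by
          have h1 : g p * t * (g p)⁻¹ = x₀ * t * x₀⁻¹ := by
            rw [hx₀, hg]
            exact (hout p.1).resolve_left fun e => h ((hg p).trans e)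
          calc x₀⁻¹ * g p * t * (x₀⁻¹ * g p)⁻¹ = x₀⁻¹ * (g p * t * (g p)⁻¹) * x₀ := by group
            _ = t := by rw [h1]; group))⟩, true)
    have hf : Function.Injective f := by
      intro p p' h
      have hg' : g p = g p' := by
        simp only [f] at h
        split_ifs at h <;> simp at h <;> exact h
      have hp : (p.1 : U ⧸ L) = p'.1 := by
        have h1 := congrArg π hg'
        simp only [g, map_mul] at h1
        have h2 : ∀ b : Bool, π (bif b then u else 1) = 1 := fun b => by
          cases b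
          · exact map_one π
          · exact (QuotientGroup.eq_one_iff u).2 ((hmL u).2 (Or.inr rfl))
        rw [h2, h2, mul_one, mul_one] at h1
        simpa [hπ] using h1
      obtain ⟨x, b⟩ := p
      obtain ⟨x', b'⟩ := p'
      obtain rfl : x = x' := Subtype.ext hp
      cases b <;> cases b' <;> simp [g] at hg' ⊢
      · exact hu1 hg'
      · exact hu1 hg'
    have h1 := Nat.card_le_card_of_injective f hf
    rw [Nat.card_prod, Nat.card_prod] at h1
    simp only [Nat.card_eq_fintype_card (α := Bool), Fintype.card_bool] at h1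
    omega
  have lift : ∀ {y gb}, gb * tb * gb⁻¹ = π y → IsConj t y := by
    intro y gb h
    obtain ⟨g, rfl⟩ := QuotientGroup.mk'_surjective L gb
    rw [htb, ← map_inv, ← map_mul, ← map_mul] at h
    rcases (hπ2 _ _).1 h with rfl | rfl
    · exact isConj_iff.2 ⟨g, rfl⟩
    · refine isConj_iff.2 ⟨g * x₀, ?_⟩
      calc g * x₀ * t * (g * x₀)⁻¹ = g * (x₀ * t * x₀⁻¹) * g⁻¹ := by group
        _ = g * t * (u * g⁻¹) := by rw [hx₀]; group
        _ = _ := by rw [← hcen g⁻¹]; group
  intro y hy hy1 hyu
  have hyb2 : π y * π y = 1 := by rw [← map_mul, hy, map_one]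
  have hyb1 : π y ≠ 1 := fun h => by
    rcases (hmL y).1 ((QuotientGroup.eq_one_iff y).1 h) with h | h
    exacts [hy1 h, hyu h]
  rcases Cfsg.Agent.S3331.result X hXc hCX with ⟨N, hN, -, hco, hq⟩ | ⟨N, hN, hNc, hN2, ⟨e⟩⟩ | ⟨⟨e⟩⟩
  · haveI := hN
    have hqN : qb ∉ N := fun h => by
      have h1 := Subgroup.orderOf_mk qb h ▸ orderOf_dvd_natCard (⟨qb, h⟩ : N)
      rw [orderOf_eq_prime hqb3 hqb1] at h1
      exact (Nat.prime_three.coprime_iff_not_dvd.1 hco.symm) h1
    have htN : tb ∉ N := fun h => hqN (by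
      have h1 := N.mul_mem (hN.conj_mem _ (N.inv_mem h) qb) h
      rw [inv_eq_of_mul_eq_one_right htb2] at h1
      have h2 : qb * tb * qb⁻¹ * tb = qb * qb := by
        rw [← hinvb, inv_eq_of_mul_eq_one_right htb2]
        calc qb * tb * (tb * qb * tb) * tb = qb * (tb * tb) * qb * (tb * tb) := by group
          _ = _ := by rw [htb2, mul_one, mul_one]
      rw [h2] at h1
      have h3 := N.inv_mem h1
      rwa [show (qb * qb)⁻¹ = qb from inv_eq_of_mul_eq_one_right (by rw [← pow_two, ← pow_succ, hqb3])] at h3)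
    obtain ⟨hle, hfix, hinvol⟩ := normal_small N tb qb htb2 hqb3 hqb1 hinvb hC hqN htN hCtb
    have hNc : Nat.card N = 1 ∨ Nat.card N = 4 := by
      have hp := Nat.card_pos (α := N)
      have h3 : Nat.card N ≠ 3 := fun h => by rw [h] at hco; norm_num at hco
      by_contra hne
      have h2 : Nat.card N = 2 := by omega
      obtain ⟨a, b, hab, huniv⟩ := Nat.card_eq_two_iff.1 h2
      obtain ⟨n, hn⟩ : ∃ n : N, n ≠ 1 := by
        by_contra h
        push Not at h
        exact hab ((h a).trans (h b).symm)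
      have hc : (⟨qb * n * qb⁻¹, hN.conj_mem _ n.2 qb⟩ : N) ≠ 1 := fun h =>
        hn (Subtype.ext (conj_eq_one_iff.1 (congrArg Subtype.val h)))
      have heq : (⟨qb * n * qb⁻¹, hN.conj_mem _ n.2 qb⟩ : N) = n := by
        by_contra hd
        have h3 : ({1, n, ⟨qb * n * qb⁻¹, hN.conj_mem _ n.2 qb⟩} : Set N).ncard = 3 := by
          rw [Set.ncard_eq_three]
          exact ⟨_, _, _, Ne.symm hn, Ne.symm hc, Ne.symm hd, rfl⟩
        have h4 := Set.ncard_le_card ({1, n, ⟨qb * n * qb⁻¹, hN.conj_mem _ n.2 qb⟩} : Set N)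
        omega
      exact hn (Subtype.ext (hfix n n.2 (mul_inv_eq_iff_eq_mul.1 (congrArg Subtype.val heq)).symm))
    -- the six cosets
    set σ := QuotientGroup.mk' N with hσ
    have hσ6 : ∀ xb, ∃ i : ℕ, σ xb = σ (qb ^ i) ∨ σ xb = σ (qb ^ i * tb) := by
      haveI : Fintype ((U ⧸ L) ⧸ N) := Fintype.ofFinite _
      have hq1' : σ qb ≠ 1 := fun h => hqN ((QuotientGroup.eq_one_iff qb).1 h)
      have ht1' : σ tb ≠ 1 := fun h => htN ((QuotientGroup.eq_one_iff tb).1 h)
      have hoq : orderOf (σ qb) = 3 := orderOf_eq_prime (by rw [← map_pow, hqb3, map_one]) hq1'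
      have htz : σ tb ∉ Subgroup.zpowers (σ qb) := fun h => by
        have h1 := Subgroup.orderOf_mk (σ tb) h ▸ orderOf_dvd_natCard (⟨σ tb, h⟩ : Subgroup.zpowers (σ qb))
        rw [Nat.card_zpowers, hoq, orderOf_eq_prime (by rw [pow_two, ← map_mul, htb2, map_one]) ht1'] at h1
        norm_num at h1
      have h6 : Nat.card ((U ⧸ L) ⧸ N) ≤ 6 := by
        rcases hq with h | ⟨⟨e⟩⟩
        · rw [h]; norm_num
        · rw [Nat.card_congr e.toEquiv, Nat.card_perm, Nat.card_fin]; rfl
      intro xb
      by_contra hne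
      push Not at hne
      let F : Fin 3 × Bool ⊕ Unit → (U ⧸ L) ⧸ N := Sum.elim
        (fun p => σ (qb ^ p.1.val) * bif p.2 then σ tb else 1) fun _ => σ xb
      have hF : Function.Injective F := by
        have hpow : ∀ i j : Fin 3, σ (qb ^ i.val) = σ (qb ^ j.val) → i = j := fun i j h => by
          rw [map_pow, map_pow] at h
          exact Fin.ext (pow_injOn_Iio_orderOf (by rw [hoq]; exact i.2) (by rw [hoq]; exact j.2) h)
        have hcross : ∀ i j : ℕ, σ (qb ^ i) ≠ σ (qb ^ j) * σ tb := fun i j h => htz (by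
          rw [map_pow, map_pow, ← inv_mul_eq_iff_eq_mul] at h
          rw [← h]
          exact Subgroup.mul_mem _ (Subgroup.inv_mem _ (Subgroup.pow_mem _ (Subgroup.mem_zpowers _) _))
            (Subgroup.pow_mem _ (Subgroup.mem_zpowers _) _))
        rintro (⟨i, b⟩ | ⟨⟩) (⟨j, c⟩ | ⟨⟩) h <;> simp only [F, Sum.elim_inl, Sum.elim_inr] at h
        · cases b <;> cases c <;> simp only [cond_true, cond_false, mul_one] at h
          · rw [hpow i j h]
          · exact absurd h (hcross _ _)
          · exact absurd h.symm (hcross _ _)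
          · rw [hpow i j (mul_right_cancel h)]
        · cases b <;> simp only [cond_true, cond_false, mul_one] at h
          · exact absurd h.symm (hne i).1
          · exact absurd h.symm (by rw [← map_mul]; exact (hne i).2)
        · cases c <;> simp only [cond_true, cond_false, mul_one] at h
          · exact absurd h (hne j).1
          · exact absurd h (by rw [← map_mul]; exact (hne j).2)
        · rfl
      have h7 := Nat.card_le_card_of_injective F hF
      simp only [Nat.card_eq_fintype_card, Fintype.card_sum, Fintype.card_prod, Fintype.card_fin,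
        Fintype.card_bool, Fintype.card_unit] at h7
      rw [Nat.card_eq_fintype_card] at h6
      omega
    by_cases hyN : π y ∈ N
    · exfalso
      have h4 : Nat.card N = 4 := hNc.resolve_left fun h => hyb1 (by
        rw [Subgroup.card_eq_one] at h
        simpa [h] using hyN)
      -- the preimage has exponent two
      haveI : Fintype N := Fintype.ofFinite N
      set yn : N := ⟨π y, hyN⟩
      let c : N → N := fun n => ⟨qb * n * qb⁻¹, hN.conj_mem _ n.2 qb⟩
      have hyn1 : yn ≠ 1 := fun h => hyb1 (congrArg Subtype.val h)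
      have hc0 : ∀ n, n ≠ 1 → c n ≠ n ∧ c n ≠ 1 := fun n hn =>
        ⟨fun h => hn (Subtype.ext (hfix n n.2 (mul_inv_eq_iff_eq_mul.1 (congrArg Subtype.val h)).symm)),
          fun h => hn (Subtype.ext (conj_eq_one_iff.1 (congrArg Subtype.val h)))⟩
      have hc3 : ∀ n, c (c (c n)) = n := fun n => Subtype.ext (by
        show qb * (qb * (qb * (n : U ⧸ L) * qb⁻¹) * qb⁻¹) * qb⁻¹ = _
        calc _ = qb ^ 3 * (n : U ⧸ L) * (qb ^ 3)⁻¹ := by simp [pow_succ, mul_assoc]
          _ = _ := by rw [hqb3]; group)
      have hcov : ∀ n : N, n = 1 ∨ n = yn ∨ n = c yn ∨ n = c (c yn) := by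
        intro n
        by_contra hne
        simp only [not_or] at hne
        obtain ⟨a1, a2, a3, a4⟩ := hne
        obtain ⟨b1, b2⟩ := hc0 yn hyn1
        obtain ⟨d1, d2⟩ := hc0 _ b2
        have b3 : c (c yn) ≠ yn := fun h => b1 (by
          have := congrArg c h
          rw [hc3] at this
          exact this.symm)
        have h5 : ({1, n, yn, c yn, c (c yn)} : Finset N).card = 5 := by
          simp [Finset.card_insert_of_notMem, a2, a3, a4, Ne.symm b1, Ne.symm b2, Ne.symm b3, Ne.symm d1,
            Ne.symm d2, Ne.symm hyn1, Ne.symm a1]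
        have := Finset.card_le_univ ({1, n, yn, c yn, c (c yn)} : Finset N)
        rw [Nat.card_eq_fintype_card] at h4
        omega
      have hsq : ∀ w, π w ∈ N → w * w = 1 := by
        have step : ∀ a, a * a = 1 → ∀ w, π w = π a → w * w = 1 := fun a ha w hw => by
          rcases (hπ2 _ _).1 hw.symm with rfl | rfl
          · exact ha
          · calc a * u * (a * u) = a * (u * a) * u := by group
              _ = a * a * (u * u) := by rw [← hcen a]; group
              _ = 1 := by rw [ha, hu, one_mul]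
        intro w hw
        rcases hcov ⟨π w, hw⟩ with h | h | h | h <;> have h' := congrArg Subtype.val h <;> dsimp at h'
        · exact step 1 (one_mul 1) w (h'.trans (map_one π).symm)
        · exact step y hy w h'
        · refine step (q * y * q⁻¹) ?_ w (h'.trans (by simp [c, yn, hqb]))
          rw [show q * y * q⁻¹ * (q * y * q⁻¹) = q * (y * y) * q⁻¹ by group, hy]; group
        · refine step (q * (q * y * q⁻¹) * q⁻¹) ?_ w (h'.trans (by simp [c, yn, hqb]))
          rw [show q * (q * y * q⁻¹) * q⁻¹ * (q * (q * y * q⁻¹) * q⁻¹) = q * q * (y * y) * (q * q)⁻¹ by group, hy]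
          group
      -- a fixed point outside the centre
      obtain ⟨b, hb, hbt⟩ : ∃ b, π b ∈ N ∧ tb * π b ≠ π b * tb := by
        by_contra h
        push Not at h
        have hall : ∀ n ∈ N, n ∈ Subgroup.centralizer ({tb} : Set (U ⧸ L)) := fun n hn => by
          obtain ⟨b, rfl⟩ := QuotientGroup.mk'_surjective L n
          exact Subgroup.mem_centralizer_singleton_iff.2 (h b hn).symm
        have h5 := Subgroup.eq_of_le_of_card_ge hall (hCtb.trans h4.ge)
        exact htN (h5.symm ▸ Subgroup.mem_centralizer_singleton_iff.2 rfl)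
      set a := b * (t * b * t) with ha
      have hab : π (t * b * t) ∈ N := by
        rw [map_mul, map_mul, ← htb]
        simpa [inv_eq_of_mul_eq_one_right htb2] using hN.conj_mem _ hb tb
      have haN : π a ∈ N := by rw [ha, map_mul]; exact N.mul_mem hb hab
      have hcomm : b * (t * b * t) = t * b * t * b := by
        have h1 := hsq _ haN
        have h2 := hsq b hb
        have h3 := hsq _ hab
        calc b * (t * b * t) = (b * (t * b * t))⁻¹ := (inv_eq_of_mul_eq_one_right h1).symm
          _ = _ := by rw [mul_inv_rev, inv_eq_of_mul_eq_one_right h2, inv_eq_of_mul_eq_one_right h3]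
      have hat : a ∈ Subgroup.centralizer ({t} : Set U) := Subgroup.mem_centralizer_singleton_iff.2 (by
        calc b * (t * b * t) * t = b * t * b * (t * t) := by group
          _ = (t * t) * (b * t * b) := by rw [ht, mul_one, one_mul]
          _ = t * (t * b * t * b) := by group
          _ = t * (b * (t * b * t)) := by rw [hcomm])
      have hπa : π a ≠ 1 := fun h => hbt (by
        rw [ha, map_mul, map_mul, map_mul, ← htb] at h
        have h2 : π b * π b = 1 := by rw [← map_mul, hsq b hb, map_one]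
        have h3 := congrArg (fun z => π b * z * tb) h
        simp only [mul_one] at h3
        rw [show π b * (π b * (tb * π b * tb)) * tb = π b * π b * (tb * π b) * (tb * tb) by group, h2, htb2,
          one_mul, mul_one] at h3
        exact h3)
      have hau : a ≠ 1 ∧ a ≠ u ∧ a ≠ t ∧ a ≠ t * u := by
        refine ⟨fun h => hπa (by rw [h, map_one]), fun h => hπa ?_, fun h => htN ?_, fun h => htN ?_⟩
        · rw [h]; exact (QuotientGroup.eq_one_iff u).2 ((hmL u).2 (Or.inr rfl))
        · rw [htb, ← h]; exact haN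
        · rw [htb, (hπ2 t (t * u)).2 (Or.inr rfl), ← h]; exact haN
      have hut : u ≠ t := fun h => htN (by
        rw [htb, ← h, show π u = 1 from (QuotientGroup.eq_one_iff u).2 ((hmL u).2 (Or.inr rfl))]
        exact N.one_mem)
      have htu : t * u ≠ 1 ∧ t * u ≠ u ∧ t * u ≠ t := by
        refine ⟨fun h => hut ?_, fun h => ?_, fun h => hu1 (mul_eq_left.1 h)⟩
        · rw [mul_eq_one_iff_eq_inv, inv_eq_of_mul_eq_one_right hu] at h; exact h.symm
        · exact htN (by rw [htb, show t = 1 from mul_eq_right.1 h, map_one]; exact N.one_mem)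
      have ht1 : t ≠ 1 := fun h => htN (by rw [htb, h, map_one]; exact N.one_mem)
      haveI : Fintype (Subgroup.centralizer ({t} : Set U)) := Fintype.ofFinite _
      have h5 : ({1, u, t, t * u, a} : Finset U).card = 5 := by
        simp [Finset.card_insert_of_notMem, Ne.symm hau.1, Ne.symm hau.2.1, Ne.symm hau.2.2.1, Ne.symm hau.2.2.2,
          Ne.symm hu1, Ne.symm ht1, Ne.symm htu.1, Ne.symm htu.2.1, Ne.symm htu.2.2, hut]
      have h6 : ({1, u, t, t * u, a} : Finset U) ⊆
          Finset.univ.filter (fun z => z ∈ Subgroup.centralizer ({t} : Set U)) := by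
        intro z hz
        simp only [Finset.mem_insert, Finset.mem_singleton] at hz
        refine Finset.mem_filter.2 ⟨Finset.mem_univ _, ?_⟩
        rcases hz with rfl | rfl | rfl | rfl | rfl
        · exact one_mem _
        · exact Subgroup.mem_centralizer_singleton_iff.2 (hcen t).symm
        · exact Subgroup.mem_centralizer_singleton_iff.2 rfl
        · exact Subgroup.mem_centralizer_singleton_iff.2 (by rw [mul_assoc, ← hcen t])
        · exact hat
      have h7 := Finset.card_le_card h6
      rw [h5, ← Fintype.card_subtype, ← Nat.card_eq_fintype_card] at h7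
      exact absurd (h7.trans hCt) (by norm_num)
    · obtain ⟨i, hi | hi⟩ := hσ6 (π y)
      · exfalso
        have h2 : σ (qb ^ i) * σ (qb ^ i) = 1 := by rw [← hi, ← map_mul, hyb2, map_one]
        have h3 : σ (qb ^ i) ^ 3 = 1 := by rw [← map_pow, ← pow_mul, mul_comm, pow_mul, hqb3, one_pow, map_one]
        have h4 : σ (qb ^ i) = 1 := by
          rw [pow_succ, pow_two, h2, one_mul] at h3
          exact h3
        exact hyN ((QuotientGroup.eq_one_iff (π y)).1 (hi.trans h4))
      · -- move the coset to that of the involution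
        have htq : tb * qb = qb⁻¹ * tb := mul_inv_eq_iff_eq_mul.1 hinvb
        have hpow : ∀ k : ℕ, qb ^ k * tb = tb * (qb ^ k)⁻¹ := fun k => by
          induction k with
          | zero => simp
          | succ k ih =>
            have h1 : qb * tb = tb * qb⁻¹ := by
              calc qb * tb = qb * (tb * qb) * qb⁻¹ := by group
                _ = _ := by rw [htq]; group
            rw [pow_succ, mul_assoc, h1, ← mul_assoc, ih, mul_assoc, ← mul_inv_rev]
            congr 2
            rw [← pow_succ']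
            exact pow_succ qb k
        set c := qb ^ (2 * i) with hc
        set n := c⁻¹ * π y * c * tb with hn
        have hnN : n ∈ N := by
          refine (QuotientGroup.eq_one_iff n).1 ?_
          show σ n = 1
          have hσc : σ (c⁻¹ * (qb ^ i * tb) * c * tb) = 1 := by
            rw [show c⁻¹ * (qb ^ i * tb) * c * tb = c⁻¹ * qb ^ i * (tb * c) * tb by group,
              show tb * c = c⁻¹ * tb by
                calc tb * c = c⁻¹ * (c * tb) * c := by group
                  _ = c⁻¹ * (tb * c⁻¹) * c := by rw [hc, hpow]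
                  _ = c⁻¹ * tb := by group,
              show c⁻¹ * qb ^ i * (c⁻¹ * tb) * tb = c⁻¹ * qb ^ i * c⁻¹ * (tb * tb) by group, htb2, mul_one]
            have h4 : c⁻¹ * qb ^ i * c⁻¹ = (qb ^ (3 * i))⁻¹ := by
              rw [hc, ← zpow_natCast, ← zpow_natCast, ← zpow_natCast, ← zpow_neg, ← zpow_add, ← zpow_add,
                ← zpow_neg]
              congr 1
              push_cast
              ring
            rw [h4, pow_mul, hqb3, one_pow, inv_one, map_one]
          rw [hn, map_mul, map_mul, map_mul, hi, ← map_mul, ← map_mul, ← map_mul, hσc]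
        have hninv : tb * n * tb = n⁻¹ := by
          rw [hn, mul_inv_rev, mul_inv_rev, mul_inv_rev, inv_inv, inv_eq_of_mul_eq_one_right htb2,
            inv_eq_of_mul_eq_one_right hyb2,
            show tb * (c⁻¹ * π y * c * tb) * tb = tb * (c⁻¹ * π y * c) * (tb * tb) by group, htb2, mul_one]
          group
        obtain ⟨m, -, hm⟩ := hinvol n hnN hninv hNc
        refine lift (gb := c * m) ?_
        calc c * m * tb * (c * m)⁻¹ = c * (m * tb * m⁻¹) * c⁻¹ := by group
          _ = c * (c⁻¹ * π y * c * (tb * tb)) * c⁻¹ := by rw [hm, hn]; group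
          _ = π y := by rw [htb2]; group
  · haveI := hN
    haveI : IsSimpleGroup (alternatingGroup (Fin 5)) := alternatingGroup.isSimpleGroup (by simp)
    let g : (U ⧸ L) →* alternatingGroup (Fin 5) := e.toMonoidHom.comp (QuotientGroup.mk' N)
    have hgk : ∀ x, g x = 1 ↔ x ∈ N := fun x => by simp [g]
    have hgs : Function.Surjective g := e.surjective.comp (QuotientGroup.mk'_surjective N)
    have hN2' : IsPGroup 2 N := fun x => ⟨1, Subtype.ext (by rw [SubgroupClass.coe_pow, pow_one]; exact hN2 x x.2)⟩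
    have hqN : qb ∉ N := fun h => by
      have h1 := hN2 qb h
      rw [pow_succ, h1, one_mul] at hqb3
      exact hqb1 hqb3
    have htN : tb ∉ N := fun h => hqN (by
      have hgt : g tb = 1 := (hgk tb).2 h
      have h1 := congrArg g hinvb
      rw [map_mul, map_mul, map_inv, map_inv, hgt, one_mul, inv_one, mul_one, eq_inv_iff_mul_eq_one] at h1
      have h3 := congrArg g hqb3
      rw [map_pow, pow_succ, pow_two, h1, one_mul, map_one] at h3
      exact (hgk qb).1 h3)
    obtain ⟨hle, hfix, -⟩ := normal_small N tb qb htb2 hqb3 hqb1 hinvb hC hqN htN hCtb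
    have hbot : N = ⊥ := by
      by_contra hne
      -- the quotient would act faithfully on at most four points
      let F : (U ⧸ L) →* MulAut N := MulAut.conjNormal
      have hFk : ∀ n ∈ N, F n = 1 := fun n hn => by
        refine MulEquiv.ext fun m => Subtype.ext ?_
        show n * (m : U ⧸ L) * n⁻¹ = m
        rw [show n * (m : U ⧸ L) = (m : U ⧸ L) * n from congrArg Subtype.val (hNc.is_comm.comm ⟨n, hn⟩ m),
          mul_inv_cancel_right]
      rcases IsSimpleGroup.eq_bot_or_eq_top_of_normal (F.ker.map g) ((MonoidHom.normal_ker F).map g hgs) with h | h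
      · have hinj : ∀ x, F x = 1 → g x = 1 := fun x hx => Subgroup.mem_bot.1 (h ▸ Subgroup.mem_map_of_mem g hx)
        haveI := Fintype.ofFinite N
        have h24 : Nat.card (MulAut N) ≤ 24 := by
          refine (Nat.card_le_card_of_injective (fun σ : MulAut N => (σ : N ≃* N).toEquiv)
            fun a b hab => MulEquiv.ext fun m => congrArg (fun e : N ≃ N => e m) hab).trans ?_
          rw [show (N ≃ N) = Equiv.Perm N from rfl, Nat.card_perm]
          exact (Nat.factorial_le hle).trans (by decide)
        choose s hs using hgs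
        have h60 : Nat.card (alternatingGroup (Fin 5)) ≤ Nat.card (MulAut N) :=
          Nat.card_le_card_of_injective (fun a => F (s a)) fun a b hab => by
            have := hinj ((s b)⁻¹ * s a) (by rw [map_mul, map_inv, inv_mul_eq_one]; exact hab.symm)
            rw [map_mul, map_inv, hs, hs, inv_mul_eq_one] at this
            exact this.symm
        rw [nat_card_alternatingGroup, Nat.card_fin] at h60
        have h5 : Nat.factorial 5 = 120 := rfl
        rw [h5] at h60
        omega
      · obtain ⟨k, hk, hkq⟩ := (h.symm ▸ Subgroup.mem_top (g qb) : g qb ∈ F.ker.map g)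
        have hq' : F qb = 1 := by
          have h1 : k⁻¹ * qb ∈ N := (hgk _).1 (by rw [map_mul, map_inv, hkq, inv_mul_cancel])
          have h2 := hFk _ h1
          rwa [map_mul, map_inv, MonoidHom.mem_ker.1 hk, inv_one, one_mul] at h2
        obtain ⟨m, hm, hm1⟩ := (Subgroup.bot_or_exists_ne_one N).resolve_left hne
        refine hm1 (hfix m hm ?_)
        have h3 := congrArg (fun σ : MulAut N => ((σ ⟨m, hm⟩ : N) : U ⧸ L)) hq'
        exact (mul_inv_eq_iff_eq_mul.1 h3).symm
    have hginj : Function.Injective g := (injective_iff_map_eq_one g).2 fun x hx => by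
      simpa [hbot] using (hgk x).1 hx
    have htb1 : tb ≠ 1 := fun h => htN (h ▸ N.one_mem)
    obtain ⟨a, ha⟩ := altFive_invol_conj (g tb) (g (π y)) (by rw [← map_mul, htb2, map_one])
      (fun h => htb1 (hginj (h.trans (map_one g).symm))) (by rw [← map_mul, hyb2, map_one])
      (fun h => hyb1 (hginj (h.trans (map_one g).symm)))
    obtain ⟨a', rfl⟩ := hgs a
    exact lift (gb := a') (hginj (by rw [map_mul, map_mul, map_inv, ha]))
  · exfalso
    haveI : Fact (Nat.Prime 7) := ⟨by norm_num⟩
    obtain ⟨hsimp, h168⟩ := Small.PSLThreeTwo.psl_two_seven (F := ZMod 7) (ZMod.card 7)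
    haveI := hsimp
    haveI : Nontrivial (U ⧸ L) := e.toEquiv.nontrivial
    haveI : IsSimpleGroup (U ⧸ L) := e.isSimpleGroup
    have hc168 : Nat.card (U ⧸ L) = 168 := (Nat.card_congr e.toEquiv).trans h168
    have htb1 : tb ≠ 1 := fun h => by
      rw [h, one_mul, inv_one, mul_one, eq_inv_iff_mul_eq_one] at hinvb
      rw [pow_succ, pow_two, hinvb, one_mul] at hqb3
      exact hqb1 hqb3
    obtain ⟨-, -, hcs, -⟩ := Small.Order168.count24 hc168
    obtain ⟨S, hS⟩ := hcs tb (orderOf_eq_prime (by rw [pow_two, htb2]) htb1)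
    haveI : Fact (Nat.Prime 2) := ⟨Nat.prime_two⟩
    rw [hS, Small.Order168.card_P2 hc168] at hCtb
    omega

end Cfsg.Agent.Spor.SymNine
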