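import Cfsg.Agent.Lib.Spor.SymNine.Small
import Cfsg.Agent.Lib.Spor.SymNine.Invol

/-!
The automiser of order twelve: one of the involutions of a four-group commuting with the transposition is isolated.
-/

set_option autoImplicit false
set_option linter.unusedSectionVars false
set_option linter.style.haveILetI false
set_option maxRecDepth 100000
set_option synthInstance.maxSize 4096
set_option synthInstance.maxHeartbeats 200000

namespace Cfsg.Agent.Spor.SymNine

open Cfsg.Agent.Lie.PSpFourThreeAmalgam (V3 mT)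
open Cfsg.Agent.Lie.PSpFourThreeFull (smap smap_add dia)

theorem two_comm_t : ∀ p, Kind.two.mem p → (∀ u, smap p (mT u) = mT (smap p u)) →
    (∀ u, smap p u = u) ∨ (∀ u, smap p u = mT u) ∨ (∀ u, smap p u = -u) ∨ ∀ u, smap p u = -mT u := by
  decide +kernel

theorem two_not_swap : ∀ p, Kind.two.mem p → ¬ ∀ u, smap p (-mT u) = mT (smap p u) := by decide +kernel

theorem two_fix : ∀ p, Kind.two.mem p → smap p (1, 2, 0) = (1, 2, 0) →
    (∀ u, smap p (-mT u) = -mT (smap p u)) → (∀ u, smap p u = u) ∨ ∀ u, smap p u = -mT u := by decide +kernel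

theorem two_vec : Kind.two.mem (0, false) ∧ (∀ u, smap (0, false) u = -u) ∧
    mT ((1, 2, 0) : V3) = -(1, 2, 0) ∧ -mT ((1, 2, 0) : V3) = (1, 2, 0) ∧ ((1, 2, 0) : V3) ≠ 0 ∧
    (∀ v : V3, -mT v = v → mT v = v → v = 0) ∧
    (∀ v : V3, -mT v = v → v = 0 ∨ v = (1, 2, 0) ∨ v = (1, 2, 0) + (1, 2, 0)) ∧
    mT ((1, 0, 0) : V3) ≠ (1, 0, 0) ∧ -mT ((1, 0, 0) : V3) ≠ (1, 0, 0) ∧ (∀ u, mT (-u) = -mT u) ∧
    (∀ u, mT (mT u) = u) := by decide +kernel

namespace Conf

variable {G : Type*} [Group G] [Finite G] (T : Conf G)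

namespace Framed

variable {T} {κ : Kind} (hF : T.Framed κ)
include hF
variable (hc : ∀ v : V3, v ≠ 0 → T.centQ v ≤ Subgroup.normalizer (T.J : Set G))
include hc

/-- The automiser of order twelve gives a normal base. -/
theorem normal_two (hκ : κ = .two) : Subgroup.normalizer (T.J : Set G) = ⊤ := by
  classical
  subst hκ
  haveI : Fact (Nat.Prime 2) := ⟨Nat.prime_two⟩
  obtain ⟨k2m, k2v, hv0T, hv0U, hv00, hboth, hline, hTmov, hUmov, hTneg, hTT⟩ := two_vec
  -- an involution inverting the base and commuting with the transposition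
  obtain ⟨g₀, hg₀⟩ := hF.all _ k2m
  obtain ⟨w₀, hw₀⟩ := T.mem_J.1 (T.mem_J_of_acts (x := g₀ * g₀) fun v =>
    (Acts.mul T hg₀ hg₀ v).trans (congrArg T.q (((k2v _).trans (congrArg Neg.neg (k2v v))).trans (neg_neg v))))
  set z₀ := g₀ * g₀ * g₀ with hz₀
  have hz₀sq : z₀ * z₀ = 1 := by
    rw [hz₀, ← T.q_cube w₀, hw₀, pow_succ, pow_two]
    group
  have hz₀a : T.Acts z₀ fun v => -v := fun v => by
    rw [hz₀, Acts.mul T (Acts.mul T hg₀ hg₀) hg₀ v]
    simp only [k2v, neg_neg]
  have hz₀i : z₀⁻¹ = z₀ := inv_eq_of_mul_eq_one_right hz₀sq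
  have hti : T.t⁻¹ = T.t := inv_eq_of_mul_eq_one_right T.t_sq
  obtain ⟨w, hw⟩ := T.mem_J.1 (T.mem_J_of_acts (x := T.t * z₀ * T.t⁻¹ * z₀⁻¹) fun v => by
    rw [hti, hz₀i, Acts.mul T (Acts.mul T (Acts.mul T T.t_acts hz₀a) T.t_acts) hz₀a v]
    simp only [id, hTneg, hTT, neg_neg])
  have hwT : mT w = -w := T.q_inj (by
    rw [← T.t_acts, hw, T.q_neg, hw, hti, hz₀i]
    simp only [mul_inv_rev, hti, hz₀i, mul_assoc, ← mul_assoc T.t T.t, T.t_sq, one_mul])
  set z := T.q (-w) * z₀ with hz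
  have hza : T.Acts z fun v => -v := fun v => by
    rw [hz, Acts.mul T (T.acts_of_mem (T.q_mem _)) hz₀a v]
    rfl
  have hz2 : z * z = 1 := by
    have h1 : z₀ * T.q (-w) = T.q w * z₀ := by
      rw [Acts.comm T hz₀a, neg_neg]
    calc z * z = T.q (-w) * (z₀ * T.q (-w)) * z₀ := by simp only [hz, mul_assoc]
      _ = T.q (-w) * T.q w * (z₀ * z₀) := by rw [h1]; simp only [mul_assoc]
      _ = 1 := by rw [← T.q_add, neg_add_cancel, T.q_zero, one_mul, hz₀sq]
  have htz : T.t * z = z * T.t := by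
    have h1 : T.t * z₀ = T.q w * z₀ * T.t := by rw [hw]; group
    rw [hz, ← mul_assoc, Acts.comm T T.t_acts,
      show mT (-w) = w by rw [hTneg, hwT, neg_neg], mul_assoc, h1, ← mul_assoc, ← mul_assoc, ← T.q_add,
      show w + w = -w from (show ∀ w : V3, w + w = -w by decide +kernel) w]
  set u := T.t * z with hu
  have hua : T.Acts u fun v => -mT v := fun v => by
    rw [hu, Acts.mul T T.t_acts hza v]
    simp only [hTneg]
  have htu : T.t * u = z := by rw [hu, ← mul_assoc, T.t_sq, one_mul]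
  have hut : u * T.t = z := by rw [hu, mul_assoc, ← htz, ← mul_assoc, T.t_sq, one_mul]
  have hu2 : u * u = 1 := by rw [hu, ← mul_assoc, ← hu, hut, hz2]
  have hzu : z * u = T.t := by rw [hu, ← mul_assoc, ← htz, mul_assoc, hz2, mul_one]
  have hu1 : u ≠ 1 := fun h => by
    have h1 := hua (1, 0, 0)
    rw [h, one_mul, inv_one, mul_one] at h1
    exact hUmov (T.q_inj h1).symm
  -- a Sylow subgroup
  have hpow : ∀ {a : G}, a * a = 1 → IsPGroup 2 (Subgroup.zpowers a) := fun {a} ha x => ⟨1, by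
    obtain ⟨i, hi⟩ := Subgroup.mem_zpowers_iff.1 x.2
    refine Subtype.ext ?_
    rw [pow_one, SubgroupClass.coe_pow, ← hi, pow_two, ← zpow_add, ← two_mul, zpow_mul, zpow_two, ha, one_zpow]
    rfl⟩
  obtain ⟨P, hP⟩ := ((hpow T.t_sq).to_sup_of_normal_right' (hpow hz2) (Subgroup.zpowers_le.2
    (Subgroup.centralizer_le_normalizer _ (Subgroup.mem_centralizer_iff.2 fun x hx => by
      obtain ⟨i, rfl⟩ := Subgroup.mem_zpowers_iff.1 hx
      exact ((show Commute T.t z from htz).zpow_right i).eq.symm)))).exists_le_sylow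
  have htP : T.t ∈ (P : Subgroup G) := hP (Subgroup.mem_sup_left (Subgroup.mem_zpowers _))
  have hzP : z ∈ (P : Subgroup G) := hP (Subgroup.mem_sup_right (Subgroup.mem_zpowers _))
  have huP : u ∈ (P : Subgroup G) := mul_mem htP hzP
  have hCP : ∀ x ∈ (P : Subgroup G), x * T.t = T.t * x → x = 1 ∨ x = T.t ∨ x = z ∨ x = u := by
    intro x hx hxt
    obtain ⟨p, hp, hxp, hcomm, -⟩ := hF.comm_t_sq (hF.cent_t hc hxt) hxt
    rcases two_comm_t p hp hcomm with h | h | h | h
    · exact Or.inl (T.J_two P hx (T.mem_J_of_acts fun v => (hxp v).trans (congrArg T.q (h v))))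
    · have h1 := T.J_two P (mul_mem hx htP) (T.mem_J_of_acts fun v =>
        (Acts.mul T hxp T.t_acts v).trans (congrArg T.q ((h _).trans (hTT v))))
      rw [mul_eq_one_iff_eq_inv, hti] at h1
      exact Or.inr (Or.inl h1)
    · have h1 := T.J_two P (mul_mem hx hzP) (T.mem_J_of_acts fun v =>
        (Acts.mul T hxp hza v).trans (congrArg T.q ((h _).trans (neg_neg v))))
      rw [mul_eq_one_iff_eq_inv, inv_eq_of_mul_eq_one_right hz2] at h1
      exact Or.inr (Or.inr (Or.inl h1))
    · have h1 := T.J_two P (mul_mem hx huP) (T.mem_J_of_acts fun v =>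
        (Acts.mul T hxp hua v).trans (congrArg T.q ((h _).trans (by simp only [hTneg, hTT, neg_neg, id]))))
      rw [mul_eq_one_iff_eq_inv, inv_eq_of_mul_eq_one_right hu2] at h1
      exact Or.inr (Or.inr (Or.inr h1))
  -- the two involutions are not conjugate
  have hnc : ∀ g : G, g * u * g⁻¹ ≠ T.t := by
    intro g h
    have hfix : g⁻¹ * T.t * g * T.q (1, 2, 0) = T.q (1, 2, 0) * (g⁻¹ * T.t * g) := by
      rw [← h, show g⁻¹ * (g * u * g⁻¹) * g = u by group]
      exact (Acts.comm_iff T hua).2 hv0U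
    obtain ⟨p, hp, hgp⟩ := hF.dir g (hF.mem_normalizer_of_fixed hc hv00 hfix)
    refine two_not_swap p hp fun v => T.q_inj ?_
    rw [← Acts.mul T hgp hua v, ← Acts.mul T T.t_acts hgp v, mul_inv_eq_iff_eq_mul.1 h]
  have tiso : (∀ g : G, g * T.t * g⁻¹ ∈ (P : Subgroup G) → g * T.t * g⁻¹ = T.t) →
      Subgroup.normalizer (T.J : Set G) = ⊤ := fun h =>
    hF.top_of_isolated hc P (orderOf_eq_prime (by rw [pow_two, T.t_sq]) T.t_ne) htP h (v := (1, 0, 0))
      fun e => hTmov ((Acts.comm_iff T T.t_acts).1 e)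
  have uiso : (∀ g : G, g * u * g⁻¹ ∈ (P : Subgroup G) → g * u * g⁻¹ = u) →
      Subgroup.normalizer (T.J : Set G) = ⊤ := fun h =>
    hF.top_of_isolated hc P (orderOf_eq_prime (by rw [pow_two, hu2]) hu1) huP h (v := (1, 0, 0))
      fun e => hUmov ((Acts.comm_iff T hua).1 e)
  by_cases hab : ∀ x ∈ (P : Subgroup G), x * T.t = T.t * x
  · -- the four-group is a Sylow subgroup
    by_cases h : ∀ g : G, g * T.t * g⁻¹ ∈ (P : Subgroup G) → g * T.t * g⁻¹ = T.t
    · exact tiso h
    push Not at h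
    obtain ⟨g, hg, hgt⟩ := h
    refine uiso fun k hk => ?_
    rcases hCP _ hk (hab _ hk) with e | e | e | e
    · exact absurd (conj_eq_one_iff.1 e) hu1
    · exact absurd e (hnc k)
    · exfalso
      rcases hCP _ hg (hab _ hg) with e' | e' | e' | e'
      · exact T.t_ne (conj_eq_one_iff.1 e')
      · exact hgt e'
      · refine hnc (g⁻¹ * k) ?_
        calc g⁻¹ * k * u * (g⁻¹ * k)⁻¹ = g⁻¹ * (k * u * k⁻¹) * g := by group
          _ = g⁻¹ * (g * T.t * g⁻¹) * g := by rw [e, e']
          _ = T.t := by group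
      · exact hnc g⁻¹ (by rw [← e']; group)
    · exact e
  -- the Sylow subgroup is larger
  have hxP : ∃ x ∈ (P : Subgroup G), x * T.t * x⁻¹ = z ∧ x * u * x⁻¹ = u := by
    haveI : Group.IsNilpotent (P : Subgroup G) := P.2.isNilpotent
    set C := (Subgroup.centralizer ({T.t} : Set G)).subgroupOf (P : Subgroup G)
    have hC : C < ⊤ := lt_top_iff_ne_top.2 fun h => hab fun x hx =>
      Subgroup.mem_centralizer_singleton_iff.1 (Subgroup.mem_subgroupOf.1 (h ▸ Subgroup.mem_top (⟨x, hx⟩ : (P : Subgroup G))))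
    obtain ⟨x, hx, hxC⟩ := SetLike.exists_of_lt (Group.normalizerCondition_of_isNilpotent _ hC)
    have hxt : (x : G) * T.t ≠ T.t * x := fun h =>
      hxC (Subgroup.mem_subgroupOf.2 (Subgroup.mem_centralizer_singleton_iff.2 h))
    have hconj : ∀ a, (ha : a ∈ (P : Subgroup G)) → a * T.t = T.t * a →
        (x : G) * a * (x : G)⁻¹ = 1 ∨ (x : G) * a * (x : G)⁻¹ = T.t ∨ (x : G) * a * (x : G)⁻¹ = z ∨
          (x : G) * a * (x : G)⁻¹ = u := by
      intro a ha hat
      have h1 := (Subgroup.mem_normalizer_iff.1 hx ⟨a, ha⟩).1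
        (Subgroup.mem_subgroupOf.2 (Subgroup.mem_centralizer_singleton_iff.2 hat))
      exact hCP _ (mul_mem (mul_mem x.2 ha) (inv_mem x.2))
        (Subgroup.mem_centralizer_singleton_iff.1 (Subgroup.mem_subgroupOf.1 h1))
    have e1 : (x : G) * T.t * (x : G)⁻¹ = z := by
      rcases hconj T.t htP rfl with e | e | e | e
      · exact absurd (conj_eq_one_iff.1 e) T.t_ne
      · exact absurd (mul_inv_eq_iff_eq_mul.1 e) hxt
      · exact e
      · exact absurd (by rw [← e]; group) (hnc (x : G)⁻¹)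
    refine ⟨x, x.2, e1, ?_⟩
    have hprod : (x : G) * u * (x : G)⁻¹ = z * ((x : G) * z * (x : G)⁻¹) := by
      calc (x : G) * u * (x : G)⁻¹ = (x : G) * T.t * (x : G)⁻¹ * ((x : G) * z * (x : G)⁻¹) := by rw [hu]; group
        _ = _ := by rw [e1]
    rcases hconj z hzP htz.symm with e | e | e | e
    · exact absurd (conj_eq_one_iff.1 e) fun h => by
        have h1 := hza (1, 2, 0)
        rw [h, one_mul, inv_one, mul_one] at h1
        exact hv00 (v_facts.2.1 _ (T.q_inj h1).symm)
    · rw [hprod, e, ← htz]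
    · exfalso
      have h1 : T.t = z := mul_left_cancel (mul_right_cancel (e1.trans e.symm))
      exact hu1 (by rw [hu, h1, hz2])
    · exact absurd (by rw [hprod, e, hzu]) (hnc (x : G))
  obtain ⟨x, hxP, hxt, hxu⟩ := hxP
  haveI : Nontrivial (P : Subgroup G) := ⟨⟨T.t, htP⟩, 1, fun h => T.t_ne (congrArg Subtype.val h)⟩
  haveI := P.2.center_nontrivial
  obtain ⟨⟨s, hs⟩, hs1⟩ := exists_ne (1 : Subgroup.center (P : Subgroup G))
  have hsc : ∀ y ∈ (P : Subgroup G), y * (s : G) = (s : G) * y := fun y hy =>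
    congrArg Subtype.val (Subgroup.mem_center_iff.1 hs ⟨y, hy⟩)
  have hsu : (s : G) = u := by
    rcases hCP _ s.2 (hsc T.t htP).symm with e | e | e | e
    · exact absurd (Subtype.ext (Subtype.ext e)) hs1
    · exfalso
      have h := hsc x hxP
      rw [e, ← mul_inv_eq_iff_eq_mul, hxt] at h
      rw [hu, ← h, hz2] at hu1
      exact hu1 rfl
    · exfalso
      have h := hsc x hxP
      rw [e, ← mul_inv_eq_iff_eq_mul] at h
      have h1 : T.t = z := mul_left_cancel (mul_right_cancel (hxt.trans h.symm))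
      rw [hu, h1, hz2] at hu1
      exact hu1 rfl
    · exact e
  set U := Subgroup.centralizer ({u} : Set G) with hU
  have hPU : ∀ y ∈ (P : Subgroup G), y ∈ U := fun y hy =>
    Subgroup.mem_centralizer_singleton_iff.2 (hsu ▸ hsc y hy)
  have hqU : T.q (1, 2, 0) ∈ U := Subgroup.mem_centralizer_singleton_iff.2 ((Acts.comm_iff T hua).2 hv0U).symm
  have huu : ∀ y : U, (y : G) * u = u * (y : G) := fun y => Subgroup.mem_centralizer_singleton_iff.1 y.2
  have hJU : ∀ y ∈ T.J, y * u = u * y → ∃ i : ℕ, y = T.q (1, 2, 0) ^ i := by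
    intro y hy h
    obtain ⟨v, rfl⟩ := T.mem_J.1 hy
    rcases hline v ((Acts.comm_iff T hua).1 h.symm) with rfl | rfl | rfl
    · exact ⟨0, by rw [pow_zero, T.q_zero]⟩
    · exact ⟨1, (pow_one _).symm⟩
    · exact ⟨2, by rw [pow_two, T.q_add]⟩
  have key := invol_conj (⟨u, hPU u huP⟩ : U) ⟨T.t, hPU _ htP⟩ ⟨T.q (1, 2, 0), hqU⟩
    (Subtype.ext hu2) (fun h => hu1 (congrArg Subtype.val h)) (fun y => Subtype.ext (huu y))
    (Subtype.ext T.t_sq) (Subtype.ext (by rw [SubgroupClass.coe_pow, T.q_cube]; rfl))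
    (fun h => hv00 (T.q_eq_one.1 (congrArg Subtype.val h)))
    (Subtype.ext (by
      simp only [Subgroup.coe_mul, Subgroup.coe_inv]
      rw [T.t_acts, hv0T, T.q_neg]))
    (fun y hy => by
      have hyq : (y : G) * T.q (1, 2, 0) = T.q (1, 2, 0) * (y : G) := congrArg Subtype.val hy
      obtain ⟨p, hp, hyp⟩ := hF.dir _ (hc _ hv00 (Conf.mem_centQ.2 hyq))
      rcases two_fix p hp ((Acts.comm_iff T hyp).1 hyq) (fun v => T.q_inj (by
          rw [← Acts.mul T hyp hua v, huu y, Acts.mul T hua hyp v])) with h | h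
      · obtain ⟨i, hi⟩ := hJU _ (T.mem_J_of_acts fun v => (hyp v).trans (congrArg T.q (h v))) (huu y)
        exact ⟨i, Or.inl (Subtype.ext hi)⟩
      · obtain ⟨i, hi⟩ := hJU ((y : G) * u) (T.mem_J_of_acts fun v =>
          (Acts.mul T hyp hua v).trans (congrArg T.q ((h _).trans (by simp only [hTneg, hTT, neg_neg, id]))))
          (by rw [mul_assoc, hu2, ← mul_assoc u, ← huu y, mul_assoc, hu2])
        refine ⟨i, Or.inr (Subtype.ext ?_)⟩
        simp only [Subgroup.coe_mul, SubgroupClass.coe_pow]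
        rw [← hi, mul_assoc, hu2, mul_one])
    (by
      haveI := Fintype.ofFinite U
      haveI := Fintype.ofFinite (Subgroup.centralizer ({(⟨T.t, hPU _ htP⟩ : U)} : Set U))
      have hsub : ∀ y : U, y ∈ Subgroup.centralizer ({(⟨T.t, hPU _ htP⟩ : U)} : Set U) →
          (y : G) ∈ ({1, T.t, z, u} : Finset G) := by
        intro y hy
        have hyt : (y : G) * T.t = T.t * (y : G) := congrArg Subtype.val (Subgroup.mem_centralizer_singleton_iff.1 hy)
        obtain ⟨p, hp, hyp, hcomm, -⟩ := hF.comm_t_sq (hF.cent_t hc hyt) hyt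
        have triv : ∀ a, a ∈ T.J → a * T.t = T.t * a → a * u = u * a → a = 1 := by
          intro a ha h1 h2
          obtain ⟨v, rfl⟩ := T.mem_J.1 ha
          rw [hboth v ((Acts.comm_iff T hua).1 h2.symm) ((Acts.comm_iff T T.t_acts).1 h1.symm), T.q_zero]
        have mk : ∀ {a : G} {f : V3 → V3}, T.Acts a f → a * a = 1 → a * T.t = T.t * a → a * u = u * a →
            (∀ v, smap p (f v) = v) → (y : G) = a := by
          intro a f ha ha2 hat hau h
          have h1 := triv ((y : G) * a) (T.mem_J_of_acts fun v => (Acts.mul T hyp ha v).trans (congrArg T.q (h v)))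
            (((show Commute (y : G) T.t from hyt).mul_left hat).eq)
            (((show Commute (y : G) u from huu y).mul_left hau).eq)
          rw [mul_eq_one_iff_eq_inv, inv_eq_of_mul_eq_one_right ha2] at h1
          exact h1
        simp only [Finset.mem_insert, Finset.mem_singleton]
        rcases two_comm_t p hp hcomm with h | h | h | h
        · exact Or.inl (triv _ (T.mem_J_of_acts fun v => (hyp v).trans (congrArg T.q (h v))) hyt (huu y))
        · exact Or.inr (Or.inl (mk T.t_acts T.t_sq rfl (by rw [htu, hut]) fun v => (h _).trans (hTT v)))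
        · exact Or.inr (Or.inr (Or.inl (mk hza hz2 htz.symm
            (by rw [hzu, hu, mul_assoc, hz2, mul_one]) fun v => (h _).trans (neg_neg v))))
        · exact Or.inr (Or.inr (Or.inr (mk hua hu2 (by rw [htu, hut]) rfl fun v => (h _).trans (by
            simp only [hTneg, hTT, neg_neg, id]))))
      rw [Nat.card_eq_fintype_card]
      refine le_trans ?_ (Finset.card_le_four (a := (1 : G)) (b := T.t) (c := z) (d := u))
      rw [← Fintype.card_coe]
      exact Fintype.card_le_of_injective (fun y => ⟨_, hsub y.1 y.2⟩)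
        fun a b h => Subtype.ext (Subtype.ext (congrArg (fun q : ({1, T.t, z, u} : Finset G) => (q : G)) h)))
    ⟨⟨x, hPU x hxP⟩, Subtype.ext (by
      simp only [Subgroup.coe_mul, Subgroup.coe_inv]
      rw [hxt, htu])⟩
  refine uiso fun g hg => ?_
  by_contra hne
  obtain ⟨c, hc'⟩ := isConj_iff.1 (key ⟨_, hPU _ hg⟩ (Subtype.ext (by
      show g * u * g⁻¹ * (g * u * g⁻¹) = 1
      rw [show g * u * g⁻¹ * (g * u * g⁻¹) = g * (u * u) * g⁻¹ by group, hu2]
      group))
    (fun h => hu1 (conj_eq_one_iff.1 (congrArg Subtype.val h))) (fun h => hne (congrArg Subtype.val h)))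
  have h1 : (c : G) * T.t * (c : G)⁻¹ = g * u * g⁻¹ := congrArg Subtype.val hc'
  refine hnc ((c : G)⁻¹ * g) ?_
  calc (c : G)⁻¹ * g * u * ((c : G)⁻¹ * g)⁻¹ = (c : G)⁻¹ * (g * u * g⁻¹) * c := by group
    _ = T.t := by rw [← h1]; group

end Framed

end Conf

end Cfsg.Agent.Spor.SymNine
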