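import Cfsg.Agent.Lib.Spor.SymNine.Small
import Cfsg.Agent.Lib.Spor.SymNine.Two
import Cfsg.Agent.Lib.Spor.SymNine.Top

/-!
A group with a centraliser like that of a product of three disjoint three-cycles: the base is normal or the group
is the symmetric group of degree nine.
-/

set_option autoImplicit false
set_option linter.unusedSectionVars false
set_option maxRecDepth 100000
set_option synthInstance.maxSize 4096
set_option synthInstance.maxHeartbeats 200000

namespace Cfsg.Agent.Spor.SymNine

open Cfsg.Agent.Lie.PSpFourThreeAmalgam (V3)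
open Cfsg.Agent.Lie.PSpFourThreeFull (smap)

theorem pair_sq : ∀ p : Fin 24 × Bool, smap p (1, 1, 0) = (1, 1, 0) → ∀ u, smap p (smap p u) = u := by
  decide +kernel

theorem pair_ne : ((1, 1, 0) : V3) ≠ 0 := by decide

/-- The dichotomy. -/
theorem normal_or_symNine {G : Type*} [Group G] [Finite G] (T₀ : Conf G)
    (hfour : ∀ T : Conf G, T.Framed .four →
      (∀ v : V3, v ≠ 0 → T.centQ v ≤ Subgroup.normalizer (T.J : Set G)) →
      Subgroup.normalizer (T.J : Set G) = ⊤)
    (hbig : ∀ T : Conf G, T.Framed .eight → T.centQ (1, 1, 0) ≤ Subgroup.normalizer (T.J : Set G) →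
      ∀ π : T.centQ (0, 0, 1) →* Equiv.Perm (Fin 6), Function.Surjective π → π.ker = T.lineQ (0, 0, 1) →
      ∃ Ψ : Equiv.Perm (Fin 9) →* G, Function.Injective Ψ ∧
        ∀ x, orderOf x = 3 → ∀ g : G, Commute g (Ψ x) → g ∈ Ψ.range) :
    T₀.J.Normal ∨ Nonempty (G ≃* Equiv.Perm (Fin 9)) := by
  obtain ⟨T, κ, -, hJ, hF⟩ := T₀.exists_framed
  rw [← hJ]
  have small : (κ = .eight → T.centQ (0, 0, 1) ≤ Subgroup.normalizer (T.J : Set G)) → T.J.Normal := by
    intro hax
    have hc : ∀ v : V3, v ≠ 0 → T.centQ v ≤ Subgroup.normalizer (T.J : Set G) :=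
      fun v hv => hF.cent_le_of_axis hax hv
    refine Subgroup.normalizer_eq_top_iff.1 ?_
    cases κ with
    | one => exact hF.normal_one hc rfl
    | two => exact hF.normal_two hc rfl
    | four => exact hfour T hF hc
    | eight => exact hF.normal_eight hc rfl
  by_cases hκ : κ = .eight
  · subst hκ
    rcases hF.axis_cent (fun _ => trivial) with h | ⟨π, hπ, hk⟩
    · exact Or.inl (small fun _ => h)
    · obtain ⟨Ψ, hinj, hcent⟩ := hbig T hF (hF.cent_of_sq pair_ne fun p _ hp => pair_sq p hp) π hπ hk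
      have htop := Top.sym_nine_eq_top Ψ hinj hcent
      exact Or.inr ⟨((MonoidHom.ofInjective hinj).trans
        ((MulEquiv.subgroupCongr htop).trans Subgroup.topEquiv)).symm⟩
  · exact Or.inl (small fun h => absurd h hκ)

end Cfsg.Agent.Spor.SymNine
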