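import Cfsg.Agent.Lib.Solv.ThreeLocal.SixA
import Cfsg.Agent.Lib.Solv.ThreeLocal.Top
import Cfsg.Agent.Lib.Solv.ThreeLocal.Make
import Cfsg.Agent.Lib.Small.Order168
import Cfsg.Agent.Lib.Small.PSLThreeTwo
import Cfsg.Agent.Lib.Char.SmallOrderGraph.Split.Sixty
import Cfsg.Agent.Lib.Lie.PSpFourThreeAmalgam.NoFive
import Cfsg.Agent.S3331
import Cfsg.Agent.S3805

/-!
# A self-centralising plane of order nine with an automiser of exponent two is normal
-/

set_option autoImplicit false
set_option linter.unusedSectionVars false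

namespace Cfsg.Agent.Spor.SymNine

open Cfsg.Agent.Solv.ThreeLocal

universe u

theorem pl_neg_eq : ∀ t : Pl, -t = t → t = 0 := by decide

theorem pl_fixed : ∀ u w : Pl, u ≠ 0 → w ≠ 0 → (∀ i : ZMod 3, w ≠ i • u) → ∀ i j : ZMod 3,
    i • u - j • w = i • u + j • w → j = 0 := by decide +kernel

theorem pl_antifixed : ∀ u w : Pl, u ≠ 0 → w ≠ 0 → (∀ i : ZMod 3, w ≠ i • u) → ∀ i j : ZMod 3,
    i • u - j • w = -(i • u + j • w) → i = 0 := by decide +kernel

theorem pl10_fst : Multiplicative.ofAdd (((1, 0) : Pl)).1 ≠ 1 := by decide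

theorem pl01_ne : ((0, 1) : Pl) ≠ 0 := by decide

theorem pl01_neg : ((((0, 1) : Pl)).1, -(((0, 1) : Pl)).2) = -((0, 1) : Pl) := by decide

theorem pl01_refl : ((0, 1) : Pl) ≠ ((((0, 1) : Pl)).1, -(((0, 1) : Pl)).2) := by decide

theorem mz_cube : ∀ z : Multiplicative (ZMod 3), z ^ 3 = 1 := by decide

theorem mz_pow : ∀ z : Multiplicative (ZMod 3), (z ^ 1 = 1 → z = 1) ∧ (z ^ 2 = 1 → z = 1) ∧ (z = z⁻¹ → z = 1) := by
  decide

theorem pl_mult : ∀ u : Pl, ∀ i : ZMod 3, i • u = 0 ∨ i • u = u ∨ i • u = -u := by decide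

theorem map_smul_pl (L : Pl ≃+ Pl) (i : ZMod 3) (v : Pl) : L (i • v) = i • L v := by
  obtain rfl | rfl | rfl : i = 0 ∨ i = 1 ∨ i = 2 := by revert i; decide
  · simp
  · simp
  · rw [two_smul, two_smul, map_add]

variable {G : Type u} [Group G] [Finite G] (X : Ctx G)

/-- A group of 3-power order acting on a prime Sylow set of size prime to three. -/
theorem no_sylow_set (hcent : Subgroup.centralizer (X.S : Set G) = X.S) (K : Subgroup G) [K.Normal]
    (p : ℕ) [Fact p.Prime] (hp : p ≠ 3) (hn : ¬ 3 ∣ Nat.card (Sylow p K)) (hd : p ∣ Nat.card K) : False := by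
  haveI : Fact (Nat.Prime 3) := ⟨Nat.prime_three⟩
  letI : MulDistribMulAction X.S K :=
    MulDistribMulAction.compHom K ((MulAut.conjNormal (H := K)).comp X.S.subtype)
  have hS : IsPGroup 3 X.S := IsPGroup.of_card (n := 2) (by rw [X.card_S]; norm_num)
  have h := hS.card_modEq_card_fixedPoints (Sylow p K)
  obtain ⟨P, hP⟩ : ∃ P : Sylow p K, P ∈ MulAction.fixedPoints X.S (Sylow p K) := by
    by_contra hne
    push Not at hne
    haveI : IsEmpty (MulAction.fixedPoints X.S (Sylow p K)) := ⟨fun x => hne x.1 x.2⟩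
    rw [Nat.card_of_isEmpty (α := MulAction.fixedPoints X.S (Sylow p K))] at h
    exact hn (Nat.modEq_zero_iff_dvd.1 h)
  set Q := (P : Subgroup K).map K.subtype with hQ
  have hmem : ∀ s ∈ X.S, ∀ x ∈ Q, s * x * s⁻¹ ∈ Q := by
    rintro s hs _ ⟨y, hy, rfl⟩
    have e : (⟨s, hs⟩ : X.S) • P = P := hP _
    refine ⟨MulAut.conjNormal s y, ?_, ?_⟩
    · rw [SetLike.mem_coe, ← e]
      exact ⟨y, hy, rfl⟩
    · exact MulAut.conjNormal_apply s y
  have hnorm : X.S ≤ Subgroup.normalizer (Q : Set G) := fun s hs => by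
    rw [Subgroup.mem_normalizer_iff]
    refine fun x => ⟨hmem s hs x, fun hx => ?_⟩
    have := hmem s⁻¹ (X.S.inv_mem hs) _ hx
    rwa [show s⁻¹ * (s * x * s⁻¹) * s⁻¹⁻¹ = x by group] at this
  have hc : Nat.card Q = Nat.card (P : Subgroup K) :=
    Subgroup.card_map_of_injective K.subtype_injective
  have h3 : ¬ 3 ∣ Nat.card Q := by
    rw [hc]
    obtain ⟨k, hk⟩ := IsPGroup.iff_card.1 P.2
    rw [hk]
    exact fun h3 => hp (((Nat.prime_dvd_prime_iff_eq Nat.prime_three (Fact.out : p.Prime)).1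
      (Nat.prime_three.dvd_of_dvd_pow h3)).symm)
  have hb := core_trivial hcent hnorm h3
  rw [hb, Subgroup.card_bot] at hc
  have := P.dvd_card_of_dvd_card hd
  rw [← hc] at this
  exact (Fact.out : p.Prime).one_lt.not_ge (Nat.le_of_dvd one_pos this)

/-- No elements outside the plane normalise it: then the plane is everything. -/
theorem normal_of_trivial (hcent : Subgroup.centralizer (X.S : Set G) = X.S) (P : Sylow 3 G)
    (hP : (P : Subgroup G) = X.S) (hN : Subgroup.normalizer (X.S : Set G) ≤ X.S) : X.S.Normal := by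
  haveI : Fact (Nat.Prime 3) := ⟨Nat.prime_three⟩
  have hle : Subgroup.normalizer ((P : Subgroup G) : Set G) ≤ Subgroup.centralizer ((P : Subgroup G) : Set G) := by
    rw [hP]
    exact hN.trans hcent.ge
  have hc := MonoidHom.ker_transferSylow_isComplement' P hle
  set M := (MonoidHom.transferSylow P hle).ker with hM
  have h1 := hc.card_mul
  have h2 := (P : Subgroup G).card_mul_index
  rw [← h1, mul_comm] at h2
  have h3 : (P : Subgroup G).index = Nat.card M := Nat.eq_of_mul_eq_mul_right Nat.card_pos h2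
  have hM3 : ¬ 3 ∣ Nat.card M := h3 ▸ P.not_dvd_index
  have hb : M = ⊥ := core_trivial hcent
    (by rw [Subgroup.normalizer_eq_top_iff.2 (MonoidHom.normal_ker _)]; exact le_top) hM3
  rw [hb, Subgroup.card_bot, one_mul, hP] at h1
  rw [Subgroup.eq_top_of_card_eq _ h1]
  infer_instance

/-- Every element outside the plane inverts it. -/
theorem normal_of_inverted (hcent : Subgroup.centralizer (X.S : Set G) = X.S) {r : G}
    (hr : r ∈ Subgroup.normalizer (X.S : Set G)) (hrS : r ∉ X.S)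
    (hinv : ∀ g ∈ Subgroup.normalizer (X.S : Set G), g ∉ X.S → ∀ v, g * X.e v * g⁻¹ = X.e (-v)) :
    X.S.Normal := by
  haveI := Fintype.ofFinite G
  by_contra hnn
  have hsemi : ∀ v, v ≠ 0 → Subgroup.centralizer ({X.e v} : Set G) = X.S := by
    intro v hv
    refine le_antisymm (fun g hg => ?_) fun g hg => ?_
    · rw [Subgroup.mem_centralizer_singleton_iff] at hg
      by_contra hgS
      have h := hinv g (X.loc v hv g hg) hgS v
      rw [hg, mul_inv_cancel_right] at h
      exact hv (pl_neg_eq v (X.inj h).symm)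
    · rw [Subgroup.mem_centralizer_singleton_iff]
      obtain ⟨t, rfl⟩ := (X.mem_iff g).1 hg
      exact X.e_comm t v
  refine false_of_four_classes X hsemi hnn fun v w hv => ⟨fun h => ?_, ?_⟩
  · obtain ⟨g, hg, hgv⟩ := X.exists_of_isConj hv h
    by_cases hgS : g ∈ X.S
    · obtain ⟨t, rfl⟩ := (X.mem_iff g).1 hgS
      rw [X.e_comm, mul_inv_cancel_right] at hgv
      exact Or.inl (X.inj hgv).symm
    · exact Or.inr (X.inj ((hinv g hg hgS v).symm.trans hgv)).symm
  · rintro (rfl | rfl)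
    · exact IsConj.refl _
    · exact isConj_iff.2 ⟨r, hinv r hr hrS v⟩

/-- The coordinate of a point of the plane. -/
noncomputable def coord : X.S →* Multiplicative (ZMod 3) :=
  MonoidHom.mk' (fun s => Multiplicative.ofAdd ((X.mem_iff s.1).1 s.2).choose.1) fun a b => by
    have ha := ((X.mem_iff a.1).1 a.2).choose_spec
    have hb := ((X.mem_iff b.1).1 b.2).choose_spec
    have hab := ((X.mem_iff (a * b).1).1 (a * b).2).choose_spec
    rw [← ofAdd_add, ← Prod.fst_add]
    congr 2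
    exact X.inj (by rw [hab, X.e_add, ha, hb]; rfl)

theorem coord_eq {g : G} (hg : g ∈ X.S) {v : Pl} (h : X.e v = g) :
    coord X ⟨g, hg⟩ = Multiplicative.ofAdd v.1 := by
  show Multiplicative.ofAdd ((X.mem_iff g).1 hg).choose.1 = _
  rw [X.inj (((X.mem_iff g).1 hg).choose_spec.trans h.symm)]

theorem coord_pow_index (P : Sylow 3 G) (hP : (P : Subgroup G) = X.S) {z : Multiplicative (ZMod 3)} (hz : z ≠ 1) :
    z ^ X.S.index ≠ 1 := by
  haveI : Fact (Nat.Prime 3) := ⟨Nat.prime_three⟩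
  intro h
  refine hz ?_
  have h3 : z ^ 3 = 1 := mz_cube z
  have hg : Nat.gcd 3 X.S.index = 1 :=
    (Nat.prime_three.coprime_iff_not_dvd.2 (hP ▸ P.not_dvd_index))
  exact pow_one z ▸ hg ▸ pow_gcd_eq_one.2 ⟨h3, h⟩

/-- One reflection: the plane is normal. -/
theorem normal_of_reflection (hcent : Subgroup.centralizer (X.S : Set G) = X.S) (P : Sylow 3 G)
    (hP : (P : Subgroup G) = X.S) {r : G} (hr : r ∈ Subgroup.normalizer (X.S : Set G))
    (hrv : ∀ v : Pl, r * X.e v * r⁻¹ = X.e (v.1, -v.2))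
    (hN : ∀ g ∈ Subgroup.normalizer (X.S : Set G), g ∈ X.S ∨ r⁻¹ * g ∈ X.S) : X.S.Normal := by
  classical
  haveI : Fact (Nat.Prime 3) := ⟨Nat.prime_three⟩
  have hact : ∀ g ∈ Subgroup.normalizer (X.S : Set G), g ∈ X.S ∧ (∀ v, g * X.e v * g⁻¹ = X.e v) ∨
      g ∉ X.S ∧ (∀ v : Pl, g * X.e v * g⁻¹ = X.e (v.1, -v.2)) := by
    intro g hg
    by_cases hgS : g ∈ X.S
    · obtain ⟨t, rfl⟩ := (X.mem_iff g).1 hgS
      exact Or.inl ⟨hgS, fun v => by rw [X.e_comm, mul_inv_cancel_right]⟩
    · obtain ⟨t, ht⟩ := (X.mem_iff _).1 ((hN g hg).resolve_left hgS)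
      refine Or.inr ⟨hgS, fun v => ?_⟩
      rw [show g = r * X.e t by rw [ht, mul_inv_cancel_left], ← hrv v]
      rw [show r * X.e t * X.e v * (r * X.e t)⁻¹ = r * (X.e t * X.e v * (X.e t)⁻¹) * r⁻¹ by group,
        X.e_comm, mul_inv_cancel_right]
  -- transfer to the first coordinate
  have key : ∀ (k : ℕ) (g₀ : G), g₀⁻¹ * X.e (1, 0) ^ k * g₀ ∈ X.S →
      g₀⁻¹ * X.e (1, 0) ^ k * g₀ = X.e (1, 0) ^ k := by
    intro k g₀ h
    have hk : ∀ k : ℕ, ∃ i : ZMod 3, X.e ((1, 0) : Pl) ^ k = X.e (i, 0) := by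
      intro k
      induction k with
      | zero => exact ⟨0, by rw [pow_zero]; exact X.e_zero.symm⟩
      | succ n ih =>
        obtain ⟨i, hi⟩ := ih
        refine ⟨i + 1, ?_⟩
        rw [pow_succ, hi, ← X.e_add]
        simp
    obtain ⟨i, hi⟩ := hk k
    rw [hi] at h ⊢
    by_cases hi0 : i = 0
    · subst hi0
      rw [show ((0, 0) : Pl) = 0 from rfl, X.e_zero]
      group
    obtain ⟨w, hw⟩ := (X.mem_iff _).1 h
    have hg := X.fusion (v := (i, 0)) (w := w) (fun e => hi0 (congrArg Prod.fst e)) (g := g₀⁻¹)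
      (by rw [inv_inv, hw])
    rcases hact _ hg with ⟨-, ha⟩ | ⟨-, ha⟩
    · have := ha (i, 0)
      rwa [inv_inv] at this
    · have := ha (i, 0)
      rw [inv_inv, neg_zero] at this
      exact this
  set T := MonoidHom.transfer (coord X) with hT
  have hT10 : T (X.e (1, 0)) ≠ 1 := by
    rw [hT, MonoidHom.transfer_eq_pow (coord X) _ key]
    have := coord_pow_index X P hP (z := coord X ⟨X.e (1, 0), X.e_mem _⟩)
      (by rw [coord_eq X _ rfl]; exact pl10_fst)
    rwa [← map_pow] at this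
  have hT01 : T (X.e (0, 1)) = 1 := by
    have h := congrArg T (hrv (0, 1))
    simp only [map_mul, map_inv, mul_comm (T r), mul_inv_cancel_right] at h
    rw [pl01_neg, X.e_neg, map_inv] at h
    exact (mz_pow _).2.2 h
  set K := T.ker with hK
  have hKidx : K.index = 3 := by
    rw [hK, Subgroup.index_ker]
    have h1 := Subgroup.card_subgroup_dvd_card T.range
    rw [Nat.card_eq_fintype_card (α := Multiplicative (ZMod 3)), show Fintype.card (Multiplicative (ZMod 3)) = 3 from rfl] at h1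
    rcases (Nat.dvd_prime Nat.prime_three).1 h1 with e | e
    · exfalso
      have hb : T.range = ⊥ := Subgroup.card_eq_one.1 e
      exact hT10 (Subgroup.mem_bot.1 (hb ▸ (⟨_, rfl⟩ : T (X.e (1, 0)) ∈ T.range)))
    · exact e
  set w := X.e (0, 1) with hw
  have hw1 : w ≠ 1 := fun e => absurd (X.e_eq_one_iff.1 e) pl01_ne
  have hwK : w ∈ K := MonoidHom.mem_ker.2 hT01
  have hKS : ∀ g ∈ K, g ∈ X.S → g ∈ Subgroup.zpowers w := by
    intro g hg hgS
    obtain ⟨⟨i, j⟩, rfl⟩ := (X.mem_iff g).1 hgS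
    have hij : X.e (i, j) = X.e (1, 0) ^ i.val * w ^ j.val := by
      rw [← X.e_smul, hw, ← X.e_smul, ← X.e_add]
      simp
    have h := MonoidHom.mem_ker.1 hg
    rw [hij, map_mul, map_pow, map_pow, hT01, one_pow, mul_one] at h
    have hi : i.val = 0 := by
      have h3 : i.val < 3 := ZMod.val_lt i
      generalize T (X.e (1, 0)) = z at h hT10
      interval_cases i.val
      · rfl
      · exact absurd ((mz_pow z).1 h) hT10
      · exact absurd ((mz_pow z).2.1 h) hT10
    rw [hij, hi, pow_zero, one_mul]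
    exact Subgroup.pow_mem _ (Subgroup.mem_zpowers w) _
  have hCK : Subgroup.centralizer (Subgroup.zpowers (⟨w, hwK⟩ : K) : Set K) = Subgroup.zpowers ⟨w, hwK⟩ := by
    refine le_antisymm (fun g hg => ?_) (fun g hg => Subgroup.mem_centralizer_iff.2 fun h hh => ?_)
    · have hc : (g : G) * w = w * g := congrArg Subtype.val
        (Subgroup.mem_centralizer_iff.1 hg _ (Subgroup.mem_zpowers (⟨w, hwK⟩ : K))).symm
      have hgS : (g : G) ∈ X.S := by
        rcases hact _ (X.loc (0, 1) pl01_ne g hc) with ⟨h, -⟩ | ⟨-, h⟩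
        · exact h
        · exfalso
          have h1 := h (0, 1)
          rw [← hw, hc, mul_inv_cancel_right, hw] at h1
          exact absurd (X.inj h1) pl01_refl
      obtain ⟨a, ha⟩ := Subgroup.mem_zpowers_iff.1 (hKS g g.2 hgS)
      exact Subgroup.mem_zpowers_iff.2 ⟨a, Subtype.ext (by rw [Subgroup.coe_zpow]; exact ha)⟩
    · obtain ⟨a, rfl⟩ := Subgroup.mem_zpowers_iff.1 hh
      obtain ⟨b, rfl⟩ := Subgroup.mem_zpowers_iff.1 hg
      exact ((Commute.refl _).zpow_zpow a b).eq
  have hZ : Nat.card (Subgroup.zpowers (⟨w, hwK⟩ : K)) = 3 := by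
    rw [Nat.card_zpowers, Subgroup.orderOf_mk, orderOf_eq_prime (X.e_cube _) hw1]
  haveI hKn : K.Normal := MonoidHom.normal_ker T
  -- a normal subgroup of `K` of order prime to three is trivial
  have hcore : ∀ N : Subgroup K, (Nat.card N).Coprime 3 → N.Normal →
      (∀ M : Subgroup K, M.Normal → Nat.card M = Nat.card N → M ≤ N) → N = ⊥ := by
    intro N hco hNn hmax
    have hsmall : X.S ≤ Subgroup.normalizer ((N.map K.subtype : Subgroup G) : Set G) := fun s _ => by
      rw [Subgroup.mem_normalizer_iff_map_conj_eq]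
      have hcomm : (N.map K.subtype).map (MulAut.conj s).toMonoidHom =
          (N.map (MulAut.conjNormal (H := K) s).toMonoidHom).map K.subtype := by
        rw [Subgroup.map_map, Subgroup.map_map]
        congr 1
      rw [show (((MulAut.conj s : MulAut G) : G ≃* G) : G →* G) = (MulAut.conj s).toMonoidHom from rfl, hcomm]
      congr 1
      have hc : Nat.card (N.map (MulAut.conjNormal (H := K) s).toMonoidHom) = Nat.card N :=
        Subgroup.card_map_of_injective (MulEquiv.injective (MulAut.conjNormal (H := K) s))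
      refine Subgroup.eq_of_le_of_card_ge (hmax _ ?_ hc) hc.ge
      exact hNn.map _ (MulEquiv.surjective _)
    have hb := core_trivial hcent hsmall (by
      rw [Subgroup.card_map_of_injective K.subtype_injective]
      exact (Nat.prime_three.coprime_iff_not_dvd).1 hco.symm)
    exact (Subgroup.map_eq_bot_iff_of_injective _ K.subtype_injective).1 hb
  rcases Cfsg.Agent.S3331.result (Subgroup.zpowers (⟨w, hwK⟩ : K)) hZ hCK with
    ⟨N, hN', -, hco, hq⟩ | ⟨N, hN', -, hN2, ⟨e⟩⟩ | ⟨⟨e⟩⟩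
  · haveI := hN'
    have hb := hcore N hco hN' fun M hM hMc => by
      haveI := hM
      exact Lie.PSpFourThreeAmalgam.le_of_small_quotient hq (hMc ▸ hco)
    subst hb
    have hcK : Nat.card K ∣ 6 := by
      rw [← Subgroup.index_bot]
      rcases hq with h | ⟨⟨e⟩⟩
      · rw [show (⊥ : Subgroup K).index = 3 from h]; norm_num
      · rw [show (⊥ : Subgroup K).index = 6 from
          (Nat.card_congr e.toEquiv).trans (by rw [Nat.card_perm, Nat.card_fin]; rfl)]
    have h1 := K.card_mul_index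
    have h2 := X.S.card_mul_index
    rw [hKidx] at h1
    rw [X.card_S] at h2
    have := Nat.le_of_dvd (by norm_num) hcK
    have h3 : X.S.index = 1 ∨ X.S.index = 2 := by
      have := X.S.index_ne_zero_of_finite
      omega
    rcases h3 with e | e
    · rw [Subgroup.index_eq_one] at e
      rw [e]; infer_instance
    · exact Subgroup.normal_of_index_eq_two e
  · exfalso
    haveI := hN'
    haveI : Fact (Nat.Prime 2) := ⟨Nat.prime_two⟩
    haveI : IsSimpleGroup (alternatingGroup (Fin 5)) := alternatingGroup.isSimpleGroup (by simp)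
    have hN2' : IsPGroup 2 N := fun g =>
      ⟨1, Subtype.ext (by rw [SubgroupClass.coe_pow, pow_one]; exact hN2 g g.2)⟩
    obtain ⟨k, hk⟩ := IsPGroup.iff_card.1 hN2'
    let f : K →* alternatingGroup (Fin 5) := e.toMonoidHom.comp (QuotientGroup.mk' N)
    have hfk : ∀ x, f x = 1 ↔ x ∈ N := fun x => by simp [f]
    have hfs : Function.Surjective f := e.surjective.comp (QuotientGroup.mk'_surjective N)
    have h60 : Nat.card (alternatingGroup (Fin 5)) = 60 := by
      rw [nat_card_alternatingGroup, Nat.card_fin]; rfl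
    have hb := hcore N (by rw [hk]; exact Nat.Coprime.pow_left _ (by norm_num)) hN' fun M hM hMc => by
      intro x hx
      rcases IsSimpleGroup.eq_bot_or_eq_top_of_normal (M.map f) (hM.map f hfs) with h | h
      · exact (hfk x).1 (Subgroup.mem_bot.1 (h ▸ Subgroup.mem_map_of_mem f hx))
      · exfalso
        have h1 := Subgroup.card_map_dvd (H := M) f
        rw [h, Subgroup.card_top, h60, hMc, hk] at h1
        exact absurd (Nat.prime_three.dvd_of_dvd_pow ((show (3 : ℕ) ∣ 60 by norm_num).trans h1)) (by norm_num)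
    have hinj : Function.Injective f := (MonoidHom.ker_eq_bot_iff f).1 (eq_bot_iff.2 fun x hx => by
      have := (hfk x).1 hx
      rwa [hb] at this)
    let eK : K ≃* alternatingGroup (Fin 5) := MulEquiv.ofBijective f ⟨hinj, hfs⟩
    haveI : Nontrivial K := eK.toEquiv.nontrivial
    haveI : IsSimpleGroup K := eK.isSimpleGroup
    have hK60 : Nat.card K = 60 := (Nat.card_congr eK.toEquiv).trans h60
    exact no_sylow_set X hcent K 2 (by norm_num)
      (by rw [Char.SmallOrderGraph.Split.card_sylow_two hK60]; norm_num) (by rw [hK60]; norm_num)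
  · exfalso
    haveI : Fact (Nat.Prime 7) := ⟨by norm_num⟩
    obtain ⟨hsimp, h168⟩ := Small.PSLThreeTwo.psl_two_seven (F := ZMod 7) (ZMod.card 7)
    haveI := hsimp
    haveI : Nontrivial K := e.toEquiv.nontrivial
    haveI : IsSimpleGroup K := e.isSimpleGroup
    have hK168 : Nat.card K = 168 := (Nat.card_congr e.toEquiv).trans h168
    exact no_sylow_set X hcent K 7 (by norm_num)
      (by rw [Small.Order168.card_sylow7 hK168]; norm_num) (by rw [hK168]; norm_num)

/-- A self-centralising plane of order nine with automiser of exponent two, controlling its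
centralisers, is normal. -/
theorem plane_normal {X : Type*} [Group X] [Finite X] (E : Subgroup X) (hcard : Nat.card E = 9)
    (hcomm : IsMulCommutative E) (hexp : ∀ e ∈ E, e ^ 3 = 1)
    (hC : Subgroup.centralizer (E : Set X) = E)
    (hloc : ∀ e ∈ E, e ≠ 1 → Subgroup.centralizer ({e} : Set X) ≤ Subgroup.normalizer (E : Set X))
    (hsq : ∀ g ∈ Subgroup.normalizer (E : Set X), g * g ∈ E) :
    Subgroup.normalizer (E : Set X) = ⊤ := by
  classical
  haveI : Fact (Nat.Prime 3) := ⟨Nat.prime_three⟩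
  set N := Subgroup.normalizer (E : Set X) with hNdef
  obtain ⟨P, hEP⟩ := (IsPGroup.of_card (p := 3) (G := E) (n := 2) (by rw [hcard]; norm_num)).exists_le_sylow
  have hPE : E = (P : Subgroup X) := by
    by_contra hne
    haveI : Group.IsNilpotent P := P.2.isNilpotent
    have hlt : E.subgroupOf P < ⊤ := lt_top_iff_ne_top.2 fun h =>
      hne (le_antisymm hEP (Subgroup.subgroupOf_eq_top.1 h))
    obtain ⟨g, hg, hgE⟩ := SetLike.exists_of_lt ((Group.normalizerCondition_of_isNilpotent (G := P)) _ hlt)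
    have hgN : (g : X) ∈ N := by
      rw [hNdef, Subgroup.mem_normalizer_iff]
      intro h
      rw [Subgroup.mem_normalizer_iff] at hg
      constructor
      · intro hh; exact (hg ⟨h, hEP hh⟩).1 hh
      · intro hh
        have hP' : h ∈ (P : Subgroup X) := by
          have := P.1.mul_mem (P.1.mul_mem (P.1.inv_mem g.2) (hEP hh)) g.2
          rwa [show (g : X)⁻¹ * ((g : X) * h * (g : X)⁻¹) * g = h by group] at this
        exact (hg ⟨h, hP'⟩).2 hh
    obtain ⟨k, hk⟩ := P.2 g
    have hodd : Odd (3 ^ k) := Odd.pow (by decide)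
    obtain ⟨m, hm⟩ := hodd
    refine hgE ?_
    show (g : X) ∈ E
    have h1 : (g : X) ^ (2 * m + 1) = 1 := by rw [← hm]; exact congrArg Subtype.val hk
    rw [pow_succ, pow_mul, pow_two] at h1
    rw [eq_inv_of_mul_eq_one_right h1]
    exact E.inv_mem (E.pow_mem (hsq _ hgN) m)
  obtain ⟨C, hCS⟩ := exists_ctx P hPE hcard hexp hloc
  subst hCS
  have hPS : (P : Subgroup X) = C.S := hPE.symm
  rw [hNdef, Subgroup.normalizer_eq_top_iff]
  have hS : ∀ g ∈ C.S, ∀ v, g * C.e v * g⁻¹ = C.e v := by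
    intro g hg v
    obtain ⟨t, rfl⟩ := (C.mem_iff g).1 hg
    rw [C.e_comm, mul_inv_cancel_right]
  have hin : ∀ g, (∀ v, g * C.e v * g⁻¹ = C.e v) → g ∈ C.S := fun g h => by
    rw [← hC, Subgroup.mem_centralizer_iff]
    intro s hs
    obtain ⟨v, rfl⟩ := (C.mem_iff s).1 hs
    exact (mul_inv_eq_iff_eq_mul.1 (h v)).symm
  by_cases hNE : N ≤ C.S
  · exact normal_of_trivial C hC P hPS hNE
  obtain ⟨r₀, hr₀, hr₀S⟩ := SetLike.not_le_iff_exists.1 hNE
  have hLL : ∀ g ∈ N, ∀ L : Pl ≃+ Pl, (∀ v, g * C.e v * g⁻¹ = C.e (L v)) → ∀ v, L (L v) = v :=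
    fun g hg L hL v => C.inj (by
      rw [← hL, ← hL, show g * (g * C.e v * g⁻¹) * g⁻¹ = g * g * C.e v * (g * g)⁻¹ by group]
      exact hS _ (hsq g hg) v)
  by_cases hinv : ∀ g ∈ N, g ∉ C.S → ∀ v, g * C.e v * g⁻¹ = C.e (-v)
  · exact normal_of_inverted C hC hr₀ hr₀S hinv
  push Not at hinv
  obtain ⟨r, hr, hrS, v₁, hv₁⟩ := hinv
  obtain ⟨L, hL⟩ := C.exists_act hr
  have hL2 := hLL r hr L hL
  obtain ⟨v₂, hv₂⟩ : ∃ v, L v ≠ v := by
    by_contra h
    push Not at h
    exact hrS (hin r fun v => by rw [hL, h])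
  set u := v₁ + L v₁ with hu
  set w := v₂ - L v₂ with hwdef
  have hu0 : u ≠ 0 := fun e => hv₁ (by rw [hL, eq_neg_of_add_eq_zero_right e])
  have hw0 : w ≠ 0 := sub_ne_zero.2 (Ne.symm hv₂)
  have hLu : L u = u := by rw [hu, map_add, hL2]; abel
  have hLw : L w = -w := by rw [hwdef, map_sub, hL2]; abel
  have hind : ∀ i : ZMod 3, w ≠ i • u := fun i e => hw0 (pl_neg_eq w (by
    rw [← hLw, e, map_smul_pl, hLu]))
  have hspan := pair_spans u w hu0 hind
  let M : Pl →+ Pl := AddMonoidHom.mk' (fun z => z.1 • u + z.2 • w) fun a b => by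
    simp only [Prod.fst_add, Prod.snd_add, add_smul]; abel
  have hMsurj : Function.Surjective M := fun z => by
    obtain ⟨i, j, e⟩ := hspan z
    exact ⟨(i, j), e.symm⟩
  let Me : Pl ≃+ Pl := AddEquiv.ofBijective M ⟨Finite.injective_iff_surjective.2 hMsurj, hMsurj⟩
  set Y := C.rebase Me with hY
  have hY1 : ∀ v : Pl, r * Y.e v * r⁻¹ = Y.e (v.1, -v.2) := fun v => by
    show r * C.e (v.1 • u + v.2 • w) * r⁻¹ = C.e (v.1 • u + (-v.2) • w)
    rw [hL, map_add, map_smul_pl, map_smul_pl, hLu, hLw, smul_neg, neg_smul]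
  by_cases htwo : ∀ g ∈ N, g ∈ C.S ∨ r⁻¹ * g ∈ C.S
  · exact normal_of_reflection Y hC P hPS hr hY1 htwo
  -- a four group
  push Not at htwo
  obtain ⟨h, hh, hhS, hrhS⟩ := htwo
  haveI hn : (C.S.subgroupOf N).Normal :=
    (Subgroup.normal_subgroupOf_iff_le_normalizer Subgroup.le_normalizer).2 le_rfl
  set Q := N ⧸ C.S.subgroupOf N with hQdef
  have hQsq : ∀ q : Q, q * q = 1 := by
    intro q
    induction q using QuotientGroup.induction_on with
    | _ g => rw [← QuotientGroup.mk_mul, QuotientGroup.eq_one_iff]; exact hsq g g.2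
  have hsign : ∀ g : N, ((g : X) * C.e u * (g : X)⁻¹ = C.e u ∨ (g : X) * C.e u * (g : X)⁻¹ = C.e (-u)) ∧
      ((g : X) * C.e w * (g : X)⁻¹ = C.e w ∨ (g : X) * C.e w * (g : X)⁻¹ = C.e (-w)) := by
    intro g
    obtain ⟨Lg, hLg⟩ := C.exists_act g.2
    obtain ⟨Lm, hLm⟩ := C.exists_act (N.mul_mem hr g.2)
    have hcm : ∀ v, L (Lg v) = Lg (L v) := by
      intro v
      have hm : ∀ v, Lm v = L (Lg v) := fun v => C.inj (by
        rw [← hLm, ← hL, ← hLg]; group)
      have h1 := hLL _ (N.mul_mem hr g.2) Lm hLm v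
      have h2 := hLL _ g.2 Lg hLg
      rw [hm, hm] at h1
      have h3 := congrArg (fun t => Lg (L t)) h1
      simp only [hL2, h2] at h3
      exact h3
    constructor
    · obtain ⟨i, j, e⟩ := hspan (Lg u)
      have h1 : L (Lg u) = Lg u := by rw [hcm, hLu]
      rw [e, map_add, map_smul_pl, map_smul_pl, hLu, hLw, smul_neg, ← sub_eq_add_neg] at h1
      rw [pl_fixed u w hu0 hw0 hind i j h1, zero_smul, add_zero] at e
      rcases pl_mult u i with h' | h' | h' <;> rw [h'] at e
      · exact absurd (Lg.injective (e.trans (map_zero Lg).symm)) hu0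
      · exact Or.inl (by rw [hLg, e])
      · exact Or.inr (by rw [hLg, e])
    · obtain ⟨i, j, e⟩ := hspan (Lg w)
      have h1 : L (Lg w) = -Lg w := by rw [hcm, hLw, map_neg]
      rw [e, map_add, map_smul_pl, map_smul_pl, hLu, hLw, smul_neg, ← sub_eq_add_neg] at h1
      rw [pl_antifixed u w hu0 hw0 hind i j h1, zero_smul, zero_add] at e
      rcases pl_mult w j with h' | h' | h' <;> rw [h'] at e
      · exact absurd (Lg.injective (e.trans (map_zero Lg).symm)) hw0
      · exact Or.inl (by rw [hLg, e])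
      · exact Or.inr (by rw [hLg, e])
  let σ : Q → Prop × Prop := fun q => (((q.out : N) : X) * C.e u * ((q.out : N) : X)⁻¹ = C.e u,
    ((q.out : N) : X) * C.e w * ((q.out : N) : X)⁻¹ = C.e w)
  have hσ : Function.Injective σ := by
    intro p q hpq
    simp only [σ, Prod.mk.injEq, eq_iff_iff] at hpq
    rw [← QuotientGroup.out_eq' p, ← QuotientGroup.out_eq' q, QuotientGroup.eq]
    have hu' : ((p.out : N) : X) * C.e u * ((p.out : N) : X)⁻¹ =
        ((q.out : N) : X) * C.e u * ((q.out : N) : X)⁻¹ := by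
      rcases (hsign p.out).1 with e | e <;> rcases (hsign q.out).1 with e' | e'
      · rw [e, e']
      · rw [e, hpq.1.1 e]
      · rw [hpq.1.2 e', e']
      · rw [e, e']
    have hw' : ((p.out : N) : X) * C.e w * ((p.out : N) : X)⁻¹ =
        ((q.out : N) : X) * C.e w * ((q.out : N) : X)⁻¹ := by
      rcases (hsign p.out).2 with e | e <;> rcases (hsign q.out).2 with e' | e'
      · rw [e, e']
      · rw [e, hpq.2.1 e]
      · rw [hpq.2.2 e', e']
      · rw [e, e']
    show ((p.out : N) : X)⁻¹ * ((q.out : N) : X) ∈ C.S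
    set g := ((p.out : N) : X)⁻¹ * ((q.out : N) : X) with hg
    obtain ⟨Lg, hLg⟩ := C.exists_act (show g ∈ N from N.mul_mem (N.inv_mem p.out.2) q.out.2)
    have hfix : ∀ t, ((p.out : N) : X) * C.e t * ((p.out : N) : X)⁻¹ =
        ((q.out : N) : X) * C.e t * ((q.out : N) : X)⁻¹ → Lg t = t := fun t ht => C.inj (by
      rw [← hLg, hg, show ((p.out : N) : X)⁻¹ * ((q.out : N) : X) * C.e t *
        (((p.out : N) : X)⁻¹ * ((q.out : N) : X))⁻¹ =
        ((p.out : N) : X)⁻¹ * (((q.out : N) : X) * C.e t * ((q.out : N) : X)⁻¹) * ((p.out : N) : X) by group, ← ht]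
      group)
    refine hin g fun v => ?_
    obtain ⟨i, j, rfl⟩ := hspan v
    rw [hLg, map_add, map_smul_pl, map_smul_pl, hfix u hu', hfix w hw']
  have hQle : Nat.card Q ≤ 4 := (Nat.card_le_card_of_injective σ hσ).trans (by simp)
  have hne : ∀ g : N, (g : X) ∉ C.S → (g : Q) ≠ 1 := fun g hg e => hg ((QuotientGroup.eq_one_iff g).1 e)
  have h3 : ({(1 : Q), ((⟨r, hr⟩ : N) : Q), ((⟨h, hh⟩ : N) : Q)} : Finset Q).card = 3 := by
    have e1 := (hne ⟨r, hr⟩ hrS).symm
    have e2 := (hne ⟨h, hh⟩ hhS).symm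
    have e3 : ((⟨r, hr⟩ : N) : Q) ≠ ((⟨h, hh⟩ : N) : Q) := fun e =>
      hrhS ((QuotientGroup.eq (s := C.S.subgroupOf N)).1 e)
    simp [Finset.card_insert_of_notMem, e1, e2, e3]
  haveI : Fintype Q := Fintype.ofFinite Q
  have hge : 3 ≤ Nat.card Q := by
    rw [← h3, Nat.card_eq_fintype_card]; exact Finset.card_le_univ _
  haveI : Fact (Nat.Prime 2) := ⟨Nat.prime_two⟩
  obtain ⟨k, hk⟩ := IsPGroup.iff_card.1 (show IsPGroup 2 Q from fun q => ⟨1, by rw [pow_one, pow_two, hQsq]⟩)
  have h4 : Nat.card Q = 4 := by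
    have hk2 : k = 2 := by
      rcases k with _ | _ | _ | k
      · rw [hk] at hge; norm_num at hge
      · rw [hk] at hge; norm_num at hge
      · rfl
      · exfalso
        have h8 : 2 ^ 3 ≤ Nat.card Q := hk ▸ Nat.pow_le_pow_right (by norm_num) (by omega)
        norm_num at h8
        omega
    rw [hk, hk2]; rfl
  haveI : Nontrivial Q := ⟨_, _, hne ⟨r, hr⟩ hrS⟩
  have hKl : IsKleinFour Q := ⟨h4, (Monoid.exponent_eq_prime_iff Nat.prime_two).2 fun q hq =>
    orderOf_eq_prime (by rw [pow_two, hQsq]) hq⟩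
  have hT : Cfsg.IsElementaryAbelian 3 (P : Subgroup X) := ⟨hPS ▸ hcomm, hPS ▸ hexp⟩
  haveI hn' : ((P : Subgroup X).subgroupOf (Subgroup.normalizer ((P : Subgroup X) : Set X))).Normal :=
    (Subgroup.normal_subgroupOf_iff_le_normalizer Subgroup.le_normalizer).2 le_rfl
  have key := Cfsg.Agent.S3805.result P hT (by
      show Nat.card (P : Subgroup X) = 9
      rw [hPS]; exact hcard)
    (by rw [hPS]; exact hC)
    (by
      have : (P : Subgroup X) = C.S := hPS
      revert hn'
      rw [this]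
      intro _
      exact hKl)
    (by rw [hPS]; exact hloc)
  rw [hPS, Subgroup.normalizer_eq_top_iff] at key
  exact key

end Cfsg.Agent.Spor.SymNine
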