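import Cfsg.Agent.Lib.Spor.SymNine.BigCent

/-!
The commutation of the two middle transpositions, by means of four members of one class.
-/

set_option autoImplicit false
set_option linter.unusedSectionVars false
set_option linter.style.haveILetI false
set_option maxRecDepth 100000
set_option synthInstance.maxSize 4096
set_option synthInstance.maxHeartbeats 200000

namespace Cfsg.Agent.Spor.SymNine

open Cfsg.Agent.Lie.PSpFourThreeAmalgam (V3 mU mT)
open Cfsg.Agent.Lie.PSpFourThreeFull (six dia smap)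
open Cfsg.Agent.Lie.PSpFourThreeFull.Axis (P6 s1 s2 w1 w2 tau inO inO_mul inO_sq)
open Equiv

/-- The transposition moving the eight products onto the eight needed. -/
def rr : P6 := swap 1 3

theorem inO_moved : ∀ σ : P6, inO σ → (rr * σ * rr = 1 ∨ rr * σ * rr = swap 0 1 ∨ rr * σ * rr = swap 3 4 ∨
    rr * σ * rr = swap 2 5 ∨ rr * σ * rr = swap 0 1 * swap 3 4 ∨ rr * σ * rr = swap 3 4 * swap 2 5 ∨
    rr * σ * rr = swap 0 1 * swap 2 5 ∨ rr * σ * rr = rr * tau * rr) := by decide +kernel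

theorem rr_facts : rr * rr = 1 ∧ rr * swap 0 1 * rr = swap 0 3 ∧ rr * swap 3 4 * rr = swap 1 4 ∧
    rr * swap 2 5 * rr = swap 2 5 := by decide +kernel

theorem inO_span : ∀ σ : P6, inO σ → σ ∈ [1, swap 0 3, swap 1 4, swap 2 5, swap 0 3 * swap 1 4,
    swap 1 4 * swap 2 5, swap 0 3 * swap 2 5, swap 0 3 * swap 1 4 * swap 2 5] := by decide +kernel

theorem span_sq : swap 0 3 * swap 1 4 = swap 1 4 * (swap 0 3 : P6) ∧ swap 1 4 * swap 2 5 = swap 2 5 * (swap 1 4 : P6) ∧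
    swap 0 3 * swap 2 5 = swap 2 5 * (swap 0 3 : P6) ∧
    swap 0 3 * swap 1 4 * (swap 0 3 * swap 1 4) = (1 : P6) ∧
    swap 0 3 * swap 1 4 * swap 2 5 = swap 2 5 * (swap 0 3 * swap 1 4 : P6) := by decide +kernel

theorem double_cent_one : ∀ γ : P6,
    (γ * (swap 0 1 * swap 3 4) = swap 0 1 * swap 3 4 * γ → γ ^ 3 = 1 → γ = 1) ∧
    (γ * (swap 3 4 * swap 2 5) = swap 3 4 * swap 2 5 * γ → γ ^ 3 = 1 → γ = 1) ∧
    (γ * (swap 0 1 * swap 2 5) = swap 0 1 * swap 2 5 * γ → γ ^ 3 = 1 → γ = 1) ∧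
    (γ * (swap 1 2 * swap 3 4) = swap 1 2 * swap 3 4 * γ → γ ^ 3 = 1 → γ = 1) := by decide +kernel

theorem double_sq : swap 0 1 * swap 3 4 * (swap 0 1 * swap 3 4) = (1 : P6) ∧
    swap 3 4 * swap 2 5 * (swap 3 4 * swap 2 5) = (1 : P6) ∧
    swap 0 1 * swap 2 5 * (swap 0 1 * swap 2 5) = (1 : P6) ∧
    swap 1 2 * swap 3 4 * (swap 1 2 * swap 3 4) = (1 : P6) := by decide +kernel

theorem double_cent (σ : P6) (h : σ ∈ [swap 0 1 * swap 3 4, swap 3 4 * swap 2 5, swap 0 1 * swap 2 5,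
    swap 1 2 * swap 3 4]) : σ * σ = 1 ∧ ∀ γ : P6, γ * σ = σ * γ → γ ^ 3 = 1 → γ = 1 := by
  simp only [List.mem_cons, List.not_mem_nil, or_false] at h
  rcases h with rfl | rfl | rfl | rfl
  · exact ⟨double_sq.1, fun γ => (double_cent_one γ).1⟩
  · exact ⟨double_sq.2.1, fun γ => (double_cent_one γ).2.1⟩
  · exact ⟨double_sq.2.2.1, fun γ => (double_cent_one γ).2.2.1⟩
  · exact ⟨double_sq.2.2.2, fun γ => (double_cent_one γ).2.2.2⟩

theorem moves : swap 0 3 * swap 1 4 * (swap 0 3 * swap 1 4) = (1 : P6) ∧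
    swap 0 3 * swap 1 4 * swap 3 4 * (swap 0 3 * swap 1 4) = (swap 0 1 : P6) ∧
    swap 0 2 * swap 1 5 * (swap 0 2 * swap 1 5) = (1 : P6) ∧
    swap 0 2 * swap 1 5 * swap 2 5 * (swap 0 2 * swap 1 5) = (swap 0 1 : P6) ∧
    swap 0 2 * swap 1 5 * (swap 3 4 * swap 2 5) * (swap 0 2 * swap 1 5) = (swap 0 1 * swap 3 4 : P6) ∧
    swap 2 3 * swap 4 5 * (swap 2 3 * swap 4 5) = (1 : P6) ∧
    swap 2 3 * swap 4 5 * (swap 0 1 * swap 2 5) * (swap 2 3 * swap 4 5) = (swap 0 1 * swap 3 4 : P6) := by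
  decide +kernel

theorem outer_split : s1 * w1 = swap 0 1 ∧ s2 * w2 = swap 3 4 ∧ w1 = swap 1 2 ∧ w2 = swap 4 5 ∧
    s1 ^ (1 : ZMod 3).val * w1 = swap 0 1 ∧ s2 ^ (1 : ZMod 3).val * w2 = swap 3 4 ∧
    s2 ^ (2 : ZMod 3).val * w2 = swap 3 5 ∧ s1 ^ (0 : ZMod 3).val * w1 = swap 1 2 ∧
    s2 ^ (0 : ZMod 3).val * w2 = swap 4 5 ∧
    swap 0 1 * swap 3 4 = swap 3 4 * (swap 0 1 : P6) ∧ swap 1 2 * swap 3 4 = swap 3 4 * (swap 1 2 : P6) := by
  decide +kernel

theorem single_conj : ∀ i j : Fin 6, i ≠ j → ∃ γ : P6, γ * w1 * γ⁻¹ = swap i j := by decide +kernel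

theorem swap_facts :
    swap 2 3 * swap 0 1 = swap 0 1 * (swap 2 3 : P6) ∧ swap 2 3 * swap 4 5 = swap 4 5 * (swap 2 3 : P6) ∧
    swap 0 5 * swap 3 4 = swap 3 4 * (swap 0 5 : P6) ∧ swap 0 5 * swap 1 2 = swap 1 2 * (swap 0 5 : P6) ∧
    swap 2 4 * swap 3 5 * (swap 2 4 * swap 3 5) = (1 : P6) ∧
    swap 2 4 * swap 3 5 * swap 2 3 * (swap 2 4 * swap 3 5) = (swap 4 5 : P6) ∧
    swap 2 4 * swap 3 5 * swap 0 1 = swap 0 1 * (swap 2 4 * swap 3 5 : P6) ∧
    swap 0 1 * swap 2 5 * (swap 0 1 * swap 2 5) = (1 : P6) ∧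
    swap 0 1 * swap 2 5 * swap 0 5 * (swap 0 1 * swap 2 5) = (swap 1 2 : P6) ∧
    swap 0 1 * swap 2 5 * swap 3 4 = swap 3 4 * (swap 0 1 * swap 2 5 : P6) ∧
    swap 2 5 * swap 2 3 * swap 2 5 = (swap 3 5 : P6) := by decide +kernel

theorem swap_apart : swap 2 3 ≠ (swap 0 1 : P6) ∧ swap 2 3 ≠ (swap 4 5 : P6) ∧
    swap 2 3 * swap 3 4 ≠ swap 3 4 * (swap 2 3 : P6) ∧ swap 2 3 * s2 ≠ s2 * swap 2 3 ∧
    swap 2 3 * s1 ≠ s1 * swap 2 3 ∧
    swap 0 5 ≠ (swap 3 4 : P6) ∧ swap 0 5 ≠ (swap 1 2 : P6) ∧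
    swap 0 5 * swap 1 5 ≠ swap 1 5 * (swap 0 5 : P6) ∧ swap 0 5 * s1 ≠ s1 * swap 0 5 := by decide +kernel

theorem fixed_count : (Finset.univ.filter fun v : V3 => sg 2 (mT v) = v).card = 3 := by decide +kernel

theorem line_sq_zero : ∀ a : ZMod 3, (0, 0, a) + (0, 0, a) = (0 : V3) → a = 0 := by decide +kernel

theorem line_zero : ∀ a b : ZMod 3, a ≠ 0 → b ≠ 0 → ((0, 0, b) : V3) = (0, 0, a) ∨ ((0, 0, b) : V3) = (0, 0, a) + (0, 0, a) := by
  decide +kernel

theorem sg2_line : ∀ a : ZMod 3, sg 2 ((0, 0, a) : V3) = (0, 0, -a) ∧ (sg 2 ((0, 0, a) : V3) = (0, 0, a) → a = 0) := by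
  decide +kernel

theorem nine_gt : Fintype.card (ZMod 3 × ZMod 3) = 9 ∧ Fintype.card (ZMod 3) = 3 := by decide +kernel

namespace Conf.Cpl.Label

variable {G : Type*} [Group G] [Finite G] {T : Conf G} {C : Cpl T} (hL : C.Label)
include hL

theorem Tr_swap {i j : Fin 6} (h : i ≠ j) : C.Tr (hL.lift (swap i j) : G) := by
  obtain ⟨γ, hγ⟩ := single_conj i j h
  obtain ⟨g, rfl⟩ := hL.surj γ
  have h1 := congrArg Subtype.val (hL.lift_conj g (σ := w1) (by decide +kernel))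
  rw [hγ, Subgroup.coe_mul, Subgroup.coe_mul, Subgroup.coe_inv, hL.lift_w1] at h1
  rw [← h1]
  refine Tr.conj C ?_ _
  refine ⟨T.φ sm * T.φ sm, ?_⟩
  rw [show T.φ sm * T.φ sm * C.d 0 * (T.φ sm * T.φ sm)⁻¹ = T.φ sm * (T.φ sm * C.d 0 * (T.φ sm)⁻¹) * (T.φ sm)⁻¹ by
    group, C.sh_d, C.sh_d]
  rfl

theorem Tr_up {σ : P6} (h : C.Tr (hL.lift σ : G)) : C.Tr (hL.up σ) := Tr.conj C h _

theorem Tr_up2 {σ : P6} (h : C.Tr (hL.lift σ : G)) : C.Tr (hL.up2 σ) := Tr.conj C (hL.Tr_up h) _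

theorem Tr_move {u : G} {ρ : P6} (hρ : ρ * ρ = 1) (h : C.Tr u) : C.Tr ((hL.lift ρ : G) * u * hL.lift ρ) := by
  have := Tr.conj C h (hL.lift ρ : G)
  rwa [hL.lift_inv hρ] at this

theorem up_mul {σ σ' : P6} (h : σ * σ = 1) (h' : σ' * σ' = 1) (hc : σ * σ' = σ' * σ) :
    hL.up (σ * σ') = hL.up σ * hL.up σ' ∧ Commute (hL.up σ) (hL.up σ') := by
  obtain ⟨e, e'⟩ := hL.lift_mul h h' hc
  refine ⟨?_, (Commute.conj_iff _).2 (congrArg Subtype.val e'.eq :)⟩
  rw [up, up, up, e, Subgroup.coe_mul, conj_mul]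

theorem up2_mul {σ σ' : P6} (h : σ * σ = 1) (h' : σ' * σ' = 1) (hc : σ * σ' = σ' * σ) :
    hL.up2 (σ * σ') = hL.up2 σ * hL.up2 σ' ∧ Commute (hL.up2 σ) (hL.up2 σ') := by
  obtain ⟨e, e'⟩ := hL.up_mul h h' hc
  refine ⟨?_, (Commute.conj_iff _).2 e'⟩
  rw [up2, up2, up2, e, conj_mul]

theorem up_conj {σ ρ : P6} (h : σ * σ = 1) (hρ : ρ * ρ = 1) : hL.up ρ * hL.up σ * (hL.up ρ)⁻¹ = hL.up (ρ * σ * ρ) := by
  rw [up, up, up, ← hL.lift_conj' h hρ]
  calc _ = T.φ sm * ((hL.lift ρ : G) * hL.lift σ * (hL.lift ρ : G)⁻¹) * (T.φ sm)⁻¹ := by group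
    _ = _ := by rw [hL.lift_inv hρ]

theorem up2_conj {σ ρ : P6} (h : σ * σ = 1) (hρ : ρ * ρ = 1) :
    hL.up2 ρ * hL.up2 σ * (hL.up2 ρ)⁻¹ = hL.up2 (ρ * σ * ρ) := by
  rw [up2, up2, up2, ← hL.up_conj h hρ]
  group

theorem up_inj {σ σ' : P6} (h : σ * σ = 1) (h' : σ' * σ' = 1) (e : hL.up σ = hL.up σ') : σ = σ' := by
  rw [← hL.π_lift h, ← hL.π_lift h']
  exact congrArg hL.π (Subtype.ext (mul_left_cancel (mul_right_cancel e)))

theorem up2_inj {σ σ' : P6} (h : σ * σ = 1) (h' : σ' * σ' = 1) (e : hL.up2 σ = hL.up2 σ') : σ = σ' :=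
  hL.up_inj h h' (mul_left_cancel (mul_right_cancel e))

theorem lift01 : (hL.lift (swap 0 1) : G) = T.q (1, 0, 0) * C.d 0 := by
  rw [← outer_split.2.2.2.2.1]; exact hL.lift_inner0 1

theorem lift34 : (hL.lift (swap 3 4) : G) = T.q (0, 1, 0) * C.d 1 := by
  rw [← outer_split.2.2.2.2.2.1]; exact hL.lift_inner1 1

theorem up01 : hL.up (swap 0 1) = (hL.lift (swap 3 4) : G) := by
  rw [hL.lift34, ← outer_split.2.2.2.2.1]; exact hL.up_inner0 1

theorem up45 : hL.up (swap 4 5) = C.d 2 := by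
  rw [← outer_split.2.2.2.2.2.2.2.2.1, hL.up_inner1 0]
  exact (congrArg (· * C.d 2) T.q_zero).trans (one_mul _)

theorem up2_34 : hL.up2 (swap 3 4) = (hL.lift (swap 0 1) : G) := by
  rw [hL.lift01, ← outer_split.2.2.2.2.2.1]; exact hL.up2_inner1 1

theorem up2_12 : hL.up2 (swap 1 2) = C.d 2 := by
  rw [← outer_split.2.2.2.2.2.2.2.1, hL.up2_inner0 0]
  exact (congrArg (· * C.d 2) T.q_zero).trans (one_mul _)

/-- A lift with small centraliser of order three is outside the class. -/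
theorem not_Tr_double (hF : T.Framed .eight) (hpair : T.centQ (1, 1, 0) ≤ Subgroup.normalizer (T.J : Set G)) {σ : P6}
    (h : σ ∈ [swap 0 1 * swap 3 4, swap 3 4 * swap 2 5, swap 0 1 * swap 2 5, swap 1 2 * swap 3 4]) :
    ¬ C.Tr (hL.lift σ : G) := by
  intro hu
  obtain ⟨hσ, hcent⟩ := double_cent σ h
  obtain ⟨f, hinj, hf⟩ := hL.nine_cent hF hpair hu (x := T.q (0, 0, 1)) (T.q_cube _) (hL.line2_lift 1 σ).eq
  have hf' : ∀ w, ∃ a : ZMod 3, f w = T.q (a • (0, 0, 1)) := by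
    intro w
    obtain ⟨h3, hx, hc⟩ := hf w
    set Y : T.centQ (0, 0, 1) := ⟨f w, mem_centQ.2 hx⟩
    have h1 : hL.π Y = 1 := hcent _ ((hL.comm_lift_iff Y hσ).1 (Subtype.ext hc))
      (by rw [← map_pow, show Y ^ 3 = 1 from Subtype.ext h3, map_one])
    obtain ⟨a, ha⟩ := hL.π_one h1
    exact ⟨a, congrArg Subtype.val ha⟩
  have := Fintype.card_le_of_injective (fun w => (hf' w).choose) fun w w' e => hinj (by
    rw [(hf' w).choose_spec, (hf' w').choose_spec]
    exact congrArg (fun a : ZMod 3 => T.q (a • (0, 0, 1))) e)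
  rw [nine_gt.1, nine_gt.2] at this
  omega

theorem not_Tr_flip (hF : T.Framed .eight) (hpair : T.centQ (1, 1, 0) ≤ Subgroup.normalizer (T.J : Set G)) :
    ¬ C.Tr (C.d 2 * T.φ tm) := by
  classical
  intro hu
  have hA : T.Acts (C.d 2 * T.φ tm) fun v => sg 2 (mT v) := Acts.mul T (C.d_acts 2) tm_acts
  obtain ⟨f, hinj, hf⟩ := hL.nine_cent hF hpair hu (x := T.q (1, 1, 0)) (T.q_cube _)
    ((Acts.comm_iff T hA).2 (by decide +kernel)).symm
  have hf' : ∀ w, ∃ v, sg 2 (mT v) = v ∧ f w = T.q v := by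
    intro w
    obtain ⟨h3, hx, hc⟩ := hf w
    obtain ⟨u, i, j, hform⟩ := C.pair_form hF hpair hx
    have hB := Acts.mul T (T.acts_of_mem (T.q_mem u)) (C.four_acts i j)
    rw [← hform] at hB
    have h2 : T.Acts (f w * f w) id := Acts.congr (Acts.mul T hB hB) fun v =>
      (by decide +kernel : ∀ i j : Fin 2, ∀ v : V3,
        mT^[i.1] ((sg 2)^[j.1] (mT^[i.1] ((sg 2)^[j.1] v))) = v) i j v
    rw [pow_succ, pow_two] at h3
    have hJ : f w ∈ T.J := by
      rw [eq_inv_of_mul_eq_one_right h3]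
      exact T.J.inv_mem (T.mem_J_of_acts h2)
    obtain ⟨v, hv⟩ := T.mem_J.1 hJ
    refine ⟨v, ?_, hv.symm⟩
    rw [← hv] at hc
    exact (Acts.comm_iff T hA).1 hc.symm
  have hle : Fintype.card (ZMod 3 × ZMod 3) ≤ (Finset.univ.filter fun v : V3 => sg 2 (mT v) = v).card := by
    rw [← Finset.card_univ]
    refine Finset.card_le_card_of_injOn (fun w => (hf' w).choose) (fun w _ => ?_) fun w _ w' _ e => ?_
    · simp only [Finset.coe_filter, Finset.mem_univ, true_and, Set.mem_setOf_eq]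
      exact (hf' w).choose_spec.1
    · exact hinj (by rw [(hf' w).choose_spec.2, (hf' w').choose_spec.2]; exact congrArg T.q e)
  rw [fixed_count, nine_gt.1] at hle
  omega

theorem not_Tr_d2_single (hF : T.Framed .eight) (hpair : T.centQ (1, 1, 0) ≤ Subgroup.normalizer (T.J : Set G)) :
    ¬ C.Tr (C.d 2 * (hL.lift (swap 0 1) : G)) := by
  intro hu
  have e := (hL.up2_mul (σ := swap 1 2) (σ' := swap 3 4) (swap_mul_self _ _) (swap_mul_self _ _)
    outer_split.2.2.2.2.2.2.2.2.2.2).1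
  rw [hL.up2_12, hL.up2_34] at e
  rw [← e] at hu
  exact hL.not_Tr_double hF hpair (σ := swap 1 2 * swap 3 4) (by simp) (Tr.unconj C _ (Tr.unconj C _ hu))

theorem not_Tr_d2_double (hF : T.Framed .eight) (hpair : T.centQ (1, 1, 0) ≤ Subgroup.normalizer (T.J : Set G)) :
    ¬ C.Tr (C.d 2 * (hL.lift (swap 0 1 * swap 3 4) : G)) := by
  intro hu
  have e : C.d 2 * (hL.lift (swap 0 1 * swap 3 4) : G) = T.q (2, 2, 0) * C.Z * (T.q (2, 2, 0))⁻¹ := by
    rw [(hL.lift_mul (swap_mul_self _ _) (swap_mul_self _ _) outer_split.2.2.2.2.2.2.2.2.2.1).1, Subgroup.coe_mul,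
      hL.lift01, hL.lift34, ← T.q_neg, mul_assoc (T.q (2, 2, 0)), Acts.comm T C.acts, ← mul_assoc (T.q (2, 2, 0)),
      ← T.q_add, mul_assoc (T.q (1, 0, 0)), ← mul_assoc (C.d 0), Acts.comm T (C.d_acts 0), ← C.Z_eq]
    calc C.d 2 * (T.q (1, 0, 0) * (T.q (sg 0 (0, 1, 0)) * C.d 0 * C.d 1))
        = C.d 2 * T.q ((1, 0, 0) + sg 0 (0, 1, 0)) * (C.d 0 * C.d 1) := by rw [T.q_add]; group
      _ = T.q (sg 2 ((1, 0, 0) + sg 0 (0, 1, 0))) * (C.d 0 * C.d 1 * C.d 2) := by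
          rw [Acts.comm T (C.d_acts 2), mul_assoc,
            ((show Commute (C.d 2) (C.d 0) from C.d_comm 2 0).mul_right (C.d_comm 2 1)).eq]
      _ = _ := congrArg (T.q · * _) (by decide +kernel)
  rw [e] at hu
  exact hL.not_Tr_of_sm hF hpair C.sm_Z (Tr.unconj C _ hu)

/-- The elements commuting with the three. -/
theorem cent_three (hF : T.Framed .eight) (hpair : T.centQ (1, 1, 0) ≤ Subgroup.normalizer (T.J : Set G)) {g : G}
    (hx : Commute g (hL.lift (swap 0 1) : G)) (hy : Commute g (hL.lift (swap 3 4) : G))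
    (hc : Commute g (hL.lift (swap 2 5) : G)) :
    ∃ (σ : P6) (a : ZMod 3), (σ * σ = 1) ∧ (σ = 1 ∨ σ = swap 0 1 ∨ σ = swap 3 4 ∨ σ = swap 2 5 ∨
      σ = swap 0 1 * swap 3 4 ∨ σ = swap 3 4 * swap 2 5 ∨ σ = swap 0 1 * swap 2 5 ∨ σ = rr * tau * rr) ∧
      (g = hL.lift σ * T.q (0, 0, a) ∨ g = C.d 2 * hL.lift σ * T.q (0, 0, a)) := by
  set R : G := (hL.lift rr : G) with hR
  have hRR : R * R = 1 := hL.lift_sq' rr_facts.1
  have hRi : R⁻¹ = R := hL.lift_inv rr_facts.1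
  have hm : ∀ {σ : P6}, σ * σ = 1 → Commute g (hL.lift σ : G) → Commute (R * g * R) (hL.lift (rr * σ * rr) : G) := by
    intro σ h hg
    have h1 := (Commute.conj_iff R).2 hg
    rw [hRi] at h1
    rwa [hL.lift_conj' h rr_facts.1] at h1
  have a1 := hm (swap_mul_self _ _) hx
  have a2 := hm (swap_mul_self _ _) hy
  have a3 := hm (swap_mul_self _ _) hc
  rw [rr_facts.2.1] at a1
  rw [rr_facts.2.2.1] at a2
  rw [rr_facts.2.2.2] at a3
  have hall : ∀ σ, inO σ → Commute (R * g * R) (hL.lift σ : G) := by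
    intro σ hσ
    obtain ⟨c1, c2, c3, c4, c5⟩ := span_sq
    have sw : ∀ i j : Fin 6, swap i j * swap i j = (1 : P6) := swap_mul_self
    have hmul : ∀ {σ σ' : P6}, σ * σ = 1 → σ' * σ' = 1 → σ * σ' = σ' * σ →
        Commute (R * g * R) (hL.lift σ : G) → Commute (R * g * R) (hL.lift σ' : G) →
        Commute (R * g * R) (hL.lift (σ * σ') : G) := fun h h' he b b' => by
      rw [(hL.lift_mul h h' he).1, Subgroup.coe_mul]
      exact b.mul_right b'
    have hs := inO_span σ hσ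
    simp only [List.mem_cons, List.not_mem_nil, or_false] at hs
    rcases hs with rfl | rfl | rfl | rfl | rfl | rfl | rfl | rfl
    · rw [hL.lift_one]; exact Commute.one_right _
    · exact a1
    · exact a2
    · exact a3
    · exact hmul (sw _ _) (sw _ _) c1 a1 a2
    · exact hmul (sw _ _) (sw _ _) c2 a2 a3
    · exact hmul (sw _ _) (sw _ _) c3 a1 a3
    · exact hmul c4 (sw _ _) c5.symm.symm (hmul (sw _ _) (sw _ _) c1 a1 a2) a3
  obtain ⟨σ, a, hσ, hform⟩ := hL.cent_Og hF hpair hall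
  refine ⟨rr * σ * rr, a, ?_, inO_moved σ hσ, ?_⟩
  · calc rr * σ * rr * (rr * σ * rr) = rr * σ * (rr * rr) * σ * rr := by group
      _ = rr * (σ * σ) * rr := by rw [rr_facts.1]; group
      _ = 1 := by rw [inO_sq σ hσ, mul_one, rr_facts.1]
  · have hg : g = R * (R * g * R) * R := by
      calc g = (R * R) * g * (R * R) := by rw [hRR, one_mul, mul_one]
        _ = _ := by group
    rw [← hL.lift_conj' (inO_sq σ hσ) rr_facts.1, ← hR]
    rcases hform with e | e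
    · left
      rw [hg, e, mul_assoc R, mul_assoc (hL.lift σ : G), (hL.line2_lift a rr).eq, ← hR]
      group
    · right
      rw [hg, e]
      calc R * (C.d 2 * (hL.lift σ : G) * T.q (0, 0, a)) * R
          = R * C.d 2 * (hL.lift σ : G) * (T.q (0, 0, a) * R) := by group
        _ = C.d 2 * R * (hL.lift σ : G) * (R * T.q (0, 0, a)) := by
            rw [(hL.line2_lift a rr).eq, (hL.d2_lift rr_facts.1).eq]
        _ = _ := by group

/-- The members of the class commuting with the four are the four. -/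
theorem four_only (hF : T.Framed .eight) (hpair : T.centQ (1, 1, 0) ≤ Subgroup.normalizer (T.J : Set G)) {g : G}
    (hx : Commute g (hL.lift (swap 0 1) : G)) (hy : Commute g (hL.lift (swap 3 4) : G))
    (hc : Commute g (hL.lift (swap 2 5) : G)) (hs : Commute g (C.d 2)) (hg : C.Tr g) :
    g = hL.lift (swap 0 1) ∨ g = hL.lift (swap 3 4) ∨ g = hL.lift (swap 2 5) ∨ g = C.d 2 := by
  obtain ⟨σ, a, hσσ, hσ, hform⟩ := hL.cent_three hF hpair hx hy hc
  have ha : ∀ p : G, Commute p (C.d 2) → Commute (p * T.q (0, 0, a)) (C.d 2) → a = 0 := fun p hp h => by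
    have h1 := hp.inv_left.mul_left h
    rw [inv_mul_cancel_left] at h1
    exact (sg2_line a).2 ((Acts.comm_iff T (C.d_acts 2)).1 h1.eq.symm)
  have hl : Commute (hL.lift σ : G) (C.d 2) := (hL.d2_lift hσσ).symm
  rcases hform with e | e
  · rw [ha _ hl (e ▸ hs), show ((0, 0, 0) : V3) = 0 from rfl, T.q_zero, mul_one] at e
    subst e
    rcases hσ with rfl | rfl | rfl | rfl | rfl | rfl | rfl | rfl
    · rw [hL.lift_one] at hg; exact absurd rfl (Tr.ne_one C hg)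
    · exact Or.inl rfl
    · exact Or.inr (Or.inl rfl)
    · exact Or.inr (Or.inr (Or.inl rfl))
    · exact absurd hg (hL.not_Tr_double hF hpair (by simp))
    · exact absurd hg (hL.not_Tr_double hF hpair (by simp))
    · exact absurd hg (hL.not_Tr_double hF hpair (by simp))
    · refine absurd hg fun hg => ?_
      rw [← hL.lift_conj' (Cfsg.Agent.Lie.PSpFourThreeFull.Axis.basic_sq.2.2.1) rr_facts.1, hL.lift_tau] at hg
      refine hL.not_Tr_of_a hF hpair (u := T.φ tm) ?_ (Tr.unconj C (hL.lift rr : G) ?_)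
      · rw [Conf.a, ← map_mul, ← map_mul, cc_comm]
      · rwa [hL.lift_inv rr_facts.1]
  · rw [ha _ ((Commute.refl _).mul_left hl) (e ▸ hs), show ((0, 0, 0) : V3) = 0 from rfl, T.q_zero, mul_one] at e
    subst e
    have hmv : ∀ {k σ : P6}, k * k = 1 → σ * σ = 1 → C.Tr (C.d 2 * (hL.lift σ : G)) →
        C.Tr (C.d 2 * (hL.lift (k * σ * k) : G)) := fun {k σ} hk hσ h => by
      have h1 := hL.Tr_move hk h
      rwa [← mul_assoc, ← (hL.d2_lift hk).eq, mul_assoc (C.d 2), mul_assoc (C.d 2), hL.lift_conj' hσ hk] at h1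
    rcases hσ with rfl | rfl | rfl | rfl | rfl | rfl | rfl | rfl
    · rw [hL.lift_one]; exact Or.inr (Or.inr (Or.inr (mul_one _)))
    · exact absurd hg (hL.not_Tr_d2_single hF hpair)
    · exact absurd (moves.2.1 ▸ hmv moves.1 hσσ hg) (hL.not_Tr_d2_single hF hpair)
    · exact absurd (moves.2.2.2.1 ▸ hmv moves.2.2.1 hσσ hg) (hL.not_Tr_d2_single hF hpair)
    · exact absurd hg (hL.not_Tr_d2_double hF hpair)
    · exact absurd (moves.2.2.2.2.1 ▸ hmv moves.2.2.1 hσσ hg) (hL.not_Tr_d2_double hF hpair)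
    · exact absurd (moves.2.2.2.2.2.2 ▸ hmv moves.2.2.2.2.2.1 hσσ hg) (hL.not_Tr_d2_double hF hpair)
    · refine absurd hg fun hg => hL.not_Tr_flip hF hpair ?_
      have h1 := hmv rr_facts.1 hσσ hg
      rwa [show rr * (rr * tau * rr) * rr = tau by
        calc rr * (rr * tau * rr) * rr = (rr * rr) * tau * (rr * rr) := by group
          _ = tau := by rw [rr_facts.1, one_mul, mul_one], hL.lift_tau] at h1

/-- The cube roots of one commuting with the three. -/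
theorem cube_three (hF : T.Framed .eight) (hpair : T.centQ (1, 1, 0) ≤ Subgroup.normalizer (T.J : Set G)) {g : G}
    (hx : Commute g (hL.lift (swap 0 1) : G)) (hy : Commute g (hL.lift (swap 3 4) : G))
    (hc : Commute g (hL.lift (swap 2 5) : G)) : g ^ 6 = 1 ∧ (g ^ 3 = 1 → ∃ a : ZMod 3, g = T.q (0, 0, a)) := by
  obtain ⟨σ, a, hσσ, -, hform⟩ := hL.cent_three hF hpair hx hy hc
  rcases hform with e | e
  · have hcm : Commute (hL.lift σ : G) (T.q (0, 0, a)) := (hL.line2_lift a σ).symm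
    have hl2 : (hL.lift σ : G) ^ 2 = 1 := by rw [pow_two]; exact hL.lift_sq' hσσ
    refine ⟨?_, fun h3 => ⟨a, ?_⟩⟩
    · rw [e, hcm.mul_pow, show (6 : ℕ) = 2 * 3 from rfl, pow_mul, hl2, one_pow, one_mul, mul_comm 2 3, pow_mul,
        T.q_cube, one_pow]
    · rw [e, hcm.mul_pow, T.q_cube, mul_one, pow_succ, hl2, one_mul] at h3
      rw [e, h3, one_mul]
  · have h2 : g * g = 1 := by
      rw [e]
      calc C.d 2 * (hL.lift σ : G) * T.q (0, 0, a) * (C.d 2 * (hL.lift σ : G) * T.q (0, 0, a))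
          = C.d 2 * ((hL.lift σ : G) * T.q (0, 0, a)) * C.d 2 * ((hL.lift σ : G) * T.q (0, 0, a)) := by group
        _ = C.d 2 * (T.q (0, 0, a) * C.d 2) * ((hL.lift σ : G) * hL.lift σ) * T.q (0, 0, a) := by
            rw [← (hL.line2_lift a σ).eq, mul_assoc (C.d 2) (T.q _ * _), mul_assoc (T.q (0, 0, a)),
              ← (hL.d2_lift hσσ).eq]
            simp only [mul_assoc]
            rw [← (hL.line2_lift a σ).eq]
        _ = _ := by
            rw [hL.lift_sq' hσσ, mul_one, ← mul_assoc (C.d 2), Acts.comm T (C.d_acts 2), (sg2_line a).1,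
              mul_assoc (T.q _) (C.d 2), C.d_sq, mul_one, ← T.q_add,
              show ((0, 0, -a) : V3) + (0, 0, a) = 0 by simp, T.q_zero]
    refine ⟨?_, fun h3 => ⟨0, ?_⟩⟩
    · rw [show (6 : ℕ) = 2 * 3 from rfl, pow_mul, pow_two, h2, one_pow]
    · rw [pow_succ, pow_two, h2, one_mul] at h3
      rw [h3, show ((0, 0, (0 : ZMod 3)) : V3) = 0 from rfl, T.q_zero]

/-- A member of the class not commuting with the third makes with it a product of order three. -/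
theorem braid_three (hF : T.Framed .eight) (hpair : T.centQ (1, 1, 0) ≤ Subgroup.normalizer (T.J : Set G))
    {c0 k : G} (hsq : c0 * c0 = 1) (htr : C.Tr c0)
    (hx : Commute c0 (hL.lift (swap 0 1) : G)) (hy : Commute c0 (hL.lift (swap 3 4) : G)) (hs : Commute c0 (C.d 2))
    (kx : Commute k (hL.lift (swap 0 1) : G)) (ky : Commute k (hL.lift (swap 3 4) : G))
    (kc : k * c0 * k⁻¹ = C.d 2) (hnc : ¬ Commute c0 (hL.lift (swap 2 5) : G)) :
    ∃ g0 : G, Commute g0 (hL.lift (swap 0 1) : G) ∧ Commute g0 (hL.lift (swap 3 4) : G) ∧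
      g0 * (hL.lift (swap 2 5) : G) * g0⁻¹ = C.d 2 ∧ ((hL.lift (swap 2 5) : G) * c0) ^ 3 = 1 := by
  set c : G := (hL.lift (swap 2 5) : G) with hc
  set x : G := (hL.lift (swap 0 1) : G) with hX
  set y : G := (hL.lift (swap 3 4) : G) with hY
  have sw : ∀ i j : Fin 6, swap i j * swap i j = (1 : P6) := swap_mul_self
  have cc : c * c = 1 := hL.lift_sq' (sw _ _)
  have cx : Commute c x := (congrArg Subtype.val (hL.lift_mul (sw 2 5) (sw 0 1) (by decide +kernel)).2.eq :)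
  have cy : Commute c y := (congrArg Subtype.val (hL.lift_mul (sw 2 5) (sw 3 4) (by decide +kernel)).2.eq :)
  have cs : Commute c (C.d 2) := (hL.d2_lift (sw _ _)).symm
  set z := c * c0 with hz
  have hcz : c * z * c = z⁻¹ := by
    rw [hz, mul_inv_rev, inv_eq_of_mul_eq_one_right cc, inv_eq_of_mul_eq_one_right hsq, ← mul_assoc, cc, one_mul]
  have hconjp : ∀ m : ℕ, c * z ^ m * c = (z ^ m)⁻¹ := fun m => by
    have := (conj_pow (a := c) (b := z) (i := m)).symm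
    rw [inv_eq_of_mul_eq_one_right cc, hcz, inv_pow] at this
    exact this
  have hTr : ∀ m : ℕ, C.Tr (c * z ^ m) ∧ C.Tr (c * z ^ (m + 1)) := by
    intro m
    induction m with
    | zero => exact ⟨by simpa using hL.Tr_swap (by decide), by rw [zero_add, pow_one, hz, ← mul_assoc, cc, one_mul]; exact htr⟩
    | succ m ih =>
      refine ⟨ih.2, ?_⟩
      have h1 := Tr.conj C ih.1 z⁻¹
      rwa [show z⁻¹ * (c * z ^ m) * z⁻¹⁻¹ = c * z ^ (m + 1 + 1) by
        rw [inv_inv, ← hcz, pow_succ, pow_succ']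
        calc c * z * c * (c * z ^ m) * z = c * z * (c * c) * z ^ m * z := by group
          _ = _ := by rw [cc]; group] at h1
  have hzc : ∀ {p : G}, Commute c p → Commute c0 p → Commute z p := fun h h' => h.mul_left h'
  rcases Nat.even_or_odd' (orderOf z) with ⟨m, hm | hm⟩
  · exfalso
    have h0 := orderOf_pos z
    have hi1 : z ^ m ≠ 1 := fun h => by
      have := Nat.le_of_dvd (by omega) (orderOf_dvd_of_pow_eq_one h)
      omega
    have hii : (z ^ m)⁻¹ = z ^ m := inv_eq_of_mul_eq_one_right (by rw [← pow_add, ← two_mul, ← hm, pow_orderOf_eq_one])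
    have hic : Commute (z ^ m) c := by
      have h1 := hconjp m
      rw [hii] at h1
      show z ^ m * c = c * z ^ m
      calc z ^ m * c = c * z ^ m * c * c := by rw [h1]
        _ = _ := by rw [mul_assoc, cc, mul_one]
    have hic0 : Commute (z ^ m) c0 := by
      have e : c0 = c * z := by rw [hz, ← mul_assoc, cc, one_mul]
      have h1 := hic.mul_right ((Commute.refl z).pow_left m)
      rwa [← e] at h1
    have fx : ∀ {p : G}, Commute c p → Commute c0 p → Commute (c * z ^ m) p := fun h h' =>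
      h.mul_left ((hzc h h').pow_left m)
    have hbad : ∀ {p : G}, Commute c0 p → c * z ^ m = p → False := fun {p} hp e => hnc (by
      have h1 : Commute c0 (p * (z ^ m)⁻¹) := hp.mul_right hic0.symm.inv_right
      rwa [← e, mul_inv_cancel_right] at h1)
    rcases hL.four_only hF hpair (fx cx hx) (fx cy hy)
      (Commute.mul_left (Commute.refl c) hic) (fx cs hs) (hTr m).1 with e | e | e | e
    · exact hbad hx e
    · exact hbad hy e
    · exact hi1 (mul_eq_left.1 e)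
    · exact hbad hs e
  · set h := z ^ m with hh
    have hmove : h * c * h⁻¹ = c0 := by
      have h1 : h * c = c * h⁻¹ := by
        rw [← hconjp m, ← mul_assoc, ← mul_assoc, cc, one_mul]
      have h2 : (z ^ (m + m))⁻¹ = z := inv_eq_of_mul_eq_one_right (by
        rw [← pow_succ, ← two_mul, ← hm, pow_orderOf_eq_one])
      rw [h1, mul_assoc, ← mul_inv_rev, hh, ← pow_add, h2, hz, ← mul_assoc, cc, one_mul]
    have hg : k * h * c * (k * h)⁻¹ = C.d 2 := by
      rw [← kc, ← hmove]; group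
    have hgx : Commute (k * h) x := kx.mul_left ((hzc cx hx).pow_left m)
    have hgy : Commute (k * h) y := ky.mul_left ((hzc cy hy).pow_left m)
    refine ⟨k * h, hgx, hgy, hg, ?_⟩
    set g0 := k * h
    have hback : ∀ {p q : G}, Commute z q → g0 * p * g0⁻¹ = q → Commute (g0⁻¹ * z * g0) p := fun {p q} hq e => by
      have h1 := (Commute.conj_iff g0⁻¹).2 hq
      rw [← e, inv_inv] at h1
      rwa [show g0⁻¹ * (g0 * p * g0⁻¹) * g0 = p by group] at h1
    have h6 := (hL.cube_three hF hpair (hback (hzc cx hx) (by rw [hgx.eq, mul_inv_cancel_right]))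
      (hback (hzc cy hy) (by rw [hgy.eq, mul_inv_cancel_right])) (hback (hzc cs hs) hg)).1
    rw [show g0⁻¹ * z * g0 = g0⁻¹ * z * g0⁻¹⁻¹ by rw [inv_inv], conj_pow, conj_eq_one_iff] at h6
    have hd := orderOf_dvd_of_pow_eq_one h6
    rw [← orderOf_dvd_iff_pow_eq_one]
    refine (Nat.Coprime.dvd_of_dvd_mul_left ?_ (show orderOf z ∣ 2 * 3 from hd))
    rw [hm]
    simp

/-- The two middle transpositions commute. -/
theorem main_comm (hF : T.Framed .eight) (hpair : T.centQ (1, 1, 0) ≤ Subgroup.normalizer (T.J : Set G)) :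
    Commute (hL.lift (swap 2 3) : G) (hL.up (swap 2 3)) := by
  obtain ⟨f1, f2, f3, f4, f5, f6, f7, f8, f9, f10, f11⟩ := swap_facts
  obtain ⟨n1, n2, n3, n4, n5, n6, n7, n8, n9⟩ := swap_apart
  have sw : ∀ i j : Fin 6, swap i j * swap i j = (1 : P6) := swap_mul_self
  set c : G := (hL.lift (swap 2 5) : G) with hc
  have cc : c * c = 1 := hL.lift_sq' (sw _ _)
  set c1 := hL.up (swap 2 3) with hc1
  set c2 := hL.up2 (swap 0 5) with hc2
  have hxs : ∀ σ : P6, σ * σ = 1 → Commute (hL.lift (swap 0 1) : G) (hL.up σ) := fun σ h => by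
    rw [hL.lift01]; exact hL.inner0_up 1 h
  have hys : ∀ σ : P6, σ * σ = 1 → Commute (hL.lift (swap 3 4) : G) (hL.up2 σ) := fun σ h => by
    rw [hL.lift34]; exact hL.inner1_up2 1 h
  have sq1 : c1 * c1 = 1 := by rw [hc1, up, conj_mul, hL.lift_sq' (sw _ _), mul_one, mul_inv_cancel]
  have sq2 : c2 * c2 = 1 := by
    rw [hc2, up2, up, conj_mul, conj_mul, hL.lift_sq' (sw _ _), mul_one, mul_inv_cancel, mul_one, mul_inv_cancel]
  have x1 : Commute c1 (hL.lift (swap 0 1) : G) := (hxs _ (sw _ _)).symm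
  have y1 : Commute c1 (hL.lift (swap 3 4) : G) := by rw [← hL.up01]; exact (hL.up_mul (sw _ _) (sw _ _) f1).2
  have s1' : Commute c1 (C.d 2) := by rw [← hL.up45]; exact (hL.up_mul (sw _ _) (sw _ _) f2).2
  have x2 : Commute c2 (hL.lift (swap 0 1) : G) := by rw [← hL.up2_34]; exact (hL.up2_mul (sw _ _) (sw _ _) f3).2
  have y2 : Commute c2 (hL.lift (swap 3 4) : G) := (hys _ (sw _ _)).symm
  have s2' : Commute c2 (C.d 2) := by rw [← hL.up2_12]; exact (hL.up2_mul (sw _ _) (sw _ _) f4).2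
  have t1 : C.Tr c1 := hL.Tr_up (hL.Tr_swap (by decide))
  have t2 : C.Tr c2 := hL.Tr_up2 (hL.Tr_swap (by decide))
  have he3 : Commute c (T.q (0, 0, 1)) := (hL.line2_lift 1 _).symm
  -- neither commutes with the third
  have hn1 : ¬ Commute c1 c := by
    intro h
    rcases hL.four_only hF hpair x1 y1 h s1' t1 with e | e | e | e
    · refine n3 ?_
      have h1 : Commute c1 (hL.up (swap 3 4)) := by rw [e]; exact hxs _ (sw _ _)
      have h2 := (Commute.conj_iff (T.φ sm)).1 h1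
      have h3 := congrArg hL.π (a₁ := hL.lift (swap 2 3) * hL.lift (swap 3 4))
        (a₂ := hL.lift (swap 3 4) * hL.lift (swap 2 3)) (Subtype.ext h2.eq)
      rwa [map_mul, map_mul, hL.π_lift (sw _ _), hL.π_lift (sw _ _)] at h3
    · rw [← hL.up01] at e
      exact n1 (hL.up_inj (sw _ _) (sw _ _) e)
    · refine n4 ?_
      have h1 : Commute c1 (T.q (0, 0, 1)) := by rw [e]; exact he3
      rw [show T.q (0, 0, 1) = T.φ sm * T.q (0, 1, 0) * (T.φ sm)⁻¹ from (hL.sm_q (0, 1, 0)).symm] at h1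
      have h2 := (Commute.conj_iff (T.φ sm)).1 h1
      have h3 := congrArg hL.π (a₁ := hL.lift (swap 2 3) * T.qc (0, 1, 0))
        (a₂ := T.qc (0, 1, 0) * hL.lift (swap 2 3)) (Subtype.ext h2.eq)
      rwa [map_mul, map_mul, hL.π_lift (sw _ _), hL.e2] at h3
    · rw [← hL.up45] at e
      exact n2 (hL.up_inj (sw _ _) (sw _ _) e)
  have hn2 : ¬ Commute c2 c := by
    intro h
    rcases hL.four_only hF hpair x2 y2 h s2' t2 with e | e | e | e
    · rw [← hL.up2_34] at e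
      exact n6 (hL.up2_inj (sw _ _) (sw _ _) e)
    · refine n8 ?_
      have h1 : Commute c2 (hL.up2 (swap 1 5)) := by rw [e]; exact hys _ (sw _ _)
      have h2 := (Commute.conj_iff (T.φ sm)).1 ((Commute.conj_iff (T.φ sm)).1 h1)
      have h3 := congrArg hL.π (a₁ := hL.lift (swap 0 5) * hL.lift (swap 1 5))
        (a₂ := hL.lift (swap 1 5) * hL.lift (swap 0 5)) (Subtype.ext h2.eq)
      rwa [map_mul, map_mul, hL.π_lift (sw _ _), hL.π_lift (sw _ _)] at h3
    · refine n9 ?_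
      have h1 : Commute c2 (T.q (0, 0, 1)) := by rw [e]; exact he3
      rw [show T.q (0, 0, 1) = T.φ sm * (T.φ sm * T.q (1, 0, 0) * (T.φ sm)⁻¹) * (T.φ sm)⁻¹ from
        ((congrArg (fun t => T.φ sm * t * (T.φ sm)⁻¹) (hL.sm_q (1, 0, 0))).trans (hL.sm_q _)).symm] at h1
      have h2 := (Commute.conj_iff (T.φ sm)).1 ((Commute.conj_iff (T.φ sm)).1 h1)
      have h3 := congrArg hL.π (a₁ := hL.lift (swap 0 5) * T.qc (1, 0, 0))
        (a₂ := T.qc (1, 0, 0) * hL.lift (swap 0 5)) (Subtype.ext h2.eq)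
      rwa [map_mul, map_mul, hL.π_lift (sw _ _), hL.e1] at h3
    · rw [← hL.up2_12] at e
      exact n7 (hL.up2_inj (sw _ _) (sw _ _) e)
  obtain ⟨g0, gx, gy, gc, z1⟩ := hL.braid_three hF hpair (k := hL.up (swap 2 4 * swap 3 5)) sq1 t1 x1 y1 s1'
    (hxs _ f5).symm (by rw [← hL.up01]; exact (hL.up_mul f5 (sw _ _) f7).2)
    (by rw [hc1, hL.up_conj (sw _ _) f5, f6, hL.up45]) hn1
  obtain ⟨-, -, -, -, z2⟩ := hL.braid_three hF hpair (k := hL.up2 (swap 0 1 * swap 2 5)) sq2 t2 x2 y2 s2'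
    (by rw [← hL.up2_34]; exact (hL.up2_mul f8 (sw _ _) f10).2) (hys _ f8).symm
    (by rw [hc2, hL.up2_conj (sw _ _) f8, f9, hL.up2_12]) hn2
  have cx : Commute c (hL.lift (swap 0 1) : G) :=
    (congrArg Subtype.val (hL.lift_mul (sw 2 5) (sw 0 1) (by decide +kernel)).2.eq :)
  have cy : Commute c (hL.lift (swap 3 4) : G) :=
    (congrArg Subtype.val (hL.lift_mul (sw 2 5) (sw 3 4) (by decide +kernel)).2.eq :)
  have cs : Commute c (C.d 2) := (hL.d2_lift (sw _ _)).symm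
  have hline : ∀ c0 : G, Commute c0 (hL.lift (swap 0 1) : G) → Commute c0 (hL.lift (swap 3 4) : G) →
      Commute c0 (C.d 2) → c0 * c0 = 1 → ¬ Commute c0 c → (c * c0) ^ 3 = 1 →
      ∃ a : ZMod 3, a ≠ 0 ∧ g0⁻¹ * (c * c0) * g0 = T.q (0, 0, a) := by
    intro c0 hx hy hs hsq hnc h3
    have hback : ∀ {p q : G}, Commute (c * c0) q → g0 * p * g0⁻¹ = q → Commute (g0⁻¹ * (c * c0) * g0) p :=
      fun {p q} hq e => by
      have h1 := (Commute.conj_iff g0⁻¹).2 hq
      rw [← e, inv_inv] at h1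
      rwa [show g0⁻¹ * (g0 * p * g0⁻¹) * g0 = p by group] at h1
    obtain ⟨a, ha⟩ := (hL.cube_three hF hpair (hback (cx.mul_left hx) (by rw [gx.eq, mul_inv_cancel_right]))
      (hback (cy.mul_left hy) (by rw [gy.eq, mul_inv_cancel_right])) (hback (cs.mul_left hs) gc)).2
      (by rw [show g0⁻¹ * (c * c0) * g0 = g0⁻¹ * (c * c0) * g0⁻¹⁻¹ by rw [inv_inv], conj_pow, h3]; group)
    refine ⟨a, ?_, ha⟩
    rintro rfl
    rw [show ((0, 0, (0 : ZMod 3)) : V3) = 0 from rfl, T.q_zero] at ha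
    refine hnc ?_
    have h1 : c * c0 = 1 := by
      calc c * c0 = g0 * (g0⁻¹ * (c * c0) * g0) * g0⁻¹ := by group
        _ = 1 := by rw [ha, mul_one, mul_inv_cancel]
    rw [mul_eq_one_iff_eq_inv.1 h1, inv_eq_of_mul_eq_one_right hsq]
  obtain ⟨a, ha, ea⟩ := hline c1 x1 y1 s1' sq1 hn1 z1
  obtain ⟨b, hb, eb⟩ := hline c2 x2 y2 s2' sq2 hn2 z2
  have hne : c2 ≠ c1 := by
    intro e
    have h1 : Commute (T.q (0, 1, 0)) c2 := by
      have := (hL.inner1_up2 1 (sw 0 5)).mul_left (hL.inner1_up2 0 (sw 0 5))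
      rwa [show T.q (0, (0 : ZMod 3), 0) = 1 from T.q_zero, one_mul, mul_assoc, C.d_sq, mul_one] at this
    rw [e, show T.q (0, 1, 0) = T.φ sm * T.q (1, 0, 0) * (T.φ sm)⁻¹ from (hL.sm_q (1, 0, 0)).symm] at h1
    have h2 := ((Commute.conj_iff (T.φ sm)).1 h1).symm
    have h3 := congrArg hL.π (a₁ := hL.lift (swap 2 3) * T.qc (1, 0, 0))
      (a₂ := T.qc (1, 0, 0) * hL.lift (swap 2 3)) (Subtype.ext h2.eq)
    rw [map_mul, map_mul, hL.π_lift (sw _ _), hL.e1] at h3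
    exact n5 h3
  have key : c2 = c1 * c * c1 := by
    rcases line_zero a b ha hb with h | h
    · refine absurd ?_ hne
      rw [h, ← ea] at eb
      exact mul_left_cancel (mul_left_cancel (mul_right_cancel eb))
    · rw [h, T.q_add, ← ea] at eb
      have h1 : c * c2 = c * (c1 * c * c1) := by
        calc c * c2 = g0 * (g0⁻¹ * (c * c2) * g0) * g0⁻¹ := by group
          _ = _ := by rw [eb]; group
      exact mul_left_cancel h1
  have hsym : c1 * c * c1 = c * c1 * c := by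
    have h1 : c * c1 * c * (c1 * c * c1) = 1 := by
      calc c * c1 * c * (c1 * c * c1) = (c * c1) ^ 3 := by simp only [pow_succ, pow_zero, one_mul]; group
        _ = 1 := z1
    rw [← inv_eq_of_mul_eq_one_right h1, mul_inv_rev, mul_inv_rev, inv_eq_of_mul_eq_one_right cc,
      inv_eq_of_mul_eq_one_right sq1, mul_assoc]
  have hl : c * (hL.lift (swap 2 3) : G) * c = T.q (0, 2, 0) * C.d 1 := by
    rw [hc, hL.lift_conj' (sw _ _) (sw _ _), f11, ← outer_split.2.2.2.2.2.2.1]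
    exact hL.lift_inner1 2
  have h1 : Commute (c * (hL.lift (swap 2 3) : G) * c⁻¹) (c * c1 * c⁻¹) := by
    rw [inv_eq_of_mul_eq_one_right cc, hl, ← hsym, ← key]
    exact hL.inner1_up2 2 (sw _ _)
  exact (Commute.conj_iff c).1 h1

end Conf.Cpl.Label

end Cfsg.Agent.Spor.SymNine
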