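import Cfsg.Agent.Lib.Spor.SymNine.BigClass
import Cfsg.Agent.Lib.Spor.SymNine.Plane

/-!
The exact centraliser of the eight lifted products of the three transpositions exchanging the two triples.
-/

set_option autoImplicit false
set_option linter.unusedSectionVars false
set_option linter.style.haveILetI false
set_option maxRecDepth 100000
set_option synthInstance.maxSize 4096
set_option synthInstance.maxHeartbeats 200000

namespace Cfsg.Agent.Spor.SymNine

open Cfsg.Agent.Lie.PSpFourThreeAmalgam (V3 mU mT)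
open Cfsg.Agent.Lie.PSpFourThreeFull (six dia smap)
open Cfsg.Agent.Lie.PSpFourThreeFull.Axis (P6 s1 s2 w1 w2 tau inO inO_mul inO_sq eps_conj)
open Equiv

theorem fixed_dec : ∀ v : V3, mT v = v → v = v.1 • ((1, 1, 0) : V3) + v.2.2 • ((0, 0, 1) : V3) := by decide +kernel

theorem fixed_cases : ∀ v : V3, mT v = v → v ≠ 0 → v = (0, 0, 1) ∨ v = -(0, 0, 1) ∨ v = (1, 1, 0) ∨ v = -(1, 1, 0) ∨
    v = dia ∨ v = -dia ∨ v = sg 2 dia ∨ v = -sg 2 dia := by decide +kernel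

theorem fixed_comb : ∀ x z : ZMod 3, mT (x • ((1, 1, 0) : V3) + z • ((0, 0, 1) : V3)) =
    x • ((1, 1, 0) : V3) + z • ((0, 0, 1) : V3) := by decide +kernel

theorem fixed_map : ∀ u w : V3, mT u = u → mT w = w → ∀ x z : ZMod 3, mT (x • u + z • w) = x • u + z • w := by
  decide +kernel

theorem fixed_pair : mT (1, 1, 0) = (1, 1, 0) ∧ mT (0, 0, 1) = (0, 0, 1) ∧ ((1, 1, 0) : V3) ≠ 0 ∧
    ((0, 0, 1) : V3) ≠ 0 := by decide +kernel

theorem pair_split : ((1, 1, 0) : V3) = (1, 0, 0) + (0, 1, 0) := by decide +kernel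

theorem four_axis : ∀ i j : Fin 2, mT^[i.1] ((sg 2)^[j.1] (0, 0, 1)) = ((0, 0, 1) : V3) → j = 0 := by decide +kernel

theorem v_cases : ∀ i : Fin 2, i = 0 ∨ i = 1 := by decide

theorem gamma_cent : ∀ γ : P6, γ * tau = tau * γ → inO (γ * (s1 * s2) * γ⁻¹ * (s1 * s2)⁻¹) →
    ∃ x : ZMod 3, inO (γ * ((s1 * s2) ^ x.val)⁻¹) := by decide +kernel

theorem gamma_norm : ∀ γ : P6, γ * tau = tau * γ →
    ∃ x : ZMod 3, inO (γ * (s1 * s2) * γ⁻¹ * ((s1 * s2) ^ x.val)⁻¹) := by decide +kernel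

theorem inO_swaps : inO tau ∧ inO (swap 0 3) ∧ inO (swap 1 4) ∧ inO (swap 2 5) ∧ inO 1 := by decide +kernel

theorem eps_not_symm : (s1 * s2)⁻¹ * swap 0 3 * (s1 * s2) ≠ s1 * s2 * swap 0 3 * (s1 * s2)⁻¹ ∧
    (∀ x : ZMod 3, (s1 * s2) ^ x.val * swap 0 3 = swap 0 3 * (s1 * s2) ^ x.val → x = 0) := by decide +kernel

theorem inO_conj : ∀ x : ZMod 3, ∀ σ : P6, inO σ → inO ((s1 * s2) ^ x.val * σ * ((s1 * s2) ^ x.val)⁻¹) :=
  fun x => Cfsg.Agent.Lie.PSpFourThreeFull.Axis.pow_inO x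

namespace Conf.Cpl.Label

variable {G : Type*} [Group G] [Finite G] {T : Conf G} {C : Cpl T} (hL : C.Label)
include hL

/-- The eight lifts. -/
def Og : Subgroup G where
  carrier := {g | ∃ σ, inO σ ∧ g = (hL.lift σ : G)}
  one_mem' := ⟨1, inO_swaps.2.2.2.2, by rw [hL.lift_one]; rfl⟩
  mul_mem' := by
    rintro _ _ ⟨σ, hσ, rfl⟩ ⟨σ', hσ', rfl⟩
    exact ⟨σ * σ', (inO_mul σ hσ σ' hσ').1,
      (congrArg Subtype.val (hL.lift_mul (inO_sq σ hσ) (inO_sq σ' hσ') (inO_mul σ hσ σ' hσ').2).1).symm⟩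
  inv_mem' := by
    rintro _ ⟨σ, hσ, rfl⟩
    exact ⟨σ, hσ, hL.lift_inv (inO_sq σ hσ)⟩

theorem lift_mem {σ : P6} (h : inO σ) : (hL.lift σ : G) ∈ hL.Og := ⟨σ, h, rfl⟩

theorem tm_mem : T.φ tm ∈ hL.Og := ⟨tau, inO_swaps.1, hL.lift_tau.symm⟩

theorem Og_sq {o : G} (ho : o ∈ hL.Og) : o * o = 1 := by
  obtain ⟨σ, hσ, rfl⟩ := ho
  exact hL.lift_sq' (inO_sq σ hσ)

theorem Og_inv {o : G} (ho : o ∈ hL.Og) : o⁻¹ = o := inv_eq_of_mul_eq_one_right (hL.Og_sq ho)

theorem Og_comm {o o' : G} (ho : o ∈ hL.Og) (ho' : o' ∈ hL.Og) : o * o' = o' * o := by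
  obtain ⟨σ, hσ, rfl⟩ := ho
  obtain ⟨σ', hσ', rfl⟩ := ho'
  exact congrArg Subtype.val (hL.lift_mul (inO_sq σ hσ) (inO_sq σ' hσ') (inO_mul σ hσ σ' hσ').2).2.eq

theorem Og_three {o : G} (ho : o ∈ hL.Og) (h3 : o ^ 3 = 1) : o = 1 := by
  rwa [pow_succ, pow_two, hL.Og_sq ho, one_mul] at h3

theorem Og_d2 {o : G} (ho : o ∈ hL.Og) : Commute (C.d 2) o := by
  obtain ⟨σ, hσ, rfl⟩ := ho
  exact hL.d2_lift (inO_sq σ hσ)

theorem Og_e3 {o : G} (ho : o ∈ hL.Og) (a : ZMod 3) : Commute (T.q (a • (0, 0, 1))) o := by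
  obtain ⟨σ, -, rfl⟩ := ho
  rw [show a • ((0, 0, 1) : V3) = (0, 0, a) by simp]
  exact hL.line2_lift a σ

theorem π_pair (x : ZMod 3) : hL.π (T.qc (x • (1, 1, 0))) = (s1 * s2) ^ x.val := by
  have hp : T.qc (x • (1, 1, 0)) = T.qc (1, 1, 0) ^ x.val := Subtype.ext (by
    rw [SubgroupClass.coe_pow]
    exact T.q_smul x _)
  rw [hp, map_pow, pair_split, qc_add, map_mul, hL.e1, hL.e2]

theorem π_pair1 : hL.π (T.qc (1, 1, 0)) = s1 * s2 := by rw [pair_split, qc_add, map_mul, hL.e1, hL.e2]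

/-- The centraliser of the involution in the normaliser of the eight lifts. -/
def Lg : Subgroup G := Subgroup.centralizer ({T.φ tm} : Set G) ⊓ Subgroup.normalizer (hL.Og : Set G)

theorem mem_Lg_comm {g : G} (h : g ∈ hL.Lg) : g * T.φ tm = T.φ tm * g :=
  Subgroup.mem_centralizer_singleton_iff.1 (Subgroup.mem_inf.1 h).1

theorem conj_mem {g o : G} (h : g ∈ hL.Lg) (ho : o ∈ hL.Og) : g * o * g⁻¹ ∈ hL.Og :=
  (Subgroup.mem_normalizer_iff.1 (Subgroup.mem_inf.1 h).2 o).1 ho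

theorem Og_le : hL.Og ≤ hL.Lg := fun o ho => Subgroup.mem_inf.2
  ⟨Subgroup.mem_centralizer_singleton_iff.2 (hL.Og_comm ho hL.tm_mem), Subgroup.le_normalizer ho⟩

theorem q_mem_Lg {v : V3} (hv : mT v = v) : T.q v ∈ hL.Lg := by
  refine Subgroup.mem_inf.2 ⟨Subgroup.mem_centralizer_singleton_iff.2 ((Acts.comm_iff T tm_acts).2 hv).symm, ?_⟩
  have hp : ∀ (x z : ZMod 3) (o : G), o ∈ hL.Og →
      T.q (x • (1, 1, 0) + z • (0, 0, 1)) * o * (T.q (x • (1, 1, 0) + z • (0, 0, 1)))⁻¹ ∈ hL.Og := by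
    rintro x z o ⟨σ, hσ, rfl⟩
    refine ⟨_, inO_conj x σ hσ, ?_⟩
    have h1 := congrArg Subtype.val (hL.lift_conj (T.qc (x • (1, 1, 0) + z • (0, 0, 1))) (inO_sq σ hσ))
    rw [show hL.π (T.qc (x • (1, 1, 0) + z • (0, 0, 1))) = (s1 * s2) ^ x.val by
      rw [qc_add, map_mul, hL.π_pair, hL.π_line, mul_one]] at h1
    exact h1
  have hm : ∀ w : V3, mT w = w → ∀ o ∈ hL.Og, T.q w * o * (T.q w)⁻¹ ∈ hL.Og := by
    intro w hw o ho
    rw [fixed_dec w hw]
    exact hp _ _ o ho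
  rw [Subgroup.mem_normalizer_iff]
  refine fun o => ⟨hm v hv o, fun ho => ?_⟩
  have hn : mT (-v) = -v := by
    rw [show mT (-v) = -mT v from (by decide +kernel : ∀ v : V3, mT (-v) = -mT v) v, hv]
  have := hm (-v) hn _ ho
  simpa [T.q_neg, mul_assoc] using this

/-- Lying in the product of the plane and the eight lifts. -/
def PO (g : G) : Prop := ∃ o ∈ hL.Og, ∃ v : V3, mT v = v ∧ g = o * T.q v

theorem PO_Og {g o : G} (h : hL.PO g) (ho : o ∈ hL.Og) : hL.PO (o * g) := by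
  obtain ⟨o', ho', v, hv, rfl⟩ := h
  exact ⟨o * o', hL.Og.mul_mem ho ho', v, hv, (mul_assoc _ _ _).symm⟩

theorem PO_conj {g o : G} (h : hL.PO g) (ho : o ∈ hL.Og) : hL.PO (o * g * o⁻¹) := by
  obtain ⟨o', ho', v, hv, rfl⟩ := h
  refine ⟨o * o' * (T.q v * o⁻¹ * (T.q v)⁻¹),
    hL.Og.mul_mem (hL.Og.mul_mem ho ho') (hL.conj_mem (hL.q_mem_Lg hv) (hL.Og.inv_mem ho)), v, hv, ?_⟩
  group

/-- Moving a translate of an element of order three onto that element. -/
theorem fix_one {p o : G} (hp : p ∈ hL.Lg) (ho : o ∈ hL.Og) (hp3 : p ^ 3 = 1) (h3 : (o * p) ^ 3 = 1) :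
    p * o * p⁻¹ * (o * p) * (p * o * p⁻¹)⁻¹ = p := by
  set e1 := p * o * p⁻¹ with he1
  set e2 := p * e1 * p⁻¹ with he2
  have m1 : e1 ∈ hL.Og := hL.conj_mem hp ho
  have m2 : e2 ∈ hL.Og := hL.conj_mem hp m1
  have h : o * e1 * e2 = 1 := by
    have e : (o * p) ^ 3 = o * e1 * e2 * p ^ 3 := by
      rw [he2, he1]
      simp only [pow_succ, pow_zero, one_mul]
      group
    rw [h3, hp3, mul_one] at e
    exact e.symm
  have he : e2⁻¹ = o * e1 := inv_eq_of_mul_eq_one_left h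
  calc e1 * (o * p) * e1⁻¹ = e1 * o * (p * e1 * p⁻¹)⁻¹ * p := by group
    _ = e1 * o * e2⁻¹ * p := rfl
    _ = e1 * (o * o) * e1 * p := by rw [he]; group
    _ = p := by rw [hL.Og_sq ho, mul_one, hL.Og_sq m1, one_mul]

/-- A normalising element is, up to the eight lifts, one normalising the plane. -/
theorem straighten {g : G} (hg : g ∈ hL.Lg) (hE : ∀ v, mT v = v → hL.PO (g * T.q v * g⁻¹)) :
    ∃ o ∈ hL.Og, ∃ u w : V3, mT u = u ∧ mT w = w ∧
      o * g * T.q (1, 1, 0) * (o * g)⁻¹ = T.q u ∧ o * g * T.q (0, 0, 1) * (o * g)⁻¹ = T.q w := by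
  obtain ⟨o1, ho1, w, hw, e⟩ := hE _ fixed_pair.2.1
  have hpw := hL.q_mem_Lg hw
  set a1 := T.q w * o1 * (T.q w)⁻¹ with ha1
  have m1 : a1 ∈ hL.Og := hL.conj_mem hpw ho1
  have e1 : a1 * g * T.q (0, 0, 1) * (a1 * g)⁻¹ = T.q w := by
    calc a1 * g * T.q (0, 0, 1) * (a1 * g)⁻¹ = a1 * (g * T.q (0, 0, 1) * g⁻¹) * a1⁻¹ := by group
      _ = _ := by
        rw [e]
        exact hL.fix_one hpw ho1 (T.q_cube w) (by rw [← e, conj_pow, T.q_cube, mul_one, mul_inv_cancel])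
  obtain ⟨o2, ho2, u, hu, e'⟩ := hL.PO_conj (hE _ fixed_pair.1) m1
  have hpu := hL.q_mem_Lg hu
  have e'' : a1 * g * T.q (1, 1, 0) * (a1 * g)⁻¹ = o2 * T.q u := by
    rw [← e']
    group
  have hc : Commute o2 (T.q w) := by
    have h1 : Commute (o2 * T.q u) (T.q w) := by
      rw [← e'', ← e1]
      exact (Commute.conj_iff _).2 (T.q_comm _ _)
    have h2 := h1.mul_left (show Commute (T.q u) (T.q w) from T.q_comm _ _).inv_left
    rwa [mul_inv_cancel_right] at h2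
  set a2 := T.q u * o2 * (T.q u)⁻¹ with ha2
  have hc2 : Commute a2 (T.q w) := by
    have h1 := (Commute.conj_iff (T.q u)).2 hc
    rwa [T.q_comm u w, mul_inv_cancel_right] at h1
  refine ⟨a2 * a1, hL.Og.mul_mem (hL.conj_mem hpu ho2) m1, u, w, hu, hw, ?_, ?_⟩
  · calc a2 * a1 * g * T.q (1, 1, 0) * (a2 * a1 * g)⁻¹ = a2 * (a1 * g * T.q (1, 1, 0) * (a1 * g)⁻¹) * a2⁻¹ := by group
      _ = _ := by
        rw [e'']
        exact hL.fix_one hpu ho2 (T.q_cube u) (by rw [← e'', conj_pow, T.q_cube, mul_one, mul_inv_cancel])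
  · calc a2 * a1 * g * T.q (0, 0, 1) * (a2 * a1 * g)⁻¹ = a2 * (a1 * g * T.q (0, 0, 1) * (a1 * g)⁻¹) * a2⁻¹ := by group
      _ = _ := by rw [e1, hc2.eq, mul_inv_cancel_right]

theorem card_diag : Nat.card (T.centQ (sg 2 dia)) = 162 := by
  rw [card_centQ_map (C.d_acts 2), card_centQ_dia]

/-- The two distinguished lines of the plane are kept. -/
theorem lines_kept (hF : T.Framed .eight) (hpair : T.centQ (1, 1, 0) ≤ Subgroup.normalizer (T.J : Set G)) {h : G}
    {u w : V3} (hu : mT u = u) (hw : mT w = w) (eu : h * T.q (1, 1, 0) * h⁻¹ = T.q u)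
    (ew : h * T.q (0, 0, 1) * h⁻¹ = T.q w) :
    (u = (1, 1, 0) ∨ u = -(1, 1, 0)) ∧ (w = (0, 0, 1) ∨ w = -(0, 0, 1)) := by
  have cu : Nat.card (T.centQ u) = 108 := by
    rw [centQ, ← eu, card_conj_cent]
    exact C.card_pair hF hpair
  have cw : Nat.card (T.centQ w) = 2160 := by
    rw [centQ, ← ew, card_conj_cent]
    exact hL.card_axis
  have ne : ∀ {v v' : V3}, v ≠ 0 → h * T.q v * h⁻¹ = T.q v' → v' ≠ 0 := fun {v v'} hv e he => hv (T.q_inj (by
    rw [T.q_zero, ← (conj_eq_one_iff (a := h)), e, he, T.q_zero]))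
  constructor
  · rcases fixed_cases u hu (ne fixed_pair.2.2.1 eu) with r | r | r | r | r | r | r | r
    · rw [r, hL.card_axis] at cu; omega
    · rw [r, card_centQ_neg, hL.card_axis] at cu; omega
    · exact Or.inl r
    · exact Or.inr r
    · rw [r, card_centQ_dia] at cu; omega
    · rw [r, card_centQ_neg, card_centQ_dia] at cu; omega
    · rw [r, hL.card_diag] at cu; omega
    · rw [r, card_centQ_neg, hL.card_diag] at cu; omega
  · rcases fixed_cases w hw (ne fixed_pair.2.2.2 ew) with r | r | r | r | r | r | r | r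
    · exact Or.inl r
    · exact Or.inr r
    · rw [r, C.card_pair hF hpair] at cw; omega
    · rw [r, card_centQ_neg, C.card_pair hF hpair] at cw; omega
    · rw [r, card_centQ_dia] at cw; omega
    · rw [r, card_centQ_neg, card_centQ_dia] at cw; omega
    · rw [r, hL.card_diag] at cw; omega
    · rw [r, card_centQ_neg, hL.card_diag] at cw; omega

/-- An element over a product of a power of the diagonal cycle and one of the eight. -/
theorem PO_axis (Y : T.centQ (0, 0, 1)) {x : ZMod 3} (h : inO (hL.π Y * ((s1 * s2) ^ x.val)⁻¹)) :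
    hL.PO (Y : G) := by
  set σ := hL.π Y * ((s1 * s2) ^ x.val)⁻¹ with hσ
  obtain ⟨z, hz⟩ := hL.π_one (x := (hL.lift σ)⁻¹ * (Y * (T.qc (x • (1, 1, 0)))⁻¹)) (by
    rw [map_mul, map_mul, map_inv, map_inv, hL.π_lift (inO_sq σ h), hL.π_pair, ← hσ, inv_mul_cancel])
  refine ⟨(hL.lift σ : G), hL.lift_mem h, z • (0, 0, 1) + x • (1, 1, 0), ?_, ?_⟩
  · rw [add_comm]; exact fixed_comb x z
  · rw [inv_mul_eq_iff_eq_mul, mul_inv_eq_iff_eq_mul] at hz
    rw [T.q_add, hz, ← mul_assoc]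
    rfl

/-- Two elements normalising the base that agree with the plane. -/
theorem PO_of_normal {h : G} (hN : h ∈ Subgroup.normalizer (T.J : Set G)) (ht : h * T.φ tm = T.φ tm * h) {v : V3}
    (hv : mT v = v) : ∃ w, mT w = w ∧ h * T.q v * h⁻¹ = T.q w := by
  obtain ⟨w, hw⟩ := T.mem_J.1 ((Subgroup.mem_normalizer_iff.1 hN _).1 (T.q_mem v))
  refine ⟨w, (Acts.comm_iff T tm_acts).1 ?_, hw.symm⟩
  rw [hw]
  exact (((show Commute h (T.φ tm) from ht).symm.mul_right ((Acts.comm_iff T tm_acts).2 hv)).mul_right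
    (show Commute h (T.φ tm) from ht).inv_left.symm).eq

/-- Every element of the normaliser of the eight lifts commuting with the involution keeps plane and lifts. -/
theorem all_normal (hF : T.Framed .eight) (hpair : T.centQ (1, 1, 0) ≤ Subgroup.normalizer (T.J : Set G)) {g : G}
    (hg : g ∈ hL.Lg) {v : V3} (hv : mT v = v) : hL.PO (g * T.q v * g⁻¹) := by
  classical
  haveI hnor : (hL.Og.subgroupOf hL.Lg).Normal :=
    (Subgroup.normal_subgroupOf_iff_le_normalizer hL.Og_le).2 inf_le_right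
  set π' := QuotientGroup.mk' (hL.Og.subgroupOf hL.Lg) with hπ'
  let eh : Multiplicative (ZMod 3 × ZMod 3) →* hL.Lg :=
    MonoidHom.mk' (fun w => ⟨T.q (w.toAdd.1 • (1, 1, 0) + w.toAdd.2 • (0, 0, 1)), hL.q_mem_Lg (fixed_comb _ _)⟩)
      fun a b => Subtype.ext (by
        show T.q _ = T.q _ * T.q _
        rw [← T.q_add]
        simp only [toAdd_mul, Prod.fst_add, Prod.snd_add, add_smul]
        exact congrArg T.q (by abel))
  have hq : ∀ {v : V3} (hv : mT v = v), eh (Multiplicative.ofAdd (v.1, v.2.2)) = ⟨T.q v, hL.q_mem_Lg hv⟩ :=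
    fun {v} hv => Subtype.ext (congrArg T.q (fixed_dec v hv).symm)
  set E := (π'.comp eh).range with hE
  -- membership
  have hmk : ∀ {x y : hL.Lg}, π' x = π' y → ∃ o ∈ hL.Og, (x : G) = o * y := fun {x y} e => by
    refine ⟨(x : G) * (y : G)⁻¹, ?_, (inv_mul_cancel_right _ _).symm⟩
    have h1 : x * y⁻¹ ∈ π'.ker := by rw [MonoidHom.mem_ker, map_mul, map_inv, e, mul_inv_cancel]
    rw [hπ', QuotientGroup.ker_mk'] at h1
    exact h1
  have hmO : ∀ {x : hL.Lg}, (x : G) ∈ hL.Og → π' x = 1 := fun {x} hx => (QuotientGroup.eq_one_iff x).2 hx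
  have hfix : ∀ w : Multiplicative (ZMod 3 × ZMod 3), ∃ v, mT v = v ∧ (eh w : G) = T.q v := fun w =>
    ⟨_, fixed_comb _ _, rfl⟩
  have hPO : ∀ {x : hL.Lg}, π' x ∈ E → hL.PO (x : G) := fun {x} hx => by
    obtain ⟨w, hw⟩ := hx
    obtain ⟨o, ho, e⟩ := hmk hw.symm
    obtain ⟨v, hv, e'⟩ := hfix w
    exact ⟨o, ho, v, hv, by rw [e, e']⟩
  have hmemE : ∀ {x : hL.Lg}, hL.PO (x : G) → π' x ∈ E := fun {x} ⟨o, ho, v, hv, e⟩ => by
    refine ⟨Multiplicative.ofAdd (v.1, v.2.2), ?_⟩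
    show π' (eh _) = π' x
    rw [hq hv, show x = ⟨o, hL.Og_le ho⟩ * ⟨T.q v, hL.q_mem_Lg hv⟩ from Subtype.ext e, map_mul,
      hmO (x := ⟨o, hL.Og_le ho⟩) ho, one_mul]
  have hnorm : ∀ x : hL.Lg, (∀ v, mT v = v → hL.PO ((x : G) * T.q v * (x : G)⁻¹)) →
      π' x ∈ Subgroup.normalizer (E : Set (↥hL.Lg ⧸ hL.Og.subgroupOf hL.Lg)) := fun x hx => by
    rw [Subgroup.mem_normalizer_iff_map_conj_eq]
    refine Subgroup.eq_of_le_of_card_ge ?_ (by rw [Subgroup.card_map_of_injective (MulEquiv.injective _)])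
    rintro _ ⟨_, ⟨w, rfl⟩, rfl⟩
    obtain ⟨v, hv, e⟩ := hfix w
    show π' x * π' (eh w) * (π' x)⁻¹ ∈ E
    rw [← map_inv, ← map_mul, ← map_mul]
    refine hmemE ?_
    rw [Subgroup.coe_mul, Subgroup.coe_mul, Subgroup.coe_inv, e]
    exact hx v hv
  have hback : ∀ x : hL.Lg, π' x ∈ Subgroup.normalizer (E : Set (↥hL.Lg ⧸ hL.Og.subgroupOf hL.Lg)) → ∀ v, mT v = v →
      hL.PO ((x : G) * T.q v * (x : G)⁻¹) := fun x hx v hv => by
    have h1 := (Subgroup.mem_normalizer_iff.1 hx _).1 (show π' (eh (Multiplicative.ofAdd (v.1, v.2.2))) ∈ E from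
      ⟨_, rfl⟩)
    rw [← map_inv, ← map_mul, ← map_mul] at h1
    have := hPO h1
    rwa [hq hv] at this
  have htop : Subgroup.normalizer (E : Set (↥hL.Lg ⧸ hL.Og.subgroupOf hL.Lg)) = ⊤ := by
    refine plane_normal E ?_ ?_ ?_ ?_ ?_ ?_
    · rw [hE, ← Nat.card_congr (MonoidHom.ofInjective (f := π'.comp eh) ?_).toEquiv,
        Nat.card_congr Multiplicative.toAdd, Nat.card_prod, Nat.card_zmod]
      refine (injective_iff_map_eq_one _).2 fun w hw => ?_
      obtain ⟨v, -, e⟩ := hfix w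
      have h1 : (eh w : G) ∈ hL.Og := (QuotientGroup.eq_one_iff (eh w)).1 hw
      have h2 : eh w = 1 := Subtype.ext (hL.Og_three h1 (by rw [e, T.q_cube]))
      have h3 := T.q_inj ((congrArg Subtype.val h2).trans T.q_zero.symm)
      exact Multiplicative.toAdd.injective ((by decide +kernel : ∀ t : ZMod 3 × ZMod 3,
        t.1 • ((1, 1, 0) : V3) + t.2 • ((0, 0, 1) : V3) = 0 → t = 0) _ h3)
    · exact ⟨⟨fun a b => by
        obtain ⟨i, hi⟩ := a.2
        obtain ⟨j, hj⟩ := b.2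
        refine Subtype.ext ?_
        rw [Subgroup.coe_mul, Subgroup.coe_mul]
        rw [← hi, ← hj, ← map_mul, ← map_mul, mul_comm]⟩⟩
    · rintro _ ⟨w, rfl⟩
      rw [← map_pow, show w ^ 3 = 1 from (by decide +kernel : ∀ w : Multiplicative (ZMod 3 × ZMod 3), w ^ 3 = 1) w,
        map_one]
    · refine le_antisymm (fun y hy => ?_) ?_
      · obtain ⟨x, rfl⟩ := QuotientGroup.mk'_surjective _ y
        have hc : ∀ {v : V3}, mT v = v → ∃ o ∈ hL.Og, (x : G) * T.q v * (x : G)⁻¹ = o * T.q v := fun {v} hv => by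
          have h1 := Subgroup.mem_centralizer_iff.1 hy (π' (eh (Multiplicative.ofAdd (v.1, v.2.2)))) ⟨_, rfl⟩
          rw [hq hv] at h1
          obtain ⟨o, ho, e⟩ := hmk (x := x * ⟨T.q v, hL.q_mem_Lg hv⟩ * x⁻¹) (y := ⟨T.q v, hL.q_mem_Lg hv⟩)
            (by rw [map_mul, map_mul, ← h1, map_inv, mul_inv_cancel_right])
          exact ⟨o, ho, e⟩
        obtain ⟨o, ho, e⟩ := hc fixed_pair.2.1
        have he3 : Commute o (T.q (0, 0, 1)) := by simpa using (hL.Og_e3 ho 1).symm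
        have ho1 : o = 1 := hL.Og_three ho (by
          have h3 : (o * T.q (0, 0, 1)) ^ 3 = 1 := by rw [← e, conj_pow, T.q_cube, mul_one, mul_inv_cancel]
          rwa [he3.mul_pow, T.q_cube, mul_one] at h3)
        rw [ho1, one_mul, mul_inv_eq_iff_eq_mul] at e
        set Y : T.centQ (0, 0, 1) := ⟨x, mem_centQ.2 e⟩
        have ht : hL.π Y * tau = tau * hL.π Y := by
          rw [← hL.t, ← map_mul, ← map_mul]
          exact congrArg hL.π (Subtype.ext (hL.mem_Lg_comm x.2))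
        obtain ⟨o2, ⟨σ, hσ, ho2⟩, e2⟩ := hc fixed_pair.1
        have hi : inO (hL.π Y * (s1 * s2) * (hL.π Y)⁻¹ * (s1 * s2)⁻¹) := by
          have hY : Y * T.qc (1, 1, 0) * Y⁻¹ * (T.qc (1, 1, 0))⁻¹ = hL.lift σ := Subtype.ext (by
            show (x : G) * T.q (1, 1, 0) * (x : G)⁻¹ * (T.q (1, 1, 0))⁻¹ = _
            rw [e2, mul_inv_cancel_right, ho2])
          have := congrArg hL.π hY
          rw [map_mul, map_mul, map_mul, map_inv, map_inv, hL.π_pair1, hL.π_lift (inO_sq σ hσ)] at this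
          rwa [this]
        obtain ⟨a, ha⟩ := gamma_cent _ ht hi
        exact hmemE (hL.PO_axis Y ha)
      · rintro _ ⟨w, rfl⟩
        refine Subgroup.mem_centralizer_iff.2 ?_
        rintro _ ⟨w', rfl⟩
        rw [← map_mul, ← map_mul, mul_comm]
    · rintro _ ⟨w, rfl⟩ he y hy
      obtain ⟨x, rfl⟩ := QuotientGroup.mk'_surjective _ y
      obtain ⟨v, hv, ev⟩ := hfix w
      have hv0 : v ≠ 0 := fun h0 => he (by
        show π' (eh w) = 1
        rw [show eh w = 1 from Subtype.ext (by rw [ev, h0, T.q_zero]; rfl), map_one])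
      obtain ⟨o, ho, e⟩ := hmk (x := x * eh w * x⁻¹) (y := eh w) (by
        have h1 : π' x * π' (eh w) = π' (eh w) * π' x := Subgroup.mem_centralizer_singleton_iff.1 hy
        rw [map_mul, map_mul, map_inv, h1, mul_inv_cancel_right])
      rw [Subgroup.coe_mul, Subgroup.coe_mul, Subgroup.coe_inv, ev] at e
      set a1 := T.q v * o * (T.q v)⁻¹ with ha1
      have m1 : a1 ∈ hL.Og := hL.conj_mem (hL.q_mem_Lg hv) ho
      have hh : a1 * (x : G) * T.q v = T.q v * (a1 * (x : G)) := by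
        refine mul_inv_eq_iff_eq_mul.1 ?_
        calc a1 * (x : G) * T.q v * (a1 * (x : G))⁻¹ = a1 * ((x : G) * T.q v * (x : G)⁻¹) * a1⁻¹ := by group
          _ = _ := by
            rw [e]
            exact hL.fix_one (hL.q_mem_Lg hv) ho (T.q_cube v)
              (by rw [← e, conj_pow, T.q_cube, mul_one, mul_inv_cancel])
      have hhL : a1 * (x : G) ∈ hL.Lg := hL.Lg.mul_mem (hL.Og_le m1) x.2
      refine hnorm x fun u hu => ?_
      have hPOh : hL.PO (a1 * (x : G) * T.q u * (a1 * (x : G))⁻¹) → hL.PO ((x : G) * T.q u * (x : G)⁻¹) := fun hp => by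
        have := hL.PO_conj hp (hL.Og.inv_mem m1)
        rwa [show a1⁻¹ * (a1 * (x : G) * T.q u * (a1 * (x : G))⁻¹) * a1⁻¹⁻¹ = (x : G) * T.q u * (x : G)⁻¹ by group]
          at this
      refine hPOh ?_
      have hinv : ∀ v', a1 * (x : G) * T.q (-v') = T.q (-v') * (a1 * (x : G)) →
          a1 * (x : G) ∈ T.centQ v' := fun v' h' => by
        rw [T.q_neg] at h'
        exact mem_centQ.2 (by simpa using (show Commute (a1 * (x : G)) (T.q v')⁻¹ from h').inv_right.eq)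
      have hN : a1 * (x : G) ∈ T.centQ (0, 0, 1) ∨ a1 * (x : G) ∈ Subgroup.normalizer (T.J : Set G) := by
        have hdiag : a1 * (x : G) ∈ T.centQ (sg 2 dia) → a1 * (x : G) ∈ Subgroup.normalizer (T.J : Set G) :=
          fun h' => by
            have hc : C.d 2 * (a1 * (x : G)) * (C.d 2)⁻¹ ∈ T.centQ dia := by
              rw [mem_centQ, ← sg_facts.1 2 dia, ← C.d_acts 2, conj_mul, conj_mul, mem_centQ.1 h']
            have hd := Acts.mem_normalizer T (C.d_acts 2)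
            have h2 := Subgroup.mul_mem _ (Subgroup.mul_mem _ (Subgroup.inv_mem _ hd) (T.centQ_dia_le hc)) hd
            rwa [show (C.d 2)⁻¹ * (C.d 2 * (a1 * (x : G)) * (C.d 2)⁻¹) * C.d 2 = a1 * (x : G) by group] at h2
        rcases fixed_cases v hv hv0 with r | r | r | r | r | r | r | r <;> rw [r] at hh
        · exact Or.inl (mem_centQ.2 hh)
        · exact Or.inl (hinv _ hh)
        · exact Or.inr (hpair (mem_centQ.2 hh))
        · exact Or.inr (hpair (hinv _ hh))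
        · exact Or.inr (T.centQ_dia_le (mem_centQ.2 hh))
        · exact Or.inr (T.centQ_dia_le (hinv _ hh))
        · exact Or.inr (hdiag (mem_centQ.2 hh))
        · exact Or.inr (hdiag (hinv _ hh))
      rcases hN with hN | hN
      · set Y : T.centQ (0, 0, 1) := ⟨_, hN⟩
        have ht : hL.π Y * tau = tau * hL.π Y := by
          rw [← hL.t, ← map_mul, ← map_mul]
          exact congrArg hL.π (Subtype.ext (hL.mem_Lg_comm hhL))
        obtain ⟨t, hkey⟩ := gamma_norm _ ht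
        have hu2 := fixed_dec u hu
        have hY : Y * T.qc (u.2.2 • (0, 0, 1)) * Y⁻¹ = T.qc (u.2.2 • (0, 0, 1)) := by
          rw [(hL.line_comm _ Y).eq, mul_inv_cancel_right]
        have hf : hL.PO ((Y * T.qc (1, 1, 0) * Y⁻¹ : T.centQ (0, 0, 1)) : G) :=
          hL.PO_axis _ (x := t) (by rw [map_mul, map_mul, map_inv, hL.π_pair1]; exact hkey)
        obtain ⟨o', ho', w', hw', ew⟩ := hf
        have hsm : ∀ a : ZMod 3, hL.PO ((a1 * (x : G)) * T.q (a • (1, 1, 0)) * (a1 * (x : G))⁻¹) := by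
          intro a
          rw [T.q_smul, ← conj_pow]
          refine hPO (x := ⟨_, hhL⟩ * ⟨_, hL.q_mem_Lg fixed_pair.1⟩ * ⟨_, hhL⟩⁻¹ |> (· ^ a.val)) ?_
          rw [map_pow]
          exact Subgroup.pow_mem _ (hmemE ⟨o', ho', w', hw', ew⟩) _
        obtain ⟨o3, ho3, w3, hw3, e3⟩ := hsm u.1
        refine ⟨o3, ho3, w3 + u.2.2 • (0, 0, 1), ?_, ?_⟩
        · have := fixed_map w3 (0, 0, 1) hw3 fixed_pair.2.1 1 u.2.2
          rwa [one_smul] at this
        · calc a1 * (x : G) * T.q u * (a1 * (x : G))⁻¹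
              = (a1 * (x : G) * T.q (u.1 • (1, 1, 0)) * (a1 * (x : G))⁻¹) *
                ((Y * T.qc (u.2.2 • (0, 0, 1)) * Y⁻¹ : T.centQ (0, 0, 1)) : G) := by
                show _ = _ * (a1 * (x : G) * T.q _ * (a1 * (x : G))⁻¹)
                rw [conj_mul, ← T.q_add, ← hu2]
            _ = _ := by
                rw [hY, e3, T.q_add, mul_assoc]
                rfl
      · obtain ⟨w', hw', ew⟩ := hL.PO_of_normal hN (hL.mem_Lg_comm hhL) hu
        exact ⟨1, hL.Og.one_mem, w', hw', by rw [ew, one_mul]⟩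
    · intro y hy
      obtain ⟨x, rfl⟩ := QuotientGroup.mk'_surjective _ y
      obtain ⟨o, ho, u, w, hu, hw, eu, ew⟩ := hL.straighten x.2 (hback x hy)
      obtain ⟨hu', hw'⟩ := hL.lines_kept hF hpair hu hw eu ew
      set h := o * (x : G) with hh
      have htwo : ∀ v v' : V3, h * T.q v * h⁻¹ = T.q v' → (v' = v ∨ v' = -v) → h * h * T.q v = T.q v * (h * h) := by
        intro v v' e c
        refine mul_inv_eq_iff_eq_mul.1 ?_
        rw [show h * h * T.q v * (h * h)⁻¹ = h * (h * T.q v * h⁻¹) * h⁻¹ by group, e]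
        rcases c with rfl | rfl
        · exact e
        · rw [T.q_neg, ← conj_inv, e, T.q_neg, inv_inv]
      have hf := htwo _ _ eu hu'
      have he := htwo _ _ ew hw'
      obtain ⟨u', i, j, hform⟩ := C.pair_form hF hpair hf
      have hA := Acts.mul T (T.acts_of_mem (T.q_mem u')) (C.four_acts i j)
      rw [← hform] at hA
      obtain rfl := four_axis i j ((Acts.comm_iff T hA).1 he)
      have hi : T.φ tm ^ i.1 ∈ hL.Og := hL.Og.pow_mem hL.tm_mem _
      rw [show ((0 : Fin 2) : ℕ) = 0 from rfl, pow_zero, mul_one] at hform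
      have hut : mT u' = u' := by
        refine (Acts.comm_iff T tm_acts).1 ?_
        have hL2 : h * h ∈ hL.Lg := hL.Lg.mul_mem (hL.Lg.mul_mem (hL.Og_le ho) x.2)
          (hL.Lg.mul_mem (hL.Og_le ho) x.2)
        have h2 := (show Commute (h * h) (T.φ tm) from hL.mem_Lg_comm hL2).mul_left
          ((Commute.refl (T.φ tm)).pow_left i.1).inv_left
        rw [hform, mul_inv_cancel_right] at h2
        exact h2.eq.symm
      rw [← map_mul]
      refine hmemE ?_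
      rw [Subgroup.coe_mul]
      have hxx : (x : G) * (x : G) = o * (h * o * h⁻¹) * (h * h) := by
        rw [show (x : G) = o * h by rw [hh, ← mul_assoc, hL.Og_sq ho, one_mul]]
        group
      rw [hxx]
      refine hL.PO_Og ?_ (hL.Og.mul_mem ho (hL.conj_mem (hL.Lg.mul_mem (hL.Og_le ho) x.2) ho))
      exact ⟨_, hL.conj_mem (hL.q_mem_Lg hut) hi, u', hut, by rw [hform]; group⟩
  have := hback ⟨g, hg⟩ (htop ▸ Subgroup.mem_top _) v hv
  exact this

/-- The elements commuting with the eight lifts. -/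
theorem cent_Og (hF : T.Framed .eight) (hpair : T.centQ (1, 1, 0) ≤ Subgroup.normalizer (T.J : Set G)) {g : G}
    (hc : ∀ σ, inO σ → Commute g (hL.lift σ : G)) :
    ∃ (σ : P6) (a : ZMod 3), inO σ ∧
      (g = hL.lift σ * T.q (0, 0, a) ∨ g = C.d 2 * hL.lift σ * T.q (0, 0, a)) := by
  have hcO : ∀ o ∈ hL.Og, Commute g o := by
    rintro _ ⟨σ, hσ, rfl⟩
    exact hc σ hσ
  have hg : g ∈ hL.Lg := by
    refine Subgroup.mem_inf.2 ⟨Subgroup.mem_centralizer_singleton_iff.2 (hcO _ hL.tm_mem).eq, ?_⟩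
    rw [Subgroup.mem_normalizer_iff]
    refine fun o => ⟨fun ho => by rwa [(hcO o ho).eq, mul_inv_cancel_right], fun ho => ?_⟩
    have h1 := hcO _ ho
    have h2 : o = g * o * g⁻¹ := by
      have := h1.eq
      calc o = g⁻¹ * (g * o * g⁻¹ * g) := by group
        _ = g⁻¹ * (g * (g * o * g⁻¹)) := by rw [this]
        _ = _ := by group
    rwa [h2]
  obtain ⟨o, ho, u, w, hu, hw, eu, ew⟩ := hL.straighten hg fun v hv => hL.all_normal hF hpair hg hv
  obtain ⟨hu', -⟩ := hL.lines_kept hF hpair hu hw eu ew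
  set h := o * g with hh
  have hhc : ∀ p ∈ hL.Og, Commute h p := fun p hp =>
    (show Commute o p from hL.Og_comm ho hp).mul_left (hcO p hp)
  have huf : u = (1, 1, 0) := by
    refine hu'.resolve_right fun e => ?_
    rw [e, T.q_neg] at eu
    have hs : inO (s1 * s2 * swap 0 3 * (s1 * s2)⁻¹) := by rw [eps_conj.1]; exact inO_swaps.2.2.1
    have h1 := congrArg Subtype.val (hL.lift_conj (T.qc (1, 1, 0)) (inO_sq _ inO_swaps.2.1))
    rw [hL.π_pair1, Subgroup.coe_mul, Subgroup.coe_mul, Subgroup.coe_inv] at h1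
    set p : G := (hL.lift (swap 0 3) : G) with hp
    have h2 : h * (T.q (1, 1, 0) * p * (T.q (1, 1, 0))⁻¹) * h⁻¹ =
        T.q (1, 1, 0) * p * (T.q (1, 1, 0))⁻¹ := by
      have hm : T.q (1, 1, 0) * p * (T.q (1, 1, 0))⁻¹ ∈ hL.Og := by
        rw [show T.q (1, 1, 0) * p * (T.q (1, 1, 0))⁻¹ = _ from h1]
        exact hL.lift_mem hs
      rw [(hhc _ hm).eq, mul_inv_cancel_right]
    have h3 : h * p * h⁻¹ = p := by
      rw [(hhc p (hL.lift_mem inO_swaps.2.1)).eq, mul_inv_cancel_right]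
    have h4 : (T.q (1, 1, 0))⁻¹ * p * T.q (1, 1, 0) = T.q (1, 1, 0) * p * (T.q (1, 1, 0))⁻¹ := by
      rw [← h2, ← conj_mul, ← conj_mul, ← conj_inv, eu, inv_inv, h3]
    refine eps_not_symm.1 ?_
    have h5 := congrArg hL.π (a₁ := (T.qc (1, 1, 0))⁻¹ * hL.lift (swap 0 3) * T.qc (1, 1, 0))
      (a₂ := T.qc (1, 1, 0) * hL.lift (swap 0 3) * (T.qc (1, 1, 0))⁻¹) (Subtype.ext h4)
    simpa only [map_mul, map_inv, hL.π_pair1, hL.π_lift (inO_sq _ inO_swaps.2.1)] using h5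
  rw [huf, mul_inv_eq_iff_eq_mul] at eu
  obtain ⟨u', i, j, hform⟩ := C.pair_form hF hpair eu
  have hi : T.φ tm ^ i.1 ∈ hL.Og := hL.Og.pow_mem hL.tm_mem _
  have hqc : ∀ p ∈ hL.Og, Commute (T.q u') p := by
    intro p hp
    have h1 : Commute (T.φ tm ^ i.1 * C.d 2 ^ j.1) p :=
      (show Commute (T.φ tm ^ i.1) p from hL.Og_comm hi hp).mul_left ((hL.Og_d2 hp).pow_left _)
    have h2 := (hhc p hp).mul_left h1.inv_left
    rwa [hform, mul_inv_cancel_right] at h2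
  have hut : mT u' = u' := (Acts.comm_iff T tm_acts).1 (hqc _ hL.tm_mem).eq.symm
  obtain ⟨z, rfl⟩ : ∃ z : ZMod 3, u' = (0, 0, z) := by
    have hd := fixed_dec u' hut
    refine ⟨u'.2.2, ?_⟩
    have h1 := hqc _ (hL.lift_mem inO_swaps.2.1)
    rw [hd] at h1
    have h2 := congrArg hL.π (a₁ := T.qc (u'.1 • (1, 1, 0) + u'.2.2 • (0, 0, 1)) * hL.lift (swap 0 3))
      (a₂ := hL.lift (swap 0 3) * T.qc (u'.1 • (1, 1, 0) + u'.2.2 • (0, 0, 1))) (Subtype.ext h1.eq)
    simp only [qc_add, map_mul, hL.π_pair, hL.π_line, mul_one, hL.π_lift (inO_sq _ inO_swaps.2.1)] at h2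
    rw [eps_not_symm.2 _ h2, zero_smul, zero_add] at hd
    rw [hd]
    simp
  have hgo : g = o * h := by rw [hh, ← mul_assoc, hL.Og_sq ho, one_mul]
  obtain ⟨σ, hσ, hσo⟩ := hL.Og.mul_mem ho hi
  have hline : ∀ (z : ZMod 3) (p : G), p ∈ hL.Og → Commute (T.q (0, 0, z)) p := fun z p hp => by
    have := hL.Og_e3 hp z
    rwa [show z • ((0, 0, 1) : V3) = (0, 0, z) by simp] at this
  rcases v_cases j with rfl | rfl
  · refine ⟨σ, z, hσ, Or.inl ?_⟩
    rw [hgo, hform, ← hσo, show ((0 : Fin 2) : ℕ) = 0 from rfl, pow_zero, mul_one,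
      (hline z _ hi).eq, mul_assoc]
  · refine ⟨σ, -z, hσ, Or.inr ?_⟩
    have hd : T.q (0, 0, z) * C.d 2 = C.d 2 * T.q (0, 0, -z) := by
      rw [Acts.comm T (C.d_acts 2)]
      exact congrArg (T.q · * C.d 2) (by simp [sg])
    rw [hgo, hform, ← hσo, show ((1 : Fin 2) : ℕ) = 1 from rfl, pow_one]
    calc o * (T.q (0, 0, z) * (T.φ tm ^ i.1 * C.d 2)) = o * T.φ tm ^ i.1 * (T.q (0, 0, z) * C.d 2) := by
          rw [← mul_assoc (T.q _), (hline z _ hi).eq]; group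
      _ = o * T.φ tm ^ i.1 * C.d 2 * T.q (0, 0, -z) := by rw [hd, mul_assoc _ (C.d 2)]
      _ = _ := by rw [(hL.Og_d2 (hL.Og.mul_mem ho hi)).eq]

end Conf.Cpl.Label

end Cfsg.Agent.Spor.SymNine
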