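import Cfsg.Agent.Lib.Spor.SymNine.BigLift
import Cfsg.Agent.Lib.Fusion.Cores

/-!
The class of the transposition: orders of centralisers and elements outside the class.
-/

set_option autoImplicit false
set_option linter.unusedSectionVars false
set_option linter.style.haveILetI false
set_option maxRecDepth 100000
set_option synthInstance.maxSize 4096
set_option synthInstance.maxHeartbeats 200000

namespace Cfsg.Agent.Spor.SymNine

open Cfsg.Agent.Lie.PSpFourThreeAmalgam (V3 mU mT)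
open Cfsg.Agent.Lie.PSpFourThreeFull (six dia smap)
open Cfsg.Agent.Lie.PSpFourThreeFull.Axis (P6 s1 s2 w1 w2 tau)
open Equiv

theorem pair_stab : ∀ p : Fin 24 × Bool, smap p (1, 1, 0) = (1, 1, 0) →
    ∃ i j : Fin 2, ∀ v, smap p v = mT^[i.1] ((sg 2)^[j.1] v) := by decide +kernel

theorem four_inj : ∀ i j i' j' : Fin 2, (∀ v, mT^[i.1] ((sg 2)^[j.1] v) = mT^[i'.1] ((sg 2)^[j'.1] v)) →
    i = i' ∧ j = j' := by decide +kernel

theorem four_fix : ∀ i j : Fin 2, mT^[i.1] ((sg 2)^[j.1] (1, 1, 0)) = ((1, 1, 0) : V3) := by decide +kernel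

theorem plane_cases : ∀ v : V3, v.2.2 = 0 → v ≠ 0 → v = (1, 0, 0) ∨ v = -(1, 0, 0) ∨ v = (0, 1, 0) ∨
    v = -(0, 1, 0) ∨ v = (1, 1, 0) ∨ v = -(1, 1, 0) ∨ v = (1, 2, 0) ∨ v = -(1, 2, 0) := by decide +kernel

theorem axis_norm : ∀ σ : P6, σ * w2 = w2 * σ → (σ * s1 * σ⁻¹ = s1 ∨ σ * s1 * σ⁻¹ = s1 * s1) →
    σ ^ 9 = 1 → ∃ a : Fin 3, σ = s1 ^ a.val := by decide +kernel

theorem sm_cent_count : (Finset.univ.filter fun m : Wr => m * sm = sm * m).card = 9 := by decide +kernel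

theorem card_P6 : Nat.card P6 = 720 := by
  rw [Nat.card_eq_fintype_card, Fintype.card_perm, Fintype.card_fin]
  rfl

theorem plane_fix : ∀ a b : ZMod 3, sg 2 (a, b, 0) = ((a, b, 0) : V3) := by decide +kernel

theorem sg2_fix : ∀ w : V3, (sg 2 w = w → w.2.2 = 0) ∧ (w.2.2 = 0 → sg 2 w = w) := by decide +kernel

theorem mT_plane : ∀ w : V3, (mT w).2.2 = 0 ↔ w.2.2 = 0 := by decide +kernel

theorem mT_mT : ∀ w : V3, mT (mT w) = w := by decide +kernel

theorem sg0_plane : ∀ w : V3, (sg 0 w).2.2 = 0 ↔ w.2.2 = 0 := by decide +kernel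

theorem plane_imgs : mT (1, 0, 0) = (0, 1, 0) ∧ mT (-(1, 0, 0)) = -(0, 1, 0) ∧
    sg 0 (-(1, 1, 0)) = (1, 2, 0) ∧ sg 0 (1, 1, 0) = -(1, 2, 0) := by decide +kernel

theorem ne100 : ((1, 0, 0) : V3) ≠ 0 := by decide

theorem line_ne : ((0, 0, 1) : V3) ≠ 0 := by decide

namespace Conf

variable {G : Type*} [Group G] [Finite G] {T : Conf G}

theorem card_conj_cent (g x : G) :
    Nat.card (Subgroup.centralizer ({g * x * g⁻¹} : Set G)) = Nat.card (Subgroup.centralizer ({x} : Set G)) := by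
  refine Nat.card_congr ((MulAut.conj g).toEquiv.subtypeEquiv fun y => ?_).symm
  simp only [Subgroup.mem_centralizer_singleton_iff, MulEquiv.toEquiv_eq_coe, MulEquiv.coe_toEquiv,
    MulAut.conj_apply]
  constructor
  · intro h
    rw [conj_mul, conj_mul, h]
  · intro h
    rw [conj_mul, conj_mul] at h
    exact mul_left_cancel (mul_right_cancel h)

theorem card_centQ_neg (v : V3) : Nat.card (T.centQ (-v)) = Nat.card (T.centQ v) := by
  refine Nat.card_congr (Equiv.subtypeEquivRight fun y => ?_)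
  rw [mem_centQ, mem_centQ, T.q_neg]
  exact ⟨fun h => by simpa using (show Commute y (T.q v)⁻¹ from h).inv_right.eq,
    fun h => (show Commute y (T.q v) from h).inv_right.eq⟩

theorem card_centQ_map {g : G} {f : V3 → V3} (hg : T.Acts g f) (v : V3) :
    Nat.card (T.centQ (f v)) = Nat.card (T.centQ v) := by
  show Nat.card (Subgroup.centralizer ({T.q (f v)} : Set G)) = _
  rw [← hg v]
  exact card_conj_cent g (T.q v)

theorem card_centQ_dia : Nat.card (T.centQ dia) = 162 := by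
  rw [centQ, T.q_dia, a, ← T.range_eq, ← Nat.card_congr (MonoidHom.ofInjective T.inj).toEquiv, card_Wr]

namespace Cpl

variable (C : Cpl T)

/-- Being conjugate to the third reflection. -/
def Tr (u : G) : Prop := ∃ g, g * u * g⁻¹ = C.d 2

theorem Tr.conj {u : G} (h : C.Tr u) (g : G) : C.Tr (g * u * g⁻¹) := by
  obtain ⟨k, hk⟩ := h
  exact ⟨k * g⁻¹, by rw [← hk]; group⟩

theorem Tr.unconj {u : G} (g : G) (h : C.Tr (g * u * g⁻¹)) : C.Tr u := by
  have := Tr.conj C h g⁻¹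
  rwa [show g⁻¹ * (g * u * g⁻¹) * g⁻¹⁻¹ = u by group] at this

theorem Tr.d2 : C.Tr (C.d 2) := ⟨1, by group⟩

theorem Tr.ne_one {u : G} (h : C.Tr u) : u ≠ 1 := by
  rintro rfl
  obtain ⟨g, hg⟩ := h
  have h1 := C.d_acts 2 (0, 0, 1)
  rw [← hg, show g * 1 * g⁻¹ = 1 by group, one_mul, inv_one, mul_one] at h1
  exact absurd (T.q_inj h1) (by decide +kernel)

/-- The elements of the normaliser fixing the pair axis. -/
theorem pair_form (hF : T.Framed .eight) (hpair : T.centQ (1, 1, 0) ≤ Subgroup.normalizer (T.J : Set G)) {x : G}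
    (hx : x * T.q (1, 1, 0) = T.q (1, 1, 0) * x) :
    ∃ (u : V3) (i j : Fin 2), x = T.q u * (T.φ tm ^ i.1 * C.d 2 ^ j.1) := by
  obtain ⟨p, -, hp⟩ := hF.dir x (hpair (mem_centQ.2 hx))
  obtain ⟨i, j, hij⟩ := pair_stab p ((Acts.comm_iff T hp).1 hx)
  have hit : ∀ (g : G) (f : V3 → V3), T.Acts g f → ∀ n : ℕ, T.Acts (g ^ n) f^[n] := by
    intro g f hg n
    induction n with
    | zero => rw [pow_zero]; exact T.acts_of_mem T.J.one_mem
    | succ n ih =>
      rw [pow_succ']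
      exact Acts.congr (Acts.mul T hg ih) fun v => (Function.iterate_succ_apply' f n v).symm
  have hg : T.Acts (T.φ tm ^ i.1 * C.d 2 ^ j.1) (smap p) :=
    Acts.congr (Acts.mul T (hit _ _ tm_acts _) (hit _ _ (C.d_acts 2) _)) fun v => (hij v).symm
  obtain ⟨u, hu⟩ := Acts.ext_id hp hg
  exact ⟨smap p u, i, j, by rw [hu, Acts.comm T hg]⟩

theorem four_acts (i j : Fin 2) : T.Acts (T.φ tm ^ i.1 * C.d 2 ^ j.1) fun v => mT^[i.1] ((sg 2)^[j.1] v) := by
  have e : ∀ (g : G) (f : V3 → V3), T.Acts g f → ∀ k : Fin 2, T.Acts (g ^ k.1) f^[k.1] := by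
    intro g f hg k
    fin_cases k
    · simpa using T.acts_of_mem T.J.one_mem
    · simpa using hg
  exact Acts.mul T (e _ _ tm_acts i) (e _ _ (C.d_acts 2) j)

include C in
theorem card_pair (hF : T.Framed .eight) (hpair : T.centQ (1, 1, 0) ≤ Subgroup.normalizer (T.J : Set G)) :
    Nat.card (T.centQ (1, 1, 0)) = 108 := by
  let e : V3 × Fin 2 × Fin 2 → T.centQ (1, 1, 0) := fun w =>
    ⟨T.q w.1 * (T.φ tm ^ w.2.1.1 * C.d 2 ^ w.2.2.1), Subgroup.mul_mem _ (T.J_le_centQ _ (T.q_mem _))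
      (mem_centQ.2 ((Acts.comm_iff T (C.four_acts w.2.1 w.2.2)).2 (four_fix _ _)))⟩
  have he : Function.Bijective e := by
    constructor
    · rintro ⟨u, i, j⟩ ⟨u', i', j'⟩ h
      have h' : T.q u * (T.φ tm ^ i.1 * C.d 2 ^ j.1) = T.q u' * (T.φ tm ^ i'.1 * C.d 2 ^ j'.1) :=
        congrArg Subtype.val h
      have a1 := Acts.mul T (T.acts_of_mem (T.q_mem u)) (C.four_acts i j)
      rw [h'] at a1
      have a2 := Acts.mul T (T.acts_of_mem (T.q_mem u')) (C.four_acts i' j')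
      obtain ⟨rfl, rfl⟩ := four_inj i j i' j' fun v => T.q_inj ((a1 v).symm.trans (a2 v))
      rw [T.q_inj (mul_right_cancel h')]
    · rintro ⟨x, hx⟩
      obtain ⟨u, i, j, rfl⟩ := C.pair_form hF hpair (mem_centQ.1 hx)
      exact ⟨(u, i, j), rfl⟩
  rw [← Nat.card_congr (Equiv.ofBijective e he)]
  simp only [Nat.card_eq_fintype_card, Fintype.card_prod, ZMod.card, Fintype.card_fin]

namespace Label

variable {C} (hL : C.Label)
include hL

theorem card_comap_π (H : Subgroup P6) : Nat.card (H.comap hL.π) = 3 * Nat.card H := by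
  have h3 : Nat.card hL.π.ker = 3 := by
    rw [hL.ker, lineQ, Nat.card_congr (Subgroup.subgroupOfEquivOfLe
      (Subgroup.zpowers_le.2 (T.J_le_centQ _ (T.q_mem _)))).toEquiv, Nat.card_zpowers]
    exact orderOf_eq_prime (T.q_cube _) fun h => line_ne (T.q_inj (h.trans T.q_zero.symm))
  have h1 := (H.comap hL.π).card_mul_index
  rw [Subgroup.index_comap_of_surjective _ hL.surj] at h1
  have h2 := hL.π.ker.card_mul_index
  rw [Subgroup.index_ker, MonoidHom.range_eq_top.2 hL.surj, Subgroup.card_top, h3] at h2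
  have h4 := H.card_mul_index
  have hi : H.index ≠ 0 := Subgroup.index_ne_zero_of_finite
  refine Nat.eq_of_mul_eq_mul_right (Nat.pos_of_ne_zero hi) ?_
  rw [h1, mul_assoc, h4, h2]

theorem card_axis : Nat.card (T.centQ (0, 0, 1)) = 2160 := by
  have := hL.card_comap_π ⊤
  rw [Subgroup.comap_top, Subgroup.card_top, Subgroup.card_top, card_P6] at this
  rw [this]

theorem card_plane (hF : T.Framed .eight) (hpair : T.centQ (1, 1, 0) ≤ Subgroup.normalizer (T.J : Set G))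
    (v : V3) (hv : v.2.2 = 0) (hv0 : v ≠ 0) :
    Nat.card (T.centQ v) = 2160 ∨ Nat.card (T.centQ v) = 108 := by
  have h1 : Nat.card (T.centQ (1, 0, 0)) = 2160 := by
    rw [← hL.card_axis, ← card_centQ_map sm_acts (0, 0, 1)]
    rfl
  have h2 : Nat.card (T.centQ (0, 1, 0)) = 2160 := by
    rw [← h1, ← card_centQ_map sm_acts (1, 0, 0)]
    rfl
  have h3 : Nat.card (T.centQ (1, 2, 0)) = 108 := by
    rw [← C.card_pair hF hpair, ← card_centQ_neg (T := T) (1, 2, 0), ← card_centQ_map (C.d_acts 0) (1, 1, 0)]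
    rfl
  rcases plane_cases v hv hv0 with rfl | rfl | rfl | rfl | rfl | rfl | rfl | rfl <;>
    simp only [card_centQ_neg, h1, h2, h3, C.card_pair hF hpair, true_or, or_true]

/-- Elements of three-power order in the centraliser of the reflection and of an axis in the plane. -/
theorem axis_three {x : G} {k : ℕ} (hk : x ^ 3 ^ k = 1) (hd : x * C.d 2 = C.d 2 * x)
    (hx : x * T.q (1, 0, 0) = T.q (1, 0, 0) * x) (hn : ∃ v : V3, v.2.2 = 0 ∧ x * T.q (0, 1, 0) * x⁻¹ = T.q v) :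
    ∃ v : V3, v.2.2 = 0 ∧ x = T.q v := by
  set S := T.φ sm
  set y := S⁻¹ * x * S with hy
  have hq : ∀ v, S⁻¹ * T.q (mU v) * S = T.q v := fun v => by
    rw [show T.q (mU v) = S * T.q v * S⁻¹ from (T.sm_act' v).symm]
    group
  have hyC : y ∈ T.centQ (0, 0, 1) := by
    rw [mem_centQ, ← hq, show mU (0, 0, 1) = ((1, 0, 0) : V3) from rfl, hy]
    calc S⁻¹ * x * S * (S⁻¹ * T.q (1, 0, 0) * S) = S⁻¹ * (x * T.q (1, 0, 0)) * S := by group
      _ = _ := by rw [hx]; group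
  set Y : T.centQ (0, 0, 1) := ⟨y, hyC⟩
  have hw : hL.π Y * w2 = w2 * hL.π Y := by
    rw [← hL.r2, ← map_mul, ← map_mul]
    refine congrArg hL.π (Subtype.ext ?_)
    show y * C.d 1 = C.d 1 * y
    have e : S⁻¹ * C.d 2 * S = C.d 1 := by rw [show C.d 2 = S * C.d 1 * S⁻¹ from (C.sh_d 1).symm]; group
    rw [← e, hy]
    calc S⁻¹ * x * S * (S⁻¹ * C.d 2 * S) = S⁻¹ * (x * C.d 2) * S := by group
      _ = _ := by rw [hd]; group
  obtain ⟨v, hv, hxv⟩ := hn
  obtain ⟨u, hu, rfl⟩ : ∃ u : V3, u.2.1 = 0 ∧ mU u = v :=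
    ⟨(v.2.1, v.2.2, v.1), hv, rfl⟩
  have hconj : Y * T.qc (1, 0, 0) * Y⁻¹ = T.qc u := Subtype.ext (by
    show y * T.q (1, 0, 0) * y⁻¹ = T.q u
    rw [← hq (1, 0, 0), ← hq u, ← hxv, hy, show mU (1, 0, 0) = ((0, 1, 0) : V3) from rfl]
    group)
  have hnorm : hL.π Y * s1 * (hL.π Y)⁻¹ = s1 ∨ hL.π Y * s1 * (hL.π Y)⁻¹ = s1 * s1 := by
    have h1 := congrArg hL.π hconj
    rw [map_mul, map_mul, map_inv, hL.e1] at h1
    have hdec : ∀ u : V3, u.2.1 = 0 → u = u.1 • ((1, 0, 0) : V3) + u.2.2 • ((0, 0, 1) : V3) := by decide +kernel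
    rw [hdec u hu, qc_add, map_mul, hL.π_line, mul_one] at h1
    rcases (by decide : ∀ i : ZMod 3, i = 0 ∨ i = 1 ∨ i = 2) u.1 with e | e | e
    · exfalso
      rw [e, zero_smul, show T.qc 0 = 1 from Subtype.ext T.q_zero, map_one, conj_eq_one_iff] at h1
      revert h1
      decide +kernel
    · rw [e, one_smul, hL.e1] at h1; exact Or.inl h1
    · rw [e, two_smul, qc_add, map_mul, hL.e1] at h1; exact Or.inr h1
  have h9 : hL.π Y ^ 9 = 1 := by
    have hyk : y ^ 3 ^ k = 1 := by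
      rw [hy, show S⁻¹ * x * S = S⁻¹ * x * S⁻¹⁻¹ by group, conj_pow, hk]; group
    have hYk : hL.π Y ^ 3 ^ k = 1 := by
      rw [← map_pow, show Y ^ 3 ^ k = 1 from Subtype.ext (by rw [SubgroupClass.coe_pow]; exact hyk), map_one]
    obtain ⟨m, -, hm⟩ := (Nat.dvd_prime_pow Nat.prime_three).1 (orderOf_dvd_iff_pow_eq_one.2 hYk)
    have h720 : 3 ^ m ∣ 720 := hm ▸ card_P6 ▸ orderOf_dvd_natCard _
    have hm2 : m ≤ 2 := by
      by_contra h
      have h27 := (pow_dvd_pow 3 (show 3 ≤ m by omega)).trans h720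
      norm_num at h27
    rw [← orderOf_dvd_iff_pow_eq_one, hm, show (9 : ℕ) = 3 ^ 2 from rfl]
    exact pow_dvd_pow 3 hm2
  obtain ⟨a, ha⟩ := axis_norm _ hw hnorm h9
  obtain ⟨b, hb⟩ := hL.π_one (x := (T.qc (1, 0, 0) ^ a.val)⁻¹ * Y)
    (by rw [map_mul, map_inv, map_pow, hL.e1, ← ha, inv_mul_cancel])
  have hY : Y = T.qc (1, 0, 0) ^ a.val * T.qc (b • (0, 0, 1)) := by rw [← hb, mul_inv_cancel_left]
  refine ⟨mU ((a.val : ZMod 3) • (1, 0, 0) + b • (0, 0, 1)), ?_, ?_⟩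
  · exact (by decide +kernel : ∀ i j : ZMod 3, (mU (i • ((1, 0, 0) : V3) + j • ((0, 0, 1) : V3))).2.2 = 0) _ _
  · have h1 : y = T.q (1, 0, 0) ^ a.val * T.q (b • (0, 0, 1)) := by
      have := congrArg Subtype.val hY
      rw [Subgroup.coe_mul, SubgroupClass.coe_pow] at this
      exact this
    have hv' : T.q (1, 0, 0) ^ a.val = T.q ((a.val : ZMod 3) • (1, 0, 0)) := by
      rw [T.q_smul, ZMod.val_natCast, Nat.mod_eq_of_lt a.isLt]
    rw [hv', ← T.q_add] at h1
    rw [← T.sm_act', ← h1, hy]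
    show x = S * (S⁻¹ * x * S) * S⁻¹
    group

/-- The structure of the centraliser of the reflection at three. -/
theorem three_elem (hF : T.Framed .eight) (hpair : T.centQ (1, 1, 0) ≤ Subgroup.normalizer (T.J : Set G)) {x : G}
    (hx3 : x ^ 3 = 1) (hd : x * C.d 2 = C.d 2 * x) :
    ∃ g, g * C.d 2 = C.d 2 * g ∧ ∃ v : V3, v.2.2 = 0 ∧ g * x * g⁻¹ = T.q v := by
  haveI : Fact (Nat.Prime 3) := ⟨Nat.prime_three⟩
  set D := Subgroup.centralizer ({C.d 2} : Set G) with hD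
  have hmD : ∀ {g}, g ∈ D ↔ g * C.d 2 = C.d 2 * g := Subgroup.mem_centralizer_singleton_iff
  let eh : Multiplicative (ZMod 3 × ZMod 3) →* D :=
    MonoidHom.mk' (fun w => ⟨T.q (w.toAdd.1, w.toAdd.2, 0), hmD.2 ((Acts.comm_iff T (C.d_acts 2)).2
      (plane_fix _ _)).symm⟩) fun a b =>
      Subtype.ext ((congrArg T.q (by simp)).trans (T.q_add _ _))
  have hinj : Function.Injective eh := fun a b h => by
    have h1 := T.q_inj (congrArg Subtype.val h)
    simp only [Prod.mk.injEq] at h1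
    exact Multiplicative.toAdd.injective (Prod.ext h1.1 h1.2.1)
  set E := eh.range with hEdef
  have hmE : ∀ y : D, y ∈ E ↔ ∃ v : V3, v.2.2 = 0 ∧ (y : G) = T.q v := by
    intro y
    constructor
    · rintro ⟨w, rfl⟩
      exact ⟨_, rfl, rfl⟩
    · rintro ⟨⟨a, b, c⟩, hc, hy⟩
      obtain rfl : c = 0 := hc
      exact ⟨Multiplicative.ofAdd (a, b), Subtype.ext hy.symm⟩
  have hcard : Nat.card E = 3 ^ 2 := by
    rw [hEdef, ← Nat.card_congr (MonoidHom.ofInjective hinj).toEquiv, Nat.card_congr Multiplicative.toAdd,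
      Nat.card_prod, Nat.card_zmod]
    rfl
  obtain ⟨P, hEP⟩ := (IsPGroup.of_card hcard).exists_le_sylow
  have hPE : (P : Subgroup D) ≤ E := by
    by_contra hne
    haveI := P.2.isNilpotent
    have hlt : E.subgroupOf P < ⊤ := lt_top_iff_ne_top.2 fun h => hne (Subgroup.subgroupOf_eq_top.1 h)
    obtain ⟨⟨y, hyP⟩, hyN, hyE⟩ :=
      SetLike.exists_of_lt (Group.normalizerCondition_of_isNilpotent (G := P) _ hlt)
    refine hyE ?_
    show y ∈ E
    have hnorm : ∀ z ∈ E, y * z * y⁻¹ ∈ E := fun z hz =>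
      (Subgroup.mem_normalizer_iff.1 hyN ⟨z, hEP hz⟩).1 hz
    obtain ⟨k, hk⟩ := P.2 ⟨y, hyP⟩
    have hyk : (y : G) ^ 3 ^ k = 1 := by
      have := congrArg (fun z : P => ((z : D) : G)) hk
      simpa using this
    -- a fixed vector
    haveI : Nontrivial P := by
      refine Finite.one_lt_card_iff_nontrivial.1 ?_
      have := Subgroup.card_le_of_le hEP
      rw [hcard] at this
      omega
    haveI hZn : Nontrivial (Subgroup.center P) := P.2.center_nontrivial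
    obtain ⟨⟨ζ, hζc⟩, hζ1⟩ := exists_ne (1 : Subgroup.center P)
    have hcomm : ∀ z : P, (z : D) * (ζ : D) = (ζ : D) * (z : D) := fun z =>
      congrArg Subtype.val (Subgroup.mem_center_iff.1 hζc z)
    -- the pieces of an element of three-power order centralising a vector of the plane
    have hkey : ∀ (z : G) (n : ℕ), z ^ 3 ^ n = 1 → z * C.d 2 = C.d 2 * z →
        (∀ v : V3, v.2.2 = 0 → ∃ v' : V3, v'.2.2 = 0 ∧ z * T.q v * z⁻¹ = T.q v') →
        ∀ v : V3, v.2.2 = 0 → v ≠ 0 → z * T.q v = T.q v * z → ∃ w : V3, w.2.2 = 0 ∧ z = T.q w := by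
      intro z n hn hzd hzN v hv hv0 hzv
      have hconjcase : ∀ (g : G) (f : V3 → V3), T.Acts g f → g * C.d 2 = C.d 2 * g →
          (∀ w : V3, (f w).2.2 = 0 ↔ w.2.2 = 0) → (∀ w : V3, ∃ w', f w' = w) →
          ∀ w0 : V3, f w0 = v → (∀ z' : G, z' ^ 3 ^ n = 1 → z' * C.d 2 = C.d 2 * z' →
            (∀ v : V3, v.2.2 = 0 → ∃ v' : V3, v'.2.2 = 0 ∧ z' * T.q v * z'⁻¹ = T.q v') →
            z' * T.q w0 = T.q w0 * z' → ∃ w : V3, w.2.2 = 0 ∧ z' = T.q w) → ∃ w : V3, w.2.2 = 0 ∧ z = T.q w := by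
        intro g f hg hgd hf hfs w0 hw0 H
        obtain ⟨w, hw, hz'⟩ := H (g⁻¹ * z * g)
          (by rw [show g⁻¹ * z * g = g⁻¹ * z * g⁻¹⁻¹ by group, conj_pow, hn]; group)
          (((show Commute g (C.d 2) from hgd).inv_left.mul_left hzd).mul_left hgd).eq
          (fun u hu => by
            obtain ⟨u', hu', he⟩ := hzN (f u) ((hf u).2 hu)
            obtain ⟨u'', rfl⟩ := hfs u'
            refine ⟨u'', (hf u'').1 hu', ?_⟩
            rw [show g⁻¹ * z * g * T.q u * (g⁻¹ * z * g)⁻¹ = g⁻¹ * (z * (g * T.q u * g⁻¹) * z⁻¹) * g by group,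
              hg, he, ← hg]
            group)
          (by
            have e := hzv
            rw [← hw0, ← hg] at e
            calc g⁻¹ * z * g * T.q w0 = g⁻¹ * (z * (g * T.q w0 * g⁻¹)) * g := by group
              _ = _ := by rw [e]; group)
        refine ⟨f w, (hf w).2 hw, ?_⟩
        rw [← hg, ← hz']
        group
      have hneg : ∀ w : V3, z * T.q (-w) = T.q (-w) * z → z * T.q w = T.q w * z := fun w h => by
        rw [T.q_neg] at h
        simpa using (show Commute z (T.q w)⁻¹ from h).inv_right.eq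
      have base1 : ∀ z' : G, z' ^ 3 ^ n = 1 → z' * C.d 2 = C.d 2 * z' →
          (∀ v : V3, v.2.2 = 0 → ∃ v' : V3, v'.2.2 = 0 ∧ z' * T.q v * z'⁻¹ = T.q v') →
          z' * T.q (1, 0, 0) = T.q (1, 0, 0) * z' → ∃ w : V3, w.2.2 = 0 ∧ z' = T.q w :=
        fun z' h1 h2 h3 h4 => hL.axis_three h1 h2 h4 (h3 (0, 1, 0) rfl)
      have base2 : ∀ z' : G, z' ^ 3 ^ n = 1 → z' * C.d 2 = C.d 2 * z' →
          (∀ v : V3, v.2.2 = 0 → ∃ v' : V3, v'.2.2 = 0 ∧ z' * T.q v * z'⁻¹ = T.q v') →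
          z' * T.q (1, 1, 0) = T.q (1, 1, 0) * z' → ∃ w : V3, w.2.2 = 0 ∧ z' = T.q w := by
        intro z' h1 h2 _ h4
        obtain ⟨u, i, j, hu⟩ := C.pair_form hF hpair h4
        have hA := Acts.mul T (T.acts_of_mem (T.q_mem u)) (C.four_acts i j)
        rw [← hu] at hA
        have h2' : T.Acts (z' * z') id := Acts.congr (Acts.mul T hA hA) fun v =>
          (by decide +kernel : ∀ i j : Fin 2, ∀ v : V3,
            mT^[i.1] ((sg 2)^[j.1] (mT^[i.1] ((sg 2)^[j.1] v))) = v) i j v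
        obtain ⟨m, hm⟩ := (show Odd (3 ^ n) from Odd.pow (by decide))
        have hzJ : z' ∈ T.J := by
          have e : z' ^ (2 * m + 1) = 1 := hm ▸ h1
          rw [pow_succ, pow_mul, pow_two] at e
          rw [eq_inv_of_mul_eq_one_right e]
          exact T.J.inv_mem (T.J.pow_mem (T.mem_J_of_acts h2') m)
        obtain ⟨w, rfl⟩ := T.mem_J.1 hzJ
        refine ⟨w, ?_, rfl⟩
        have := (Acts.comm_iff T (C.d_acts 2)).1 h2.symm
        exact (sg2_fix w).1 this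
      have htm : T.φ tm * C.d 2 = C.d 2 * T.φ tm := C.tau_d2
      have case1 : z * T.q (1, 0, 0) = T.q (1, 0, 0) * z → _ := base1 z hn hzd hzN
      have case2 : z * T.q (1, 1, 0) = T.q (1, 1, 0) * z → _ := base2 z hn hzd hzN
      rcases plane_cases v hv hv0 with rfl | rfl | rfl | rfl | rfl | rfl | rfl | rfl
      · exact case1 hzv
      · exact case1 (hneg _ hzv)
      · exact hconjcase _ _ tm_acts htm mT_plane (fun w => ⟨mT w, mT_mT w⟩) (1, 0, 0) plane_imgs.1 base1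
      · exact hconjcase _ _ tm_acts htm mT_plane (fun w => ⟨mT w, mT_mT w⟩) (-(1, 0, 0)) plane_imgs.2.1
          fun z' a b c e => base1 z' a b c (by
            rw [T.q_neg] at e; simpa using (show Commute z' (T.q (1, 0, 0))⁻¹ from e).inv_right.eq)
      · exact case2 hzv
      · exact case2 (hneg _ hzv)
      · exact hconjcase _ _ (C.d_acts 0) (C.d_comm 0 2) sg0_plane
          (fun w => ⟨sg 0 w, sg_facts.1 0 w⟩) (-(1, 1, 0)) plane_imgs.2.2.1
          fun z' a b c e => base2 z' a b c (by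
            rw [T.q_neg] at e; simpa using (show Commute z' (T.q (1, 1, 0))⁻¹ from e).inv_right.eq)
      · exact hconjcase _ _ (C.d_acts 0) (C.d_comm 0 2) sg0_plane
          (fun w => ⟨sg 0 w, sg_facts.1 0 w⟩) (1, 1, 0) plane_imgs.2.2.2 base2
    have hplane : ∀ (w : D), w ∈ (P : Subgroup D) → (∀ z ∈ E, w * z * w⁻¹ ∈ E) → ∀ v : V3, v.2.2 = 0 → v ≠ 0 →
        (w : G) * T.q v = T.q v * w → w ∈ E := by
      intro w hw hwn v hv hv0 hc
      obtain ⟨n, hn⟩ := P.2 ⟨w, hw⟩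
      obtain ⟨u, hu, he⟩ := hkey w n (by
          have := congrArg (fun z : P => ((z : D) : G)) hn
          simpa using this) (hmD.1 w.2) (fun v hv => by
          obtain ⟨v', hv', he⟩ := (hmE _).1 (hwn ⟨T.q v, hmD.2 ((Acts.comm_iff T (C.d_acts 2)).2
            ((sg2_fix v).2 hv)).symm⟩ ((hmE _).2 ⟨v, hv, rfl⟩))
          exact ⟨v', hv', he⟩) v hv hv0 hc
      exact (hmE _).2 ⟨u, hu, he⟩
    have hζE : (ζ : D) ∈ E := by
      have h10 : T.q (1, 0, 0) * C.d 2 = C.d 2 * T.q (1, 0, 0) :=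
        ((Acts.comm_iff T (C.d_acts 2)).2 ((sg2_fix _).2 rfl)).symm
      refine hplane _ ζ.2 (fun z hz => ?_) (1, 0, 0) rfl ne100 ?_
      · rw [← hcomm ⟨z, hEP hz⟩]
        simpa using hz
      · have h1 := hcomm ⟨⟨_, hmD.2 h10⟩, hEP ((hmE _).2 ⟨(1, 0, 0), rfl, rfl⟩)⟩
        exact (congrArg Subtype.val h1).symm
    obtain ⟨v, hv, he⟩ := (hmE _).1 hζE
    refine hplane y hyP hnorm v hv (fun h0 => hζ1 ?_) ?_
    · refine Subtype.ext (Subtype.ext (Subtype.ext ?_))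
      show ((ζ : D) : G) = 1
      rw [he, h0, T.q_zero]
    · rw [← he]
      exact congrArg Subtype.val (hcomm ⟨y, hyP⟩)
  obtain ⟨Q, hQ⟩ := (IsPGroup.iff_orderOf.2 fun z => (Nat.dvd_prime_pow Nat.prime_three).1
    ((orderOf_dvd_natCard z).trans (show Nat.card (Subgroup.zpowers (⟨x, hmD.2 hd⟩ : D)) ∣ 3 ^ 1 by
      rw [Nat.card_zpowers, pow_one]
      exact orderOf_dvd_of_pow_eq_one (Subtype.ext hx3)))
    |>.imp fun _ h => h.2 : IsPGroup 3 (Subgroup.zpowers (⟨x, hmD.2 hd⟩ : D))).exists_le_sylow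
  obtain ⟨g, hg⟩ := MulAction.exists_smul_eq D Q P
  have hm : g * ⟨x, hmD.2 hd⟩ * g⁻¹ ∈ E := hPE (by
    rw [← hg, Sylow.coe_subgroup_smul]
    exact ⟨_, hQ (Subgroup.mem_zpowers _), rfl⟩)
  obtain ⟨v, hv, he⟩ := (hmE _).1 hm
  exact ⟨g, hmD.1 g.2, v, hv, he⟩

/-- The elements of order three centralising a member of the class. -/
theorem Tr_three (hF : T.Framed .eight) (hpair : T.centQ (1, 1, 0) ≤ Subgroup.normalizer (T.J : Set G)) {u : G}
    (hu : C.Tr u) {x : G} (hx3 : x ^ 3 = 1) (hxu : x * u = u * x) :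
    ∃ (g : G) (v : V3), v.2.2 = 0 ∧ g * u * g⁻¹ = C.d 2 ∧ g * x * g⁻¹ = T.q v := by
  obtain ⟨k, hk⟩ := hu
  obtain ⟨g, hg, v, hv, he⟩ := hL.three_elem hF hpair (x := k * x * k⁻¹) (by rw [conj_pow, hx3]; group)
    (by rw [← hk, conj_mul, conj_mul, hxu])
  refine ⟨g * k, v, hv, ?_, ?_⟩
  · rw [show g * k * u * (g * k)⁻¹ = g * (k * u * k⁻¹) * g⁻¹ by group, hk, hg, mul_inv_cancel_right]
  · rw [← he]; group

/-- First test: an element commuting with the central element of order three is outside the class. -/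
theorem not_Tr_of_a (hF : T.Framed .eight) (hpair : T.centQ (1, 1, 0) ≤ Subgroup.normalizer (T.J : Set G)) {u : G}
    (h : T.a * u = u * T.a) : ¬ C.Tr u := by
  intro hu
  obtain ⟨g, v, hv, -, hx⟩ := hL.Tr_three hF hpair hu T.a_cube h
  have hv0 : v ≠ 0 := by
    rintro rfl
    rw [T.q_zero, conj_eq_one_iff] at hx
    exact T.a_ne hx
  have h1 : Nat.card (T.centQ v) = 162 := by
    rw [← card_centQ_dia (T := T), centQ, centQ, ← hx, card_conj_cent, T.q_dia]
  rcases hL.card_plane hF hpair v hv hv0 with e | e <;> omega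

/-- Second test: an element commuting with the shift is outside the class. -/
theorem not_Tr_of_sm (hF : T.Framed .eight) (hpair : T.centQ (1, 1, 0) ≤ Subgroup.normalizer (T.J : Set G)) {u : G}
    (h : T.φ sm * u = u * T.φ sm) : ¬ C.Tr u := by
  classical
  haveI : Fact (Nat.Prime 3) := ⟨Nat.prime_three⟩
  intro hu
  obtain ⟨g, v, hv, -, hx⟩ := hL.Tr_three hF hpair hu (x := T.φ sm)
    (by rw [pow_succ, pow_two, ← map_mul, ← map_mul, sm_cube, map_one]) h
  have hv0 : v ≠ 0 := by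
    rintro rfl
    rw [T.q_zero, conj_eq_one_iff, ← map_one T.φ] at hx
    exact absurd (T.inj hx) (by decide +kernel)
  have hmem : g * T.a * g⁻¹ ∈ T.centQ v := by
    rw [mem_centQ, ← hx, conj_mul, conj_mul, show T.a * T.φ sm = T.φ sm * T.a by
      rw [a, ← map_mul, ← map_mul, cc_comm]]
  set X := T.centQ v
  have hJX : T.J ≤ X := T.J_le_centQ v
  have hJc : Nat.card (T.J.subgroupOf X) = 27 := by
    rw [Nat.card_congr (Subgroup.subgroupOfEquivOfLe hJX).toEquiv, T.card_J]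
  have hidx : ¬ 3 ∣ (T.J.subgroupOf X).index := by
    have h1 := (T.J.subgroupOf X).card_mul_index
    rw [hJc] at h1
    intro h3
    rcases hL.card_plane hF hpair v hv hv0 with e | e <;> rw [e] at h1 <;> omega
  have hp : IsPGroup 3 (T.J.subgroupOf X) := IsPGroup.of_card (n := 3) (by rw [hJc]; norm_num)
  set x0 : X := ⟨g * T.a * g⁻¹, hmem⟩
  have hx0 : x0 ^ 3 = 1 := Subtype.ext (by
    show (g * T.a * g⁻¹) ^ 3 = 1
    rw [conj_pow, T.a_cube]; group)
  have hp0 : IsPGroup 3 (Subgroup.zpowers x0) := by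
    intro z
    obtain ⟨i, hi⟩ := Subgroup.mem_zpowers_iff.1 z.2
    refine ⟨1, Subtype.ext ?_⟩
    rw [SubgroupClass.coe_pow, ← hi, pow_one, ← zpow_natCast, ← zpow_mul, mul_comm, zpow_mul, zpow_natCast, hx0,
      one_zpow]
    rfl
  obtain ⟨Q, hQ⟩ := hp0.exists_le_sylow
  obtain ⟨h', hh'⟩ := MulAction.exists_smul_eq X Q (hp.toSylow hidx)
  have hm : h' * x0 * h'⁻¹ ∈ ((hp.toSylow hidx : Sylow 3 X) : Subgroup X) := by
    rw [← hh', Sylow.coe_subgroup_smul]
    exact ⟨_, hQ (Subgroup.mem_zpowers _), rfl⟩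
  have hJ : (h' : G) * (g * T.a * g⁻¹) * (h' : G)⁻¹ ∈ T.J := hm
  set k := (h' : G) * g
  have ka : k * T.a * k⁻¹ ∈ T.J := by
    rw [show k * T.a * k⁻¹ = (h' : G) * (g * T.a * g⁻¹) * (h' : G)⁻¹ from by show ↑h' * g * T.a * (↑h' * g)⁻¹ = _; group]
    exact hJ
  have ks : k * T.φ sm * k⁻¹ = T.q v := by
    rw [show k * T.φ sm * k⁻¹ = (h' : G) * (g * T.φ sm * g⁻¹) * (h' : G)⁻¹ from by
      show ↑h' * g * T.φ sm * (↑h' * g)⁻¹ = _; group, hx,
      mem_centQ.1 h'.2, mul_inv_cancel_right]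
  have hcj : ∀ w : V3, k⁻¹ * T.q w * k ∈ T.φ.range ∧
      (k⁻¹ * T.q w * k) * T.φ sm = T.φ sm * (k⁻¹ * T.q w * k) := by
    intro w
    refine ⟨T.cent_a.1 ?_, ?_⟩
    · calc k⁻¹ * T.q w * k * T.a = k⁻¹ * (T.q w * (k * T.a * k⁻¹)) * k := by group
        _ = _ := by rw [T.J_comm (T.q_mem w) ka]; group
    · calc k⁻¹ * T.q w * k * T.φ sm = k⁻¹ * (T.q w * (k * T.φ sm * k⁻¹)) * k := by group
        _ = _ := by rw [ks, T.q_comm]; rw [← ks]; group
  have hcount : Fintype.card V3 ≤ (Finset.univ.filter fun m : Wr => m * sm = sm * m).card := by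
    rw [← Finset.card_univ]
    refine Finset.card_le_card_of_injOn (fun w => (hcj w).1.choose) (fun w _ => ?_) fun w _ w' _ e => ?_
    · simp only [Finset.coe_filter, Finset.mem_univ, true_and, Set.mem_setOf_eq]
      refine T.inj ?_
      rw [map_mul, map_mul, (hcj w).1.choose_spec]
      exact (hcj w).2
    · have e' := congrArg T.φ e
      simp only [(hcj w).1.choose_spec, (hcj w').1.choose_spec] at e'
      exact T.q_inj (mul_left_cancel (mul_right_cancel e'))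
  rw [sm_cent_count] at hcount
  revert hcount
  decide +kernel

/-- Third test: nine elements of cube one centralise a member of the class and such an element. -/
theorem nine_cent (hF : T.Framed .eight) (hpair : T.centQ (1, 1, 0) ≤ Subgroup.normalizer (T.J : Set G)) {u : G}
    (hu : C.Tr u) {x : G} (hx3 : x ^ 3 = 1) (hxu : x * u = u * x) :
    ∃ f : ZMod 3 × ZMod 3 → G, Function.Injective f ∧
      ∀ w, f w ^ 3 = 1 ∧ f w * x = x * f w ∧ f w * u = u * f w := by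
  obtain ⟨g, v, hv, hgu, hgx⟩ := hL.Tr_three hF hpair hu hx3 hxu
  refine ⟨fun w => g⁻¹ * T.q (w.1, w.2, 0) * g, fun a b e => ?_, fun w => ⟨?_, ?_, ?_⟩⟩
  · have := T.q_inj (mul_left_cancel (mul_right_cancel e))
    simp only [Prod.mk.injEq] at this
    exact Prod.ext this.1 this.2.1
  · show (g⁻¹ * T.q _ * g) ^ 3 = 1
    rw [show g⁻¹ * T.q (w.1, w.2, 0) * g = g⁻¹ * T.q (w.1, w.2, 0) * g⁻¹⁻¹ by group, conj_pow, T.q_cube]
    group
  · calc g⁻¹ * T.q _ * g * x = g⁻¹ * (T.q (w.1, w.2, 0) * (g * x * g⁻¹)) * g := by group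
      _ = _ := by rw [hgx, T.q_comm]; rw [← hgx]; group
  · have hc : T.q (w.1, w.2, 0) * C.d 2 = C.d 2 * T.q (w.1, w.2, 0) :=
      ((Acts.comm_iff T (C.d_acts 2)).2 (plane_fix _ _)).symm
    calc g⁻¹ * T.q _ * g * u = g⁻¹ * (T.q (w.1, w.2, 0) * (g * u * g⁻¹)) * g := by group
      _ = _ := by rw [hgu, hc]; rw [← hgu]; group

end Label

end Cpl

end Conf

end Cfsg.Agent.Spor.SymNine
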