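import Cfsg.Agent.Lib.Spor.SymNine.Frame
import Cfsg.Agent.Lib.Lie.PSpFourThreeFull.AxisLabel

/-!
The big case: a canonical complement to the base in its normaliser, and coordinates on the centraliser of the
third axis.
-/

set_option autoImplicit false
set_option linter.unusedSectionVars false
set_option maxRecDepth 100000
set_option synthInstance.maxSize 4096
set_option synthInstance.maxHeartbeats 200000

namespace Cfsg.Agent.Spor.SymNine

open Cfsg.Agent.Lie.PSpFourThreeAmalgam (V3 mU mT)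
open Cfsg.Agent.Lie.PSpFourThreeFull (six dia smap)
open Cfsg.Agent.Lie.PSpFourThreeFull.Axis (P6 s1 s2 w1 w2 tau)
open Equiv

/-- The sign change at one coordinate. -/
def sg : Fin 3 → V3 → V3
  | 0, v => (-v.1, v.2.1, v.2.2)
  | 1, v => (v.1, -v.2.1, v.2.2)
  | 2, v => (v.1, v.2.1, -v.2.2)

theorem sg_smap : ∀ k : Fin 3, ∃ p : Fin 24 × Bool, ∀ v, smap p v = sg k v := by decide +kernel

theorem neg_smap : ∃ p : Fin 24 × Bool, ∀ v, smap p v = -v := ⟨(0, false), by decide +kernel⟩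

theorem sg_facts : (∀ k v, sg k (sg k v) = v) ∧ (∀ k l v, sg k (sg l v) = sg l (sg k v)) ∧
    (∀ v, sg 0 (sg 1 (sg 2 v)) = -v) ∧ (∀ k v, mU (sg k v) = sg (k + 1) (mU v)) ∧
    (∀ v, mT (sg 0 v) = sg 1 (mT v)) ∧ (∀ v, mT (sg 2 v) = sg 2 (mT v)) := by decide +kernel

theorem norm_zero : ∀ c : V3, c + mU c + mU (mU c) = 0 → ∃ u : V3, mU u + c = u := by decide +kernel

theorem fixed_zero : ∀ c : V3, mU c = c → c + mT c = 0 → c = 0 := by decide +kernel

theorem halve : ∀ c : V3, c + c + c = 0 ∧ c + c = -c := by decide +kernel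

theorem tm_sm : tm * sm * tm⁻¹ = sm⁻¹ := by decide +kernel

namespace Conf

variable {G : Type*} [Group G] [Finite G] {T : Conf G}

theorem Acts.ext_id {g h : G} {f : V3 → V3} (hg : T.Acts g f) (hh : T.Acts h f) : ∃ u, g = h * T.q u := by
  have : T.Acts (h⁻¹ * g) id := fun v => by
    rw [show h⁻¹ * g * T.q v * (h⁻¹ * g)⁻¹ = h⁻¹ * (g * T.q v * g⁻¹) * h by group, hg, ← hh]
    show _ = T.q v
    group
  obtain ⟨u, hu⟩ := T.mem_J.1 (T.mem_J_of_acts this)
  exact ⟨u, by rw [hu, mul_inv_cancel_left]⟩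

theorem Acts.congr {g : G} {f e : V3 → V3} (hg : T.Acts g f) (h : ∀ v, f v = e v) : T.Acts g e := fun v => by
  rw [hg, h]

theorem sm_acts : T.Acts (T.φ sm) mU := T.sm_act'

theorem tm_acts : T.Acts (T.φ tm) mT := T.tm_act'

theorem Acts.push {g : G} {f : V3 → V3} (hg : T.Acts g f) (v : V3) (x : G) :
    g * (T.q v * x) * g⁻¹ = T.q (f v) * (g * x * g⁻¹) := by
  rw [← hg]
  group

/-- A central involution of a complement to the base. -/
theorem exists_centre (hF : T.Framed .eight) : ∃ Z : G, T.Acts Z (fun v => -v) ∧ Z * Z = 1 ∧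
    T.φ sm * Z = Z * T.φ sm ∧ T.φ tm * Z = Z * T.φ tm := by
  obtain ⟨p, hp⟩ := neg_smap
  obtain ⟨g₀, hg₀⟩ := hF.all p trivial
  have h0 : T.Acts g₀ (fun v => -v) := Acts.congr hg₀ hp
  have hsq : ∀ g, T.Acts g (fun v : V3 => -v) → g * g = 1 := by
    intro g hg
    have h2 : T.Acts (g * g) id := Acts.congr (Acts.mul T hg hg) fun v => neg_neg v
    obtain ⟨w, hw⟩ := T.mem_J.1 (T.mem_J_of_acts h2)
    have h3 : g * T.q w * g⁻¹ = T.q w := by rw [hw]; group
    rw [hg] at h3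
    have h4 := T.q_inj h3
    rw [← hw, show w = 0 by revert h4; exact (by decide +kernel : ∀ w : V3, -w = w → w = 0) w, T.q_zero]
  have hconj : ∀ (g : G) (f : V3 → V3), T.Acts g f → (∀ v, f (-v) = -f v) →
      ∀ x, T.Acts x (fun v : V3 => -v) → ∃ c, g * x * g⁻¹ = T.q c * x := by
    intro g f hg hf x hx
    have h1 : T.Acts (g * x * g⁻¹) fun v : V3 => -v := fun v => by
      obtain ⟨u, rfl⟩ : ∃ u, f u = v := by
        have hinj : Function.Injective f := fun a b h => T.q_inj (mul_left_cancel (mul_right_cancel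
          ((hg a).trans ((congrArg T.q h).trans (hg b).symm))))
        exact Finite.injective_iff_surjective.1 hinj v
      show _ = T.q (-(f u))
      rw [← hf, ← hg u, show g * x * g⁻¹ * (g * T.q u * g⁻¹) * (g * x * g⁻¹)⁻¹ = g * (x * T.q u * x⁻¹) * g⁻¹ by group,
        hx, hg]
    obtain ⟨u, hu⟩ := Acts.ext_id h1 hx
    refine ⟨-u, ?_⟩
    rw [hu, Acts.comm T hx]
  obtain ⟨c, hc⟩ := hconj _ _ T.sm_act' (by decide +kernel) g₀ h0
  have hsum : c + mU c + mU (mU c) = 0 := by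
    have h3 : T.φ sm * T.φ sm * T.φ sm = 1 := by rw [← map_mul, ← map_mul, sm_cube, map_one]
    have e : T.φ sm * (T.φ sm * (T.φ sm * g₀ * (T.φ sm)⁻¹) * (T.φ sm)⁻¹) * (T.φ sm)⁻¹ = g₀ := by
      calc _ = (T.φ sm * T.φ sm * T.φ sm) * g₀ * (T.φ sm * T.φ sm * T.φ sm)⁻¹ := by group
        _ = _ := by rw [h3]; group
    rw [hc, Acts.push sm_acts, hc, Acts.push sm_acts, Acts.push sm_acts, hc, ← mul_assoc, ← mul_assoc,
      ← T.q_add, ← T.q_add] at e
    have h0 : T.q (mU (mU c) + mU c + c) = 1 := mul_eq_right.1 e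
    rw [← T.q_zero] at h0
    rw [← T.q_inj h0]
    abel
  obtain ⟨u, hu⟩ := norm_zero c hsum
  set Z := T.q u * g₀ with hZ
  have hZa : T.Acts Z (fun v => -v) := Acts.congr (Acts.mul T (T.acts_of_mem (T.q_mem u)) h0) fun v => rfl
  have hs : T.φ sm * Z * (T.φ sm)⁻¹ = Z := by
    rw [hZ, Acts.push sm_acts, hc, ← mul_assoc, ← T.q_add, hu]
  obtain ⟨d, hd⟩ := hconj _ _ T.tm_act' (by decide +kernel) Z hZa
  have hZs : Commute (T.φ sm) Z := mul_inv_eq_iff_eq_mul.1 hs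
  have htt : T.φ tm * T.φ tm = 1 := by rw [← map_mul, tm_sq, map_one]
  have hd0 : d = 0 := by
    refine fixed_zero d ?_ ?_
    · have h1 : Commute (T.φ tm * T.φ sm * (T.φ tm)⁻¹) (T.φ tm * Z * (T.φ tm)⁻¹) :=
        (Commute.conj_iff _).2 hZs
      rw [hd, ← map_inv, ← map_mul, ← map_mul, tm_sm, map_inv] at h1
      have h1' : Commute (T.φ sm) (T.q d * Z) := by simpa using h1.inv_left
      have h2 : T.φ sm * (T.q d * Z) * (T.φ sm)⁻¹ = T.q d * Z := mul_inv_eq_iff_eq_mul.2 h1'.eq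
      rw [Acts.push sm_acts, hs] at h2
      exact T.q_inj (mul_right_cancel h2)
    · have h1 : T.φ tm * (T.φ tm * Z * (T.φ tm)⁻¹) * (T.φ tm)⁻¹ = Z := by
        calc _ = T.φ tm * T.φ tm * Z * (T.φ tm * T.φ tm)⁻¹ := by group
          _ = Z := by rw [htt]; group
      rw [hd, Acts.push tm_acts, hd, ← mul_assoc, ← T.q_add] at h1
      have h2 : T.q (mT d + d) = 1 := mul_eq_right.1 h1
      rw [← T.q_zero] at h2
      rw [add_comm]
      exact T.q_inj h2
  rw [hd0, T.q_zero, one_mul] at hd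
  exact ⟨Z, hZa, hsq Z hZa, hZs.eq, mul_inv_eq_iff_eq_mul.1 hd⟩

/-- The data of the big case: the complement and a labelled centraliser of the third axis. -/
structure Cpl (T : Conf G) where
  Z : G
  acts : T.Acts Z fun v => -v
  sq : Z * Z = 1
  sm_Z : T.φ sm * Z = Z * T.φ sm
  tm_Z : T.φ tm * Z = Z * T.φ tm
  lift : ∀ f : V3 → V3, (∃ p : Fin 24 × Bool, ∀ v, smap p v = f v) → ∃ g, T.Acts g f ∧ g * Z = Z * g

theorem exists_cpl (hF : T.Framed .eight) : Nonempty (Cpl T) := by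
  obtain ⟨Z, hZ, hsq, hs, ht⟩ := exists_centre hF
  refine ⟨⟨Z, hZ, hsq, hs, ht, fun f hf => ?_⟩⟩
  obtain ⟨p, hp⟩ := hf
  obtain ⟨g, hg⟩ := hF.all p trivial
  have hg' : T.Acts g f := Acts.congr hg hp
  have hneg : ∀ v, f (-v) = -f v := fun v => by
    rw [← hp, ← hp]
    exact (by decide +kernel : ∀ p : Fin 24 × Bool, ∀ v, smap p (-v) = -smap p v) p v
  have h1 : T.Acts (g * Z * g⁻¹) fun v : V3 => -v := fun v => by
    have hinj : Function.Injective f := fun a b h => T.q_inj (mul_left_cancel (mul_right_cancel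
      ((hg' a).trans ((congrArg T.q h).trans (hg' b).symm))))
    obtain ⟨u, rfl⟩ := Finite.injective_iff_surjective.1 hinj v
    rw [← hg' u, show g * Z * g⁻¹ * (g * T.q u * g⁻¹) * (g * Z * g⁻¹)⁻¹ = g * (Z * T.q u * Z⁻¹) * g⁻¹ by group,
      hZ, hg', hneg]
  obtain ⟨u, hu⟩ := Acts.ext_id h1 hZ
  rw [Acts.comm T hZ] at hu
  refine ⟨T.q (-u) * g, Acts.congr (Acts.mul T (T.acts_of_mem (T.q_mem _)) hg') fun v => rfl, ?_⟩
  have hgz : g * Z = T.q (-u) * Z * g := by rw [← hu, inv_mul_cancel_right]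
  rw [mul_assoc, hgz, ← mul_assoc, ← mul_assoc, ← T.q_add, ← mul_assoc Z, Acts.comm T hZ]
  congr 3
  rw [(halve (-u)).2]

namespace Cpl

variable (C : Cpl T)

/-- Two elements of the complement with the same action are equal. -/
theorem ext {g h : G} {f e : V3 → V3} (hg : T.Acts g f) (hgZ : g * C.Z = C.Z * g) (hh : T.Acts h e)
    (hhZ : h * C.Z = C.Z * h) (hfe : ∀ v, f v = e v) : g = h := by
  obtain ⟨u, hu⟩ := Acts.ext_id (Acts.congr hg hfe) hh
  have h1 : Commute (h⁻¹ * g) C.Z := (show Commute h C.Z from hhZ).inv_left.mul_left hgZ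
  rw [hu, inv_mul_cancel_left] at h1
  have h2 : C.Z * T.q u = T.q u * C.Z := h1.eq.symm
  rw [Acts.comm_iff T C.acts] at h2
  rw [hu, show u = 0 from (by decide +kernel : ∀ w : V3, -w = w → w = 0) u h2, T.q_zero, mul_one]

/-- The involution changing the sign at one coordinate. -/
noncomputable def d (k : Fin 3) : G := (C.lift (sg k) (sg_smap k)).choose

theorem d_acts (k : Fin 3) : T.Acts (C.d k) (sg k) := (C.lift (sg k) (sg_smap k)).choose_spec.1

theorem d_Z (k : Fin 3) : C.d k * C.Z = C.Z * C.d k := (C.lift (sg k) (sg_smap k)).choose_spec.2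

theorem d_sq (k : Fin 3) : C.d k * C.d k = 1 :=
  C.ext (Acts.mul T (C.d_acts k) (C.d_acts k)) ((show Commute _ _ from C.d_Z k).mul_left (C.d_Z k)).eq
    (T.acts_of_mem T.J.one_mem) (by rw [one_mul, mul_one]) (sg_facts.1 k)

theorem d_inv (k : Fin 3) : (C.d k)⁻¹ = C.d k := inv_eq_of_mul_eq_one_right (C.d_sq k)

theorem d_comm (k l : Fin 3) : C.d k * C.d l = C.d l * C.d k :=
  C.ext (Acts.mul T (C.d_acts k) (C.d_acts l)) ((show Commute _ _ from C.d_Z k).mul_left (C.d_Z l)).eq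
    (Acts.mul T (C.d_acts l) (C.d_acts k)) ((show Commute _ _ from C.d_Z l).mul_left (C.d_Z k)).eq
    (sg_facts.2.1 k l)

theorem Z_eq : C.d 0 * C.d 1 * C.d 2 = C.Z :=
  C.ext (Acts.mul T (Acts.mul T (C.d_acts 0) (C.d_acts 1)) (C.d_acts 2))
    (((show Commute _ _ from C.d_Z 0).mul_left (C.d_Z 1)).mul_left (C.d_Z 2)).eq C.acts rfl sg_facts.2.2.1

theorem sh_d (k : Fin 3) : T.φ sm * C.d k * (T.φ sm)⁻¹ = C.d (k + 1) := by
  rw [mul_inv_eq_iff_eq_mul]
  exact C.ext (Acts.mul T sm_acts (C.d_acts k)) ((show Commute _ _ from C.sm_Z).mul_left (C.d_Z k)).eq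
    (Acts.mul T (C.d_acts (k + 1)) sm_acts) ((show Commute _ _ from C.d_Z (k + 1)).mul_left C.sm_Z).eq
    (sg_facts.2.2.2.1 k)

theorem tau_d0 : T.φ tm * C.d 0 * (T.φ tm)⁻¹ = C.d 1 := by
  rw [mul_inv_eq_iff_eq_mul]
  exact C.ext (Acts.mul T tm_acts (C.d_acts 0)) ((show Commute _ _ from C.tm_Z).mul_left (C.d_Z 0)).eq
    (Acts.mul T (C.d_acts 1) tm_acts) ((show Commute _ _ from C.d_Z 1).mul_left C.tm_Z).eq sg_facts.2.2.2.2.1

theorem tau_d2 : T.φ tm * C.d 2 = C.d 2 * T.φ tm :=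
  C.ext (Acts.mul T tm_acts (C.d_acts 2)) ((show Commute _ _ from C.tm_Z).mul_left (C.d_Z 2)).eq
    (Acts.mul T (C.d_acts 2) tm_acts) ((show Commute _ _ from C.d_Z 2).mul_left C.tm_Z).eq sg_facts.2.2.2.2.2

end Cpl

/-- An element of the centraliser of the third axis with given action. -/
theorem mem_axis {g : G} {f : V3 → V3} (hg : T.Acts g f) (hf : f (0, 0, 1) = (0, 0, 1)) : g ∈ T.centQ (0, 0, 1) :=
  mem_centQ.2 ((Acts.comm_iff T hg).2 hf)

/-- A vector in the centraliser of the third axis. -/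
def qc (T : Conf G) (v : V3) : T.centQ (0, 0, 1) := ⟨T.q v, T.J_le_centQ _ (T.q_mem v)⟩

theorem qc_add (v w : V3) : T.qc (v + w) = T.qc v * T.qc w := Subtype.ext (T.q_add v w)

/-- The exchange of the first two blocks in the centraliser of the third axis. -/
def tc (T : Conf G) : T.centQ (0, 0, 1) := ⟨T.φ tm, mem_axis tm_acts (by decide +kernel)⟩

namespace Cpl

variable (C : Cpl T)

/-- The first reflection in the centraliser of the third axis. -/
noncomputable def c1 : T.centQ (0, 0, 1) := ⟨C.d 0, mem_axis (C.d_acts 0) (by decide +kernel)⟩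

/-- The second reflection in the centraliser of the third axis. -/
noncomputable def c2 : T.centQ (0, 0, 1) := ⟨C.d 1, mem_axis (C.d_acts 1) (by decide +kernel)⟩

/-- The labelling. -/
structure Label where
  π : T.centQ (0, 0, 1) →* P6
  surj : Function.Surjective π
  ker : π.ker = T.lineQ (0, 0, 1)
  e1 : π (T.qc (1, 0, 0)) = s1
  e2 : π (T.qc (0, 1, 0)) = s2
  r1 : π C.c1 = w1
  r2 : π C.c2 = w2
  t : π T.tc = tau

/-- A homomorphism onto the symmetric group can be labelled. -/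
theorem exists_label (π : T.centQ (0, 0, 1) →* Perm (Fin 6)) (hs : Function.Surjective π)
    (hk : π.ker = T.lineQ (0, 0, 1)) : Nonempty C.Label := by
  open Cfsg.Agent.Lie.PSpFourThreeFull in
  have hker : ∀ v : V3, π (T.qc v) = 1 → ∃ a : ZMod 3, v = a • ((0, 0, 1) : V3) := fun v hv => by
    have h : T.qc v ∈ π.ker := hv
    rw [hk] at h
    obtain ⟨a, ha⟩ := T.mem_lineQ.1 h
    exact ⟨a, T.q_inj ha⟩
  have hcube : ∀ v, T.qc v * T.qc v * T.qc v = 1 := fun v => Subtype.ext (by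
    show T.q v * T.q v * T.q v = 1
    rw [← T.q_cube v, pow_succ, pow_two])
  have hcomm : ∀ v w, T.qc v * T.qc w = T.qc w * T.qc v := fun v w => Subtype.ext (T.q_comm v w)
  have hneg : ∀ v, (T.qc v)⁻¹ = T.qc (-v) := fun v => Subtype.ext (T.q_neg v).symm
  have hz : ∀ v w : V3, (∀ a : ZMod 3, v - w ≠ a • ((0, 0, 1) : V3)) → π (T.qc v) ≠ π (T.qc w) := fun v w h e => by
    obtain ⟨a, ha⟩ := hker (v - w) (by
      rw [sub_eq_add_neg, qc_add, map_mul, ← hneg, map_inv, e, mul_inv_cancel])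
    exact h a ha
  have h10 : π (T.qc (1, 0, 0)) ≠ 1 := fun e => by
    obtain ⟨a, ha⟩ := hker _ e
    revert ha
    revert a
    decide +kernel
  obtain ⟨α, hα⟩ := Lie.PSpFourThreeFull.Axis.exists_single (π (T.qc (1, 0, 0)))
    (by rw [← map_mul, ← map_mul, hcube, map_one]) h10
  set π₁ := α.toMonoidHom.comp π with hπ₁
  have hne : ∀ v w : V3, (∀ a : ZMod 3, v - w ≠ a • ((0, 0, 1) : V3)) → π₁ (T.qc v) ≠ π₁ (T.qc w) :=
    fun v w h e => hz v w h (α.injective e)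
  have he1 : π₁ (T.qc (1, 0, 0)) = s1 := hα
  have htc : T.tc * T.qc (1, 0, 0) * T.tc⁻¹ = T.qc (0, 1, 0) := Subtype.ext (by
    show T.φ tm * T.q (1, 0, 0) * (T.φ tm)⁻¹ = T.q (0, 1, 0)
    rw [T.tm_act']
    exact congrArg T.q (by decide +kernel))
  have hfix : ∃ i, (π₁ (T.qc (0, 1, 0))) i = i := by
    refine ⟨π₁ T.tc 3, ?_⟩
    rw [← htc, map_mul, map_mul, map_inv, he1, Equiv.Perm.mul_apply, Equiv.Perm.mul_apply,
      ← Equiv.Perm.mul_apply (π₁ T.tc)⁻¹, inv_mul_cancel, Equiv.Perm.one_apply]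
    congr 1
  obtain ⟨h, hh1, hh2⟩ := Lie.PSpFourThreeFull.Axis.conj_second (π₁ (T.qc (0, 1, 0)))
    (by rw [← he1, ← map_mul, ← map_mul, hcomm]) (by rw [← map_mul, ← map_mul, hcube, map_one]) hfix
    (fun e => hne (0, 1, 0) 0 (by decide +kernel) (by
      rw [e, show T.qc 0 = 1 from Subtype.ext T.q_zero, map_one]))
    (fun e => hne (0, 1, 0) (1, 0, 0) (by decide +kernel) (by rw [e, he1]))
    (fun e => hne (0, 1, 0) ((1, 0, 0) + (1, 0, 0)) (by decide +kernel) (by rw [e, qc_add, map_mul, he1]))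
  set π₂ := (MulAut.conj h).toMonoidHom.comp π₁ with hπ₂
  have f1 : π₂ (T.qc (1, 0, 0)) = s1 := by
    show h * π₁ _ * h⁻¹ = _
    rw [he1, hh1]
  have f2 : π₂ (T.qc (0, 1, 0)) = s2 := hh2
  have cinv : ∀ c v, c * T.qc v * c⁻¹ = T.qc (-v) → π₂ c * π₂ (T.qc v) * (π₂ c)⁻¹ = (π₂ (T.qc v))⁻¹ := fun c v e => by
    rw [← map_inv, ← map_mul, ← map_mul, e, ← hneg, map_inv]
  have cfix : ∀ c v, c * T.qc v * c⁻¹ = T.qc v → π₂ c * π₂ (T.qc v) = π₂ (T.qc v) * π₂ c := fun c v e => by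
    rw [← map_mul, ← map_mul, mul_inv_eq_iff_eq_mul.1 e]
  have a1 : ∀ v w, sg 0 v = w → C.c1 * T.qc v * C.c1⁻¹ = T.qc w := fun v w e =>
    Subtype.ext ((C.d_acts 0 v).trans (congrArg T.q e))
  have a2 : ∀ v w, sg 1 v = w → C.c2 * T.qc v * C.c2⁻¹ = T.qc w := fun v w e =>
    Subtype.ext ((C.d_acts 1 v).trans (congrArg T.q e))
  obtain ⟨k, k1, k2, k3, k4⟩ := Lie.PSpFourThreeFull.Axis.conj_refl (π₂ C.c1)
    (by rw [← map_mul, show C.c1 * C.c1 = 1 from Subtype.ext (C.d_sq 0), map_one])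
    (by rw [← f2]; exact cfix _ _ (a1 _ _ (by decide +kernel)))
    (by rw [← f1]; exact cinv _ _ (a1 _ _ (by decide +kernel)))
    (π₂ C.c2) (by rw [← map_mul, show C.c2 * C.c2 = 1 from Subtype.ext (C.d_sq 1), map_one])
    (by rw [← f1]; exact cfix _ _ (a2 _ _ (by decide +kernel)))
    (by rw [← f2]; exact cinv _ _ (a2 _ _ (by decide +kernel)))
  set π₃ := (MulAut.conj k).toMonoidHom.comp π₂ with hπ₃
  have g1 : π₃ (T.qc (1, 0, 0)) = s1 := by show k * π₂ _ * k⁻¹ = _; rw [f1, k1]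
  have g2 : π₃ (T.qc (0, 1, 0)) = s2 := by show k * π₂ _ * k⁻¹ = _; rw [f2, k2]
  have g3 : π₃ C.c1 = w1 := k3
  have g4 : π₃ C.c2 = w2 := k4
  refine ⟨⟨π₃, ?_, ?_, g1, g2, g3, g4, ?_⟩⟩
  · exact (MulAut.conj k).surjective.comp ((MulAut.conj h).surjective.comp (α.surjective.comp hs))
  · rw [← hk]
    ext x
    simp [hπ₃, hπ₂, hπ₁]
  · refine Lie.PSpFourThreeFull.Axis.tau_unique _
      (by rw [← map_mul, show T.tc * T.tc = 1 from Subtype.ext (by
        show T.φ tm * T.φ tm = 1; rw [← map_mul, tm_sq, map_one]), map_one]) ?_ ?_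
    · rw [← g1, ← g2, ← map_inv, ← map_mul, ← map_mul, htc]
    · rw [← g3, ← g4, ← map_inv, ← map_mul, ← map_mul,
        show T.tc * C.c1 * T.tc⁻¹ = C.c2 from Subtype.ext C.tau_d0]

end Cpl

end Conf

end Cfsg.Agent.Spor.SymNine
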