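import Cfsg.Agent.Lib.Spor.SymNine.BigFrame
import Mathlib.GroupTheory.Perm.Fin

/-!
The involutions over the six points of the centraliser of the third axis, and the reflections commuting with them.
-/

set_option autoImplicit false
set_option linter.unusedSectionVars false
set_option maxRecDepth 100000
set_option synthInstance.maxSize 4096
set_option synthInstance.maxHeartbeats 200000

namespace Cfsg.Agent.Spor.SymNine

open Cfsg.Agent.Lie.PSpFourThreeAmalgam (V3 mU mT)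
open Cfsg.Agent.Lie.PSpFourThreeFull (six dia smap)
open Cfsg.Agent.Lie.PSpFourThreeFull.Axis (P6 s1 s2 w1 w2 tau)
open Equiv

theorem six_swaps : s1 * w1 = swap 0 1 ∧ s2 * w2 = swap 3 4 ∧ w1 = swap 1 2 ∧ w2 = swap 4 5 ∧
    (s1 * s1) * w1 = swap 0 2 ∧ (s2 * s2) * w2 = swap 3 5 ∧ tau = swap 0 3 * swap 1 4 * swap 2 5 := by
  decide +kernel

theorem middle_unique : ∀ x : P6, x * x = 1 → x * swap 0 1 = swap 0 1 * x → x * swap 4 5 = swap 4 5 * x →
    (x * swap 1 2) * (x * swap 1 2) * (x * swap 1 2) = 1 → (x * swap 3 4) * (x * swap 3 4) * (x * swap 3 4) = 1 →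
    x = swap 2 3 := by decide +kernel

theorem middle_facts : swap 2 3 * swap 0 1 = swap 0 1 * (swap 2 3 : P6) ∧
    swap 2 3 * swap 4 5 = swap 4 5 * (swap 2 3 : P6) ∧
    (swap 2 3 * swap 1 2) * (swap 2 3 * swap 1 2) * (swap 2 3 * swap 1 2) = (1 : P6) ∧
    (swap 2 3 * swap 3 4) * (swap 2 3 * swap 3 4) * (swap 2 3 * swap 3 4) = (1 : P6) := by decide +kernel

namespace Conf.Cpl.Label

variable {G : Type*} [Group G] [Finite G] {T : Conf G} {C : Cpl T} (hL : C.Label)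
include hL

theorem π_one {x : T.centQ (0, 0, 1)} (h : hL.π x = 1) : ∃ a : ZMod 3, x = T.qc (a • (0, 0, 1)) := by
  have h1 : x ∈ hL.π.ker := h
  rw [hL.ker] at h1
  obtain ⟨a, ha⟩ := T.mem_lineQ.1 h1
  exact ⟨a, Subtype.ext ha⟩

theorem π_line (a : ZMod 3) : hL.π (T.qc (a • (0, 0, 1))) = 1 := by
  have h : T.qc (a • (0, 0, 1)) ∈ hL.π.ker := by
    rw [hL.ker]
    exact T.mem_lineQ.2 ⟨a, rfl⟩
  exact h

theorem line_comm (a : ZMod 3) (x : T.centQ (0, 0, 1)) : Commute x (T.qc (a • (0, 0, 1))) :=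
  Subtype.ext (by
    show (x : G) * T.q _ = T.q _ * (x : G)
    rw [T.q_smul]
    exact ((show Commute (x : G) (T.q (0, 0, 1)) from mem_centQ.1 x.2).pow_right _).eq)

theorem line_sq {a : ZMod 3} (h : T.qc (a • (0, 0, 1)) * T.qc (a • (0, 0, 1)) = 1) : T.qc (a • (0, 0, 1)) = 1 := by
  have h3 : T.q (a • (0, 0, 1)) ^ 3 = 1 := T.q_cube _
  have h2 : T.q (a • (0, 0, 1)) * T.q (a • (0, 0, 1)) = 1 := congrArg Subtype.val h
  rw [pow_succ, pow_two, h2, one_mul] at h3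
  exact Subtype.ext h3

/-- Two involutions with the same image are equal. -/
theorem lift_eq {x y : T.centQ (0, 0, 1)} (hx : x * x = 1) (hy : y * y = 1) (h : hL.π x = hL.π y) : x = y := by
  obtain ⟨a, ha⟩ := hL.π_one (x := y * x) (by rw [map_mul, h, ← map_mul, hy, map_one])
  have hxy : x = y * T.qc (a • (0, 0, 1)) := by rw [← ha, ← mul_assoc, hy, one_mul]
  have h2 : T.qc (a • (0, 0, 1)) * T.qc (a • (0, 0, 1)) = 1 := by
    rw [← hx, hxy, (hL.line_comm a y).symm.mul_mul_mul_comm, hy, one_mul]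
  rw [hxy, hL.line_sq h2, mul_one]

theorem exists_lift (σ : P6) : ∃ x : T.centQ (0, 0, 1), σ * σ = 1 → x * x = 1 ∧ hL.π x = σ := by
  obtain ⟨x, hx⟩ := hL.surj σ
  refine ⟨x * x * x, fun hσ => ?_⟩
  obtain ⟨a, ha⟩ := hL.π_one (x := x * x) (by rw [map_mul, hx, hσ])
  refine ⟨?_, by rw [map_mul, map_mul, hx, hσ, one_mul]⟩
  calc x * x * x * (x * x * x) = x * x * (x * x) * (x * x) := by simp only [mul_assoc]
    _ = 1 := by
      rw [ha]
      exact Subtype.ext (by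
        show T.q _ * T.q _ * T.q _ = 1
        rw [← T.q_cube (a • ((0, 0, 1) : V3)), pow_succ, pow_two])

/-- The involution over a permutation. -/
noncomputable def lift (σ : P6) : T.centQ (0, 0, 1) := (hL.exists_lift σ).choose

theorem lift_sq {σ : P6} (h : σ * σ = 1) : hL.lift σ * hL.lift σ = 1 := ((hL.exists_lift σ).choose_spec h).1

theorem lift_sq' {σ : P6} (h : σ * σ = 1) : (hL.lift σ : G) * (hL.lift σ : G) = 1 :=
  congrArg Subtype.val (hL.lift_sq h)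

theorem lift_inv {σ : P6} (h : σ * σ = 1) : ((hL.lift σ : T.centQ (0, 0, 1)) : G)⁻¹ = hL.lift σ :=
  inv_eq_of_mul_eq_one_right (hL.lift_sq' h)

theorem π_lift {σ : P6} (h : σ * σ = 1) : hL.π (hL.lift σ) = σ := ((hL.exists_lift σ).choose_spec h).2

theorem eq_lift {x : T.centQ (0, 0, 1)} {σ : P6} (hx : x * x = 1) (h : hL.π x = σ) : x = hL.lift σ := by
  have hσ : σ * σ = 1 := by rw [← h, ← map_mul, hx, map_one]
  exact hL.lift_eq hx (hL.lift_sq hσ) (by rw [h, hL.π_lift hσ])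

theorem lift_one : hL.lift 1 = 1 := (hL.eq_lift (mul_one 1) (map_one _)).symm

theorem lift_conj (g : T.centQ (0, 0, 1)) {σ : P6} (h : σ * σ = 1) :
    g * hL.lift σ * g⁻¹ = hL.lift (hL.π g * σ * (hL.π g)⁻¹) :=
  hL.eq_lift (by rw [conj_mul, hL.lift_sq h, mul_one, mul_inv_cancel])
    (by rw [map_mul, map_mul, map_inv, hL.π_lift h])

theorem lift_conj' {σ ρ : P6} (h : σ * σ = 1) (hρ : ρ * ρ = 1) :
    (hL.lift ρ : G) * hL.lift σ * hL.lift ρ = hL.lift (ρ * σ * ρ) := by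
  have h1 := congrArg (Subtype.val) (hL.lift_conj (hL.lift ρ) h)
  rw [Subgroup.coe_mul, Subgroup.coe_mul, Subgroup.coe_inv, hL.lift_inv hρ] at h1
  rw [h1, hL.π_lift hρ, inv_eq_of_mul_eq_one_right hρ]

/-- Commuting with a lift is seen in the six points. -/
theorem comm_lift_iff (g : T.centQ (0, 0, 1)) {σ : P6} (h : σ * σ = 1) :
    g * hL.lift σ = hL.lift σ * g ↔ hL.π g * σ = σ * hL.π g := by
  constructor
  · intro hc
    have h1 := congrArg hL.π hc
    rwa [map_mul, map_mul, hL.π_lift h] at h1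
  · intro hc
    refine mul_inv_eq_iff_eq_mul.1 ?_
    rw [hL.lift_conj g h, hc, mul_inv_cancel_right]

theorem lift_mul {σ σ' : P6} (h : σ * σ = 1) (h' : σ' * σ' = 1) (hc : σ * σ' = σ' * σ) :
    hL.lift (σ * σ') = hL.lift σ * hL.lift σ' ∧ Commute (hL.lift σ) (hL.lift σ') := by
  have hcm : Commute (hL.lift σ) (hL.lift σ') := (hL.comm_lift_iff _ h').2 (by rw [hL.π_lift h, hc])
  refine ⟨(hL.eq_lift ?_ (by rw [map_mul, hL.π_lift h, hL.π_lift h'])).symm, hcm⟩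
  rw [hcm.symm.mul_mul_mul_comm, hL.lift_sq h, hL.lift_sq h', one_mul]

theorem lift_w1 : (hL.lift w1 : G) = C.d 0 :=
  (congrArg Subtype.val (hL.eq_lift (x := C.c1) (Subtype.ext (C.d_sq 0)) hL.r1)).symm

theorem lift_w2 : (hL.lift w2 : G) = C.d 1 :=
  (congrArg Subtype.val (hL.eq_lift (x := C.c2) (Subtype.ext (C.d_sq 1)) hL.r2)).symm

theorem lift_tau : (hL.lift tau : G) = T.φ tm :=
  (congrArg Subtype.val (hL.eq_lift (x := T.tc) (Subtype.ext (by
    show T.φ tm * T.φ tm = 1; rw [← map_mul, tm_sq, map_one])) hL.t)).symm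

theorem π_e3 : hL.π (T.qc (0, 0, 1)) = 1 := by simpa using hL.π_line 1

theorem qd_sq {v : V3} {k : Fin 3} (hv : sg k v = -v) : T.q v * C.d k * (T.q v * C.d k) = 1 := by
  rw [← mul_assoc, mul_assoc (T.q v) (C.d k) (T.q v), Acts.comm T (C.d_acts k), hv, ← mul_assoc, ← T.q_add,
    add_neg_cancel, T.q_zero, one_mul, C.d_sq]

theorem lift_inner0 (a : ZMod 3) : (hL.lift (s1 ^ a.val * w1) : G) = T.q (a, 0, 0) * C.d 0 := by
  have hp : T.qc (a, 0, 0) = T.qc (1, 0, 0) ^ a.val := Subtype.ext (by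
    show T.q (a, 0, 0) = ((T.qc (1, 0, 0) ^ a.val : T.centQ (0, 0, 1)) : G)
    rw [SubgroupClass.coe_pow]
    show _ = T.q (1, 0, 0) ^ a.val
    rw [← T.q_smul]
    exact congrArg T.q (by simp))
  refine (congrArg Subtype.val (hL.eq_lift (x := T.qc (a, 0, 0) * C.c1) ?_ ?_)).symm
  · exact Subtype.ext (hL.qd_sq (by simp [sg]))
  · rw [map_mul, hL.r1, hp, map_pow, hL.e1]

theorem lift_inner1 (a : ZMod 3) : (hL.lift (s2 ^ a.val * w2) : G) = T.q (0, a, 0) * C.d 1 := by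
  have hp : T.qc (0, a, 0) = T.qc (0, 1, 0) ^ a.val := Subtype.ext (by
    show T.q (0, a, 0) = ((T.qc (0, 1, 0) ^ a.val : T.centQ (0, 0, 1)) : G)
    rw [SubgroupClass.coe_pow]
    show _ = T.q (0, 1, 0) ^ a.val
    rw [← T.q_smul]
    exact congrArg T.q (by simp))
  refine (congrArg Subtype.val (hL.eq_lift (x := T.qc (0, a, 0) * C.c2) ?_ ?_)).symm
  · exact Subtype.ext (hL.qd_sq (by simp [sg]))
  · rw [map_mul, hL.r2, hp, map_pow, hL.e2]

theorem d2_mem {x : G} (hx : x ∈ T.centQ (0, 0, 1)) : C.d 2 * x * C.d 2 ∈ T.centQ (0, 0, 1) := by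
  have h0 : C.d 2 * T.q (0, 0, 1) * C.d 2 = (T.q (0, 0, 1))⁻¹ := by
    rw [← T.q_neg]
    calc C.d 2 * T.q (0, 0, 1) * C.d 2 = C.d 2 * T.q (0, 0, 1) * (C.d 2)⁻¹ := by rw [C.d_inv]
      _ = _ := by rw [C.d_acts]; exact congrArg T.q (by decide +kernel)
  have h1 : Commute (C.d 2 * x * C.d 2) (T.q (0, 0, 1))⁻¹ := by
    rw [← h0]
    calc C.d 2 * x * C.d 2 * (C.d 2 * T.q (0, 0, 1) * C.d 2)
        = C.d 2 * x * (C.d 2 * C.d 2) * T.q (0, 0, 1) * C.d 2 := by group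
      _ = C.d 2 * (T.q (0, 0, 1) * x) * C.d 2 := by rw [C.d_sq, mul_one, mul_assoc (C.d 2), mem_centQ.1 hx]
      _ = C.d 2 * T.q (0, 0, 1) * (C.d 2 * C.d 2) * x * C.d 2 := by rw [C.d_sq]; group
      _ = _ := by group
  exact mem_centQ.2 (by simpa using h1.inv_right.eq)

/-- The third reflection centralises every lifted involution. -/
theorem d2_lift {σ : P6} (h : σ * σ = 1) : Commute (C.d 2) (hL.lift σ : G) := by
  let ι : T.centQ (0, 0, 1) →* T.centQ (0, 0, 1) :=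
    MonoidHom.mk' (fun x => ⟨C.d 2 * x * C.d 2, hL.d2_mem x.2⟩) fun x y => Subtype.ext (by
      show C.d 2 * ((x : G) * y) * C.d 2 = C.d 2 * x * C.d 2 * (C.d 2 * y * C.d 2)
      calc _ = C.d 2 * x * (C.d 2 * C.d 2) * y * C.d 2 := by rw [C.d_sq]; group
        _ = _ := by group)
  have hfix : ∀ x : T.centQ (0, 0, 1), C.d 2 * (x : G) = (x : G) * C.d 2 → ι x = x := fun x hx =>
    Subtype.ext (by show C.d 2 * (x : G) * C.d 2 = x; rw [hx, mul_assoc, C.d_sq, mul_one])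
  have hker : hL.π.ker ≤ (hL.π.comp ι).ker := by
    intro x hx
    obtain ⟨a, rfl⟩ := hL.π_one hx
    have : ι (T.qc (a • (0, 0, 1))) = T.qc ((-a) • (0, 0, 1)) := Subtype.ext (by
      show C.d 2 * T.q _ * C.d 2 = T.q _
      calc C.d 2 * T.q _ * C.d 2 = C.d 2 * T.q _ * (C.d 2)⁻¹ := by rw [C.d_inv]
        _ = _ := by
          rw [C.d_acts]
          exact congrArg T.q ((by decide +kernel : ∀ a : ZMod 3, sg 2 (a • ((0, 0, 1) : V3)) = (-a) • ((0, 0, 1) : V3)) a))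
    show hL.π (ι _) = 1
    rw [this, hL.π_line]
  let α : P6 →* P6 := MonoidHom.liftOfSurjective hL.π hL.surj ⟨hL.π.comp ι, hker⟩
  have hα : ∀ x, α (hL.π x) = hL.π (ι x) := fun x =>
    MonoidHom.liftOfRightInverse_comp_apply hL.π _ (Function.rightInverse_surjInv hL.surj) ⟨hL.π.comp ι, hker⟩ x
  have hfa : ∀ x : T.centQ (0, 0, 1), C.d 2 * (x : G) = (x : G) * C.d 2 → α (hL.π x) = hL.π x := fun x hx => by rw [hα, hfix x hx]
  have hq : ∀ v, sg 2 v = v → C.d 2 * T.q v = T.q v * C.d 2 := fun v hv => (Acts.comm_iff T (C.d_acts 2)).2 hv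
  obtain ⟨e1, e2, e3, e4, -, -, -⟩ := six_swaps
  have f12 : α (swap 1 2) = swap 1 2 := by rw [← e3, ← hL.r1]; exact hfa _ (C.d_comm 2 0)
  have f45 : α (swap 4 5) = swap 4 5 := by rw [← e4, ← hL.r2]; exact hfa _ (C.d_comm 2 1)
  have f01 : α (swap 0 1) = swap 0 1 := by
    rw [← e1, ← hL.e1, ← hL.r1, ← map_mul]
    exact hfa _ ((show Commute (C.d 2) _ from hq (1, 0, 0) (by decide +kernel)).mul_right (C.d_comm 2 0)).eq
  have f34 : α (swap 3 4) = swap 3 4 := by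
    rw [← e2, ← hL.e2, ← hL.r2, ← map_mul]
    exact hfa _ ((show Commute (C.d 2) _ from hq (0, 1, 0) (by decide +kernel)).mul_right (C.d_comm 2 1)).eq
  have f23 : α (swap 2 3) = swap 2 3 := by
    obtain ⟨m1, m2, m3, m4⟩ := middle_facts
    refine middle_unique _ (by rw [← map_mul, swap_mul_self, map_one]) ?_ ?_ ?_ ?_
    · rw [← f01, ← map_mul, ← map_mul, m1]
    · rw [← f45, ← map_mul, ← map_mul, m2]
    · rw [← f12, ← map_mul, ← map_mul, ← map_mul, m3, map_one]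
    · rw [← f34, ← map_mul, ← map_mul, ← map_mul, m4, map_one]
  have hid : α = MonoidHom.id P6 := by
    refine MonoidHom.eq_of_eqOn_denseM (Equiv.Perm.mclosure_swap_castSucc_succ 5) ?_
    rintro _ ⟨i, rfl⟩
    fin_cases i
    exacts [f01, f12, f23, f34, f45]
  have h1 : ι (hL.lift σ) = hL.lift σ := hL.eq_lift (by rw [← map_mul, hL.lift_sq h, map_one])
    (by rw [← hα, hL.π_lift h, hid]; rfl)
  have h2 : C.d 2 * (hL.lift σ : G) * C.d 2 = hL.lift σ := congrArg Subtype.val h1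
  show C.d 2 * (hL.lift σ : G) = (hL.lift σ : G) * C.d 2
  nth_rewrite 2 [← h2]
  rw [mul_assoc (C.d 2 * _), C.d_sq, mul_one]

/-- An involution of an axis centraliser: the lift moved by the shift. -/
noncomputable def up (σ : P6) : G := T.φ sm * (hL.lift σ : G) * (T.φ sm)⁻¹

/-- The lift moved by the shift twice. -/
noncomputable def up2 (σ : P6) : G := T.φ sm * hL.up σ * (T.φ sm)⁻¹

theorem sm_q (v : V3) : T.φ sm * T.q v * (T.φ sm)⁻¹ = T.q (mU v) := T.sm_act' v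

theorem line2_lift (a : ZMod 3) (σ : P6) : Commute (T.q (0, 0, a)) (hL.lift σ : G) := by
  have h := congrArg Subtype.val (hL.line_comm a (hL.lift σ)).symm.eq
  rwa [show a • ((0, 0, 1) : V3) = (0, 0, a) by simp] at h

theorem inner2_lift (a : ZMod 3) {σ : P6} (h : σ * σ = 1) : Commute (T.q (0, 0, a) * C.d 2) (hL.lift σ : G) :=
  (hL.line2_lift a σ).mul_left (hL.d2_lift h)

theorem inner0_up (a : ZMod 3) {σ : P6} (h : σ * σ = 1) : Commute (T.q (a, 0, 0) * C.d 0) (hL.up σ) := by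
  have h1 := (Commute.conj_iff (T.φ sm)).2 (hL.inner2_lift a h)
  rwa [← conj_mul, hL.sm_q, C.sh_d] at h1

theorem inner1_up2 (a : ZMod 3) {σ : P6} (h : σ * σ = 1) : Commute (T.q (0, a, 0) * C.d 1) (hL.up2 σ) := by
  have h1 := (Commute.conj_iff (T.φ sm)).2 (hL.inner0_up a h)
  rwa [← conj_mul, hL.sm_q, C.sh_d] at h1

theorem up_inner0 (a : ZMod 3) : hL.up (s1 ^ a.val * w1) = T.q (0, a, 0) * C.d 1 := by
  rw [up, hL.lift_inner0, ← conj_mul, hL.sm_q, C.sh_d]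
  rfl

theorem up_inner1 (a : ZMod 3) : hL.up (s2 ^ a.val * w2) = T.q (0, 0, a) * C.d 2 := by
  rw [up, hL.lift_inner1, ← conj_mul, hL.sm_q, C.sh_d]
  rfl

theorem up2_inner0 (a : ZMod 3) : hL.up2 (s1 ^ a.val * w1) = T.q (0, 0, a) * C.d 2 := by
  rw [up2, hL.up_inner0, ← conj_mul, hL.sm_q, C.sh_d]
  rfl

theorem up2_inner1 (a : ZMod 3) : hL.up2 (s2 ^ a.val * w2) = T.q (a, 0, 0) * C.d 0 := by
  rw [up2, hL.up_inner1, ← conj_mul, hL.sm_q, C.sh_d]
  rfl

end Conf.Cpl.Label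

end Cfsg.Agent.Spor.SymNine
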