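import Cfsg.Agent.Lib.Spor.SymNine.Planes
import Cfsg.Agent.Lib.Spor.SymNine.Plane
import Cfsg.Agent.Lib.Lie.PSpFourThreeFull.EightFacts
import Cfsg.Agent.S3333
import Mathlib.GroupTheory.SpecificGroups.Dihedral

/-!
The centralisers of the elements of the base: inside its normaliser, except possibly for the axes of the signed
monomial frame, whose centraliser may be a cover of the symmetric group of degree six.
-/

set_option autoImplicit false
set_option linter.unusedSectionVars false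
set_option linter.style.haveILetI false
set_option maxRecDepth 100000
set_option synthInstance.maxSize 4096
set_option synthInstance.maxHeartbeats 200000

namespace Cfsg.Agent.Spor.SymNine

open Cfsg.Agent.Lie.PSpFourThreeAmalgam (V3)
open Cfsg.Agent.Lie.PSpFourThreeFull (smap smap_inj smap_add indep indep_of_not unitV smap_ext dia stab_eight stab_shift
  dcode dcode_mul dcode_inj stab_axis_card axis_facts)

/-- The three possibilities for a vector. -/
theorem vector_cases : ∀ κ : Kind, ∀ v : V3, v ≠ 0 →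
    (∃ p, κ.mem p ∧ (smap p v = dia ∨ smap p v = -dia)) ∨
    (∀ p, κ.mem p → smap p v = v → ∀ u, smap p (smap p u) = u) ∨
    (κ = .eight ∧ ∃ p, smap p v = (0, 0, 1)) := by decide +kernel

namespace Conf

variable {G : Type*} [Group G] [Finite G] (T : Conf G)

theorem q_eq_one {v : V3} : T.q v = 1 ↔ v = 0 := ⟨fun h => T.q_inj (h.trans T.q_zero.symm), fun h => h ▸ T.q_zero⟩

/-- A commutator in a centralised line turns conjugation into a shift. -/
theorem shift_conj {v : V3} (a : ZMod 3) {x y : G} (hx : x * T.q v = T.q v * x)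
    (h : T.q (a • v) = (y * x)⁻¹ * (x * y)) : x * y * x⁻¹ = y * T.q (a • v) := by
  have hc : x * T.q (a • v) = T.q (a • v) * x := by
    rw [T.q_smul]
    exact ((show Commute x (T.q v) from hx).pow_right _).eq
  calc x * y * x⁻¹ = y * (x * ((y * x)⁻¹ * (x * y))) * x⁻¹ := by group
    _ = _ := by rw [← h, hc]; group

namespace Framed

variable {T} {κ : Kind} (hF : T.Framed κ)
include hF

/-- The data of the quotient of the centraliser by the line: a Sylow subgroup, its centraliser, the local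
condition and the group induced on it. -/
theorem quot_local {v : V3} (hv : v ≠ 0)
    (h8 : ∀ p, κ.mem p → smap p v = v → ∀ u, (smap p)^[8] u = u)
    (hsh : ∀ p, κ.mem p → smap p v = v → (∀ w, ∃ a : ZMod 3, smap p w = w + a • v) → ∀ u, smap p u = u)
    [hn : (T.lineQ v).Normal] :
    ∃ P : Sylow 3 (T.centQ v ⧸ T.lineQ v),
      (P : Subgroup (T.centQ v ⧸ T.lineQ v)) = (T.J.subgroupOf (T.centQ v)).map (QuotientGroup.mk' _) ∧
      Cfsg.IsElementaryAbelian 3 (P : Subgroup (T.centQ v ⧸ T.lineQ v)) ∧ Nat.card P = 9 ∧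
      Subgroup.centralizer ((P : Subgroup (T.centQ v ⧸ T.lineQ v)) : Set (T.centQ v ⧸ T.lineQ v)) = P ∧
      (∀ x ∈ (P : Subgroup (T.centQ v ⧸ T.lineQ v)), x ≠ 1 → Subgroup.centralizer ({x} : Set (T.centQ v ⧸ T.lineQ v)) ≤
        Subgroup.normalizer ((P : Subgroup (T.centQ v ⧸ T.lineQ v)) : Set (T.centQ v ⧸ T.lineQ v))) ∧
      (Subgroup.normalizer ((P : Subgroup (T.centQ v ⧸ T.lineQ v)) : Set (T.centQ v ⧸ T.lineQ v))).comap (QuotientGroup.mk' _) =
        (Subgroup.normalizer (T.J : Set G)).subgroupOf (T.centQ v) := by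
  classical
  haveI : Fact (Nat.Prime 3) := ⟨Nat.prime_three⟩
  set X := T.centQ v with hX
  set L := T.lineQ v with hL
  set π := QuotientGroup.mk' L with hπ
  set Jx := T.J.subgroupOf X with hJxdef
  have hJX : T.J ≤ X := T.J_le_centQ v
  have hJx : Nat.card Jx = 27 := by
    rw [Nat.card_congr (Subgroup.subgroupOfEquivOfLe hJX).toEquiv, T.card_J]
  have hmemN : ∀ x : X, x ∈ Subgroup.normalizer (Jx : Set X) ↔
      (x : G) ∈ Subgroup.normalizer (T.J : Set G) := by
    intro x
    rw [Subgroup.mem_normalizer_iff, Subgroup.mem_normalizer_iff]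
    refine ⟨fun h y => ⟨fun hy => Subgroup.mem_subgroupOf.1 ((h ⟨y, hJX hy⟩).1 (Subgroup.mem_subgroupOf.2 hy)),
      fun hy => ?_⟩, fun h y => h y⟩
    have hyX : y ∈ X := by
      have := X.mul_mem (X.mul_mem (X.inv_mem x.2) (hJX hy)) x.2
      simpa [mul_assoc] using this
    exact Subgroup.mem_subgroupOf.1 ((h ⟨y, hyX⟩).2 (Subgroup.mem_subgroupOf.2 hy))
  have hstab : ∀ x : X, (x : G) ∈ Subgroup.normalizer (T.J : Set G) →
      ∃ p, κ.mem p ∧ T.Acts (x : G) (smap p) ∧ smap p v = v := by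
    intro x hx
    obtain ⟨p, hκ, hp⟩ := hF.dir _ hx
    exact ⟨p, hκ, hp, (Acts.comm_iff T hp).1 (Conf.mem_centQ.1 x.2)⟩
  -- the subgroup is a Sylow subgroup of the centraliser
  obtain ⟨Q, hQ⟩ := (IsPGroup.of_card (n := 3) (by rw [hJx]; norm_num) : IsPGroup 3 Jx).exists_le_sylow
  have hQe : (Q : Subgroup X) = Jx := by
    by_contra hne
    haveI : Group.IsNilpotent (Q : Subgroup X) := Q.2.isNilpotent
    have hlt : Jx.subgroupOf Q < ⊤ := lt_top_iff_ne_top.2 fun e =>
      hne (le_antisymm (Subgroup.subgroupOf_eq_top.1 e) hQ)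
    obtain ⟨x, hxN, hxJ⟩ := SetLike.exists_of_lt (Group.normalizerCondition_of_isNilpotent _ hlt)
    have hxN' : (x : X) ∈ Subgroup.normalizer (Jx : Set X) := by
      rw [Subgroup.mem_normalizer_iff]
      intro y
      refine ⟨fun hy => Subgroup.mem_subgroupOf.1 ((Subgroup.mem_normalizer_iff.1 hxN ⟨y, hQ hy⟩).1
        (Subgroup.mem_subgroupOf.2 hy)), fun hy => ?_⟩
      have hyQ : y ∈ (Q : Subgroup X) := by
        have := (Q : Subgroup X).mul_mem ((Q : Subgroup X).mul_mem ((Q : Subgroup X).inv_mem x.2) (hQ hy)) x.2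
        simpa [mul_assoc] using this
      exact Subgroup.mem_subgroupOf.1 ((Subgroup.mem_normalizer_iff.1 hxN ⟨y, hyQ⟩).2
        (Subgroup.mem_subgroupOf.2 hy))
    obtain ⟨p, hκ, hp, hpv⟩ := hstab x ((hmemN x).1 hxN')
    have hit : ∀ n : ℕ, T.Acts (((x : X) : G) ^ n) ((smap p)^[n]) := by
      intro n
      induction n with
      | zero => exact fun u => by simp
      | succ n ih => exact fun u => by rw [pow_succ, Function.iterate_succ_apply]; exact Acts.mul T ih hp u
    have h8 : ((x : X) : G) ^ 8 ∈ T.J := T.mem_J_of_acts fun u => by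
      rw [hit 8 u, h8 p hκ hpv u]
      rfl
    have h81 : ((x : X) : G) ^ 81 = 1 := by
      have hc : Nat.card (Q : Subgroup X) ≤ 81 := by
        rw [← Subgroup.card_map_of_injective X.subtype_injective]
        exact T.card_le_of_isPGroup (Q.2.map X.subtype)
      obtain ⟨n, hn⟩ := IsPGroup.iff_card.1 Q.2
      rw [hn] at hc
      have hn4 : n ≤ 4 := (Nat.pow_le_pow_iff_right (by norm_num : 1 < 3)).1 (by simpa using hc)
      have hd : orderOf x ∣ 81 := (orderOf_dvd_natCard x).trans (hn ▸ pow_dvd_pow 3 hn4)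
      have := orderOf_dvd_iff_pow_eq_one.1 hd
      exact congrArg (fun z : (Q : Subgroup X) => ((z : X) : G)) this
    refine hxJ (Subgroup.mem_subgroupOf.2 (Subgroup.mem_subgroupOf.2 ?_))
    have : ((x : X) : G) = ((x : X) : G) ^ 81 * ((((x : X) : G) ^ 8) ^ 10)⁻¹ := by
      rw [← pow_mul, eq_mul_inv_iff_mul_eq, ← pow_succ']
    rw [this, h81, one_mul]
    exact T.J.inv_mem (T.J.pow_mem h8 10)
  have hLJ : L ≤ Jx := fun x hx => by
    obtain ⟨a, ha⟩ := T.mem_lineQ.1 hx
    exact Subgroup.mem_subgroupOf.2 (ha ▸ T.q_mem _)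
  have hLc : Nat.card L = 3 := by
    rw [hL, lineQ, Nat.card_congr (Subgroup.subgroupOfEquivOfLe (Subgroup.zpowers_le.2 (hJX (T.q_mem v)))).toEquiv,
      Nat.card_zpowers, orderOf_eq_prime (T.q_cube v) fun h => hv (T.q_eq_one.1 h)]
  have hcomap : (Jx.map π).comap π = Jx :=
    Subgroup.comap_map_eq_self (by rw [hπ, QuotientGroup.ker_mk']; exact hLJ)
  have hidx : (Jx.map π).index = Jx.index := by
    conv_rhs => rw [← hcomap, Subgroup.index_comap_of_surjective _ (QuotientGroup.mk'_surjective L)]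
  have hc9 : Nat.card (Jx.map π) = 9 := by
    have h1 := (Jx.map π).card_mul_index
    have h2 := Jx.card_mul_index
    rw [hidx] at h1
    rw [hJx, Subgroup.card_eq_card_quotient_mul_card_subgroup L, hLc, ← h1] at h2
    have h3 : 27 * Jx.index = Nat.card (Jx.map π) * 3 * Jx.index := by rw [h2]; ring
    have := Nat.eq_of_mul_eq_mul_right (Nat.pos_of_ne_zero Subgroup.index_ne_zero_of_finite) h3
    omega
  have hnd : ¬ 3 ∣ (Jx.map π).index := by
    rw [hidx, ← hQe]
    exact Q.not_dvd_index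
  set P : Sylow 3 (X ⧸ L) :=
    (IsPGroup.of_card (n := 2) (by rw [hc9]; norm_num) : IsPGroup 3 (Jx.map π)).toSylow hnd
  have hNc : (Subgroup.normalizer ((Jx.map π) : Set (X ⧸ L))).comap π =
      (Subgroup.normalizer (T.J : Set G)).subgroupOf X := by
    rw [Subgroup.comap_normalizer_eq_of_surjective _ (QuotientGroup.mk'_surjective L), hcomap]
    ext x
    exact hmemN x
  have hab : ∀ x ∈ Jx.map π, ∀ y ∈ Jx.map π, x * y = y * x := by
    rintro _ ⟨x, hx, rfl⟩ _ ⟨y, hy, rfl⟩
    rw [← map_mul, ← map_mul]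
    exact congrArg π (Subtype.ext (T.J_comm (Subgroup.mem_subgroupOf.1 hx) (Subgroup.mem_subgroupOf.1 hy)))
  refine ⟨P, rfl, ⟨⟨⟨fun x y => Subtype.ext (hab _ x.2 _ y.2)⟩⟩, ?_⟩, hc9, ?_, ?_, hNc⟩
  · rintro _ ⟨x, hx, rfl⟩
    obtain ⟨u, hu⟩ := T.mem_J.1 (Subgroup.mem_subgroupOf.1 hx)
    rw [← map_pow, ← map_one π]
    exact congrArg π (Subtype.ext (by rw [SubgroupClass.coe_pow, ← hu, T.q_cube]; rfl))
  · refine le_antisymm (fun xb hxb => ?_)
      fun x hx => Subgroup.mem_centralizer_iff.2 fun y hy => hab y hy x hx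
    obtain ⟨x, rfl⟩ := QuotientGroup.mk'_surjective L xb
    have hxN : x ∈ (Subgroup.normalizer ((Jx.map π) : Set (X ⧸ L))).comap π :=
      Subgroup.centralizer_le_normalizer _ hxb
    rw [hNc] at hxN
    obtain ⟨p, hκ, hp, hpv⟩ := hstab x (Subgroup.mem_subgroupOf.1 hxN)
    have hid := hsh p hκ hpv fun w => by
      have h1 := Subgroup.mem_centralizer_iff.1 hxb (π ⟨T.q w, hJX (T.q_mem w)⟩)
        ⟨_, Subgroup.mem_subgroupOf.2 (T.q_mem w), rfl⟩
      rw [← map_mul, ← map_mul] at h1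
      obtain ⟨a, ha⟩ := T.mem_lineQ.1 ((QuotientGroup.eq).1 h1)
      refine ⟨a, T.q_inj ?_⟩
      rw [T.q_add, ← hp w]
      exact T.shift_conj a (Conf.mem_centQ.1 x.2) (by simpa only [Subgroup.coe_mul, Subgroup.coe_inv] using ha.symm)
    exact ⟨x, Subgroup.mem_subgroupOf.2 (T.mem_J_of_acts fun u => by rw [hp u, hid u]; rfl), rfl⟩
  · rintro _ ⟨y, hy, rfl⟩ hy1 xb hxb
    obtain ⟨x, rfl⟩ := QuotientGroup.mk'_surjective L xb
    show π x ∈ Subgroup.normalizer ((Jx.map π) : Set (X ⧸ L))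
    rw [← Subgroup.mem_comap, hNc]
    refine Subgroup.mem_subgroupOf.2 ?_
    obtain ⟨w, hwq⟩ := T.mem_J.1 (Subgroup.mem_subgroupOf.1 hy)
    have hind : indep v w := indep_of_not v w hv fun a ha => hy1 ((QuotientGroup.eq_one_iff y).2
      (T.mem_lineQ.2 ⟨a, by rw [← hwq, ha]⟩))
    have h1 := (Subgroup.mem_centralizer_singleton_iff.1 hxb).symm
    rw [← map_mul, ← map_mul] at h1
    obtain ⟨a, ha⟩ := T.mem_lineQ.1 ((QuotientGroup.eq).1 h1)
    refine hF.plane_conj hind (mul_inv_eq_iff_eq_mul.2 (Conf.mem_centQ.1 x.2)) (w' := w + a • v) ?_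
    rw [T.q_add]
    exact T.shift_conj a (Conf.mem_centQ.1 x.2) (by simpa only [Subgroup.coe_mul, Subgroup.coe_inv, hwq] using ha.symm)

/-- The permutations induced by the normaliser in the centraliser. -/
theorem induced {v : V3} (hv : v ≠ 0) (hw : v.1 = 0 ∨ v.2.1 = 0 ∨ v.2.2 = 0)
    (hall : ∀ p, smap p v = v → κ.mem p) [hn : (T.lineQ v).Normal]
    {D : Type*} [Group D] [Finite D] (code : Fin 24 × Bool → D) (hcard : Nat.card D =
      (Finset.univ.filter fun p : Fin 24 × Bool => smap p v = v).card)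
    (hmul : ∀ p, smap p v = v → ∀ q, smap q v = v → ∀ r, (∀ u, smap r u = smap p (smap q u)) →
      code r = code p * code q)
    (hinj : ∀ p, smap p v = v → code p = 1 → ∀ u, smap p u = u) :
    ∃ P : Sylow 3 (T.centQ v ⧸ T.lineQ v),
      Cfsg.IsElementaryAbelian 3 (P : Subgroup (T.centQ v ⧸ T.lineQ v)) ∧ Nat.card P = 9 ∧
      Subgroup.centralizer ((P : Subgroup (T.centQ v ⧸ T.lineQ v)) : Set (T.centQ v ⧸ T.lineQ v)) = P ∧
      (∀ x ∈ (P : Subgroup (T.centQ v ⧸ T.lineQ v)), x ≠ 1 → Subgroup.centralizer ({x} : Set (T.centQ v ⧸ T.lineQ v)) ≤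
        Subgroup.normalizer ((P : Subgroup (T.centQ v ⧸ T.lineQ v)) : Set (T.centQ v ⧸ T.lineQ v))) ∧
      (Subgroup.normalizer ((P : Subgroup (T.centQ v ⧸ T.lineQ v)) : Set (T.centQ v ⧸ T.lineQ v))).comap (QuotientGroup.mk' _) =
        (Subgroup.normalizer (T.J : Set G)).subgroupOf (T.centQ v) ∧
      ∃ (_ : ((P : Subgroup (T.centQ v ⧸ T.lineQ v)).subgroupOf (Subgroup.normalizer
          ((P : Subgroup (T.centQ v ⧸ T.lineQ v)) : Set (T.centQ v ⧸ T.lineQ v)))).Normal),
        Nonempty (Subgroup.normalizer ((P : Subgroup (T.centQ v ⧸ T.lineQ v)) : Set (T.centQ v ⧸ T.lineQ v)) ⧸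
          (P : Subgroup (T.centQ v ⧸ T.lineQ v)).subgroupOf (Subgroup.normalizer
            ((P : Subgroup (T.centQ v ⧸ T.lineQ v)) : Set _)) ≃* D) := by
  classical
  obtain ⟨P, hP, hE, h9, hC, hloc, hN⟩ := hF.quot_local hv (fun p _ hp => stab_eight v hv hw p hp) (fun p _ hp => stab_shift v hv hw p hp)
  refine ⟨P, hE, h9, hC, hloc, hN, ?_⟩
  set X := T.centQ v
  set π := QuotientGroup.mk' (T.lineQ v)
  set NP := Subgroup.normalizer ((P : Subgroup (X ⧸ T.lineQ v)) : Set (X ⧸ T.lineQ v)) with hNP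
  set Nx := (Subgroup.normalizer (T.J : Set G)).subgroupOf X with hNx
  have hmem : ∀ x : Nx, ∃ p, T.Acts ((x : X) : G) (smap p) ∧ smap p v = v := by
    intro x
    obtain ⟨p, hp⟩ := hF.acts_smap (Subgroup.mem_subgroupOf.1 x.2)
    exact ⟨p, hp, (Acts.comm_iff T hp).1 (Conf.mem_centQ.1 (x : X).2)⟩
  choose pf hpf hpv using hmem
  let f : Nx →* D := MonoidHom.mk' (fun x => code (pf x)) fun x y => by
    refine hmul _ (hpv x) _ (hpv y) _ fun u => T.q_inj ?_
    rw [← hpf (x * y) u, ← Acts.mul T (hpf x) (hpf y) u]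
    rfl
  have hker : ∀ x : Nx, f x = 1 ↔ ((x : X) : G) ∈ T.J := by
    intro x
    constructor
    · intro h
      exact T.mem_J_of_acts fun u => by rw [hpf x u, hinj _ (hpv x) h u]; rfl
    · intro h
      have h1 : ∀ u, smap (pf x) u = u := fun u => T.q_inj (by
        rw [← hpf x u, T.acts_of_mem h u]
        rfl)
      have h2 := hmul _ (hpv x) _ (hpv x) (pf x) fun u => by rw [h1, h1]
      exact left_eq_mul.1 h2
  let g : Nx →* NP := MonoidHom.mk' (fun x => ⟨π (x : X), by
    rw [← Subgroup.mem_comap, hN]; exact x.2⟩) fun x y => Subtype.ext (map_mul π _ _)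
  haveI hNn : ((P : Subgroup (X ⧸ T.lineQ v)).subgroupOf NP).Normal := Subgroup.normal_in_normalizer
  refine ⟨hNn, ?_⟩
  let g' : Nx →* NP ⧸ (P : Subgroup (X ⧸ T.lineQ v)).subgroupOf NP := (QuotientGroup.mk' _).comp g
  have hg' : Function.Surjective g' := by
    intro z
    obtain ⟨⟨y, hy⟩, rfl⟩ := QuotientGroup.mk'_surjective _ z
    obtain ⟨x, rfl⟩ := QuotientGroup.mk'_surjective (T.lineQ v) y
    exact ⟨⟨x, by rw [← hN]; exact hy⟩, rfl⟩
  have hkk : g'.ker = f.ker := by
    ext x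
    rw [MonoidHom.mem_ker, MonoidHom.mem_ker, hker]
    show QuotientGroup.mk' ((P : Subgroup (X ⧸ T.lineQ v)).subgroupOf NP) (g x) = 1 ↔ _
    rw [QuotientGroup.mk'_apply]
    rw [QuotientGroup.eq_one_iff, Subgroup.mem_subgroupOf, hP]
    show π (x : X) ∈ _ ↔ _
    rw [← Subgroup.mem_comap, Subgroup.comap_map_eq_self (by
      rw [QuotientGroup.ker_mk']
      intro z hz
      obtain ⟨a, ha⟩ := T.mem_lineQ.1 hz
      exact Subgroup.mem_subgroupOf.2 (ha ▸ T.q_mem _))]
    exact Subgroup.mem_subgroupOf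
  have hrange : Nat.card f.range = Nat.card D := by
    refine le_antisymm (Nat.card_le_card_of_injective (fun y => (y : D)) Subtype.val_injective) ?_
    rw [hcard, ← Fintype.card_coe, ← Nat.card_eq_fintype_card]
    have hex : ∀ p : {p // p ∈ Finset.univ.filter fun p : Fin 24 × Bool => smap p v = v},
        ∃ x : Nx, ∀ u, smap (pf x) u = smap p.1 u := by
      intro p
      obtain ⟨g₀, hg₀⟩ := hF.all p.1 (hall _ (Finset.mem_filter.1 p.2).2)
      have hgX : g₀ ∈ X := Conf.mem_centQ.2 ((Acts.comm_iff T hg₀).2 (Finset.mem_filter.1 p.2).2)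
      refine ⟨⟨⟨g₀, hgX⟩, Subgroup.mem_subgroupOf.2 (Acts.mem_normalizer T hg₀)⟩, fun u => T.q_inj ?_⟩
      rw [← hpf _ u]
      exact hg₀ u
    choose xf hxf using hex
    refine Nat.card_le_card_of_injective (fun p => (⟨f (xf p), ⟨_, rfl⟩⟩ : f.range)) fun p q h => ?_
    have h1 : f ((xf p)⁻¹ * xf q) = 1 := by
      rw [map_mul, map_inv, inv_mul_eq_one]
      exact congrArg Subtype.val h
    have h2 := (hker _).1 h1
    refine Subtype.ext (smap_ext _ _ fun i => ?_)
    rw [← hxf p, ← hxf q]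
    refine T.q_inj ?_
    rw [← hpf _ (unitV i), ← hpf _ (unitV i)]
    have h3 := T.acts_of_mem h2 (unitV i)
    simp only [Subgroup.coe_mul, Subgroup.coe_inv, id] at h3
    calc ((xf p : X) : G) * T.q (unitV i) * ((xf p : X) : G)⁻¹
        = ((xf p : X) : G) * ((((xf p : X) : G)⁻¹ * ((xf q : X) : G)) * T.q (unitV i) *
            (((xf p : X) : G)⁻¹ * ((xf q : X) : G))⁻¹) * ((xf p : X) : G)⁻¹ := by rw [h3]
      _ = _ := by group
  have hsurj : f.range = ⊤ := Subgroup.eq_top_of_card_eq _ hrange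
  exact ⟨((QuotientGroup.quotientKerEquivOfSurjective g' hg').symm.trans
    (QuotientGroup.quotientMulEquivOfEq hkk)).trans
      (QuotientGroup.quotientKerEquivOfSurjective f (MonoidHom.range_eq_top.1 hsurj))⟩

/-- With an automiser of exponent two the centraliser normalises the subgroup. -/
theorem cent_of_sq {v : V3} (hv : v ≠ 0) (hsq : ∀ p, κ.mem p → smap p v = v → ∀ u, smap p (smap p u) = u) :
    T.centQ v ≤ Subgroup.normalizer (T.J : Set G) := by
  classical
  haveI := T.lineQ_normal v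
  obtain ⟨P, hP, hE, h9, hC, hloc, hN⟩ := hF.quot_local hv (fun p hp hpv u => by
      simp only [Function.iterate_succ, Function.iterate_zero, Function.comp, id, hsq p hp hpv])
    (fun p hp hpv h u => by
      obtain ⟨a, ha⟩ := h u
      have h2 := hsq p hp hpv u
      rw [ha, smap_add, ha, show smap p (a • v) = a • v from
        (ZMod.map_smul (AddMonoidHom.mk' (smap p) (smap_add p)) a v).trans (congrArg (a • ·) hpv), add_assoc,
        add_eq_left, ← add_smul] at h2
      rcases smul_eq_zero.1 h2 with h3 | h3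
      · rw [ha, (show ∀ a : ZMod 3, a + a = 0 → a = 0 by decide) a h3, zero_smul, add_zero]
      · exact absurd h3 hv)
  set π := QuotientGroup.mk' (T.lineQ v)
  have htop := plane_normal (P : Subgroup (T.centQ v ⧸ T.lineQ v)) h9 hE.1 (fun e he => hE.2 e he) hC hloc
    fun gb hgb => by
      obtain ⟨x, rfl⟩ := QuotientGroup.mk'_surjective (T.lineQ v) gb
      have hxN : (x : G) ∈ Subgroup.normalizer (T.J : Set G) :=
        Subgroup.mem_subgroupOf.1 (hN ▸ (hgb : x ∈ _) : x ∈ (Subgroup.normalizer (T.J : Set G)).subgroupOf (T.centQ v))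
      obtain ⟨p, hκ, hp⟩ := hF.dir _ hxN
      have hpv := (Acts.comm_iff T hp).1 (Conf.mem_centQ.1 x.2)
      rw [← map_mul, hP]
      refine ⟨x * x, Subgroup.mem_subgroupOf.2 (T.mem_J_of_acts fun u => ?_), rfl⟩
      exact (Acts.mul T hp hp u).trans (congrArg T.q (hsq p hκ hpv u))
  intro x hx
  have : (⟨x, hx⟩ : T.centQ v) ∈ (Subgroup.normalizer (T.J : Set G)).subgroupOf (T.centQ v) := by
    rw [← hN, htop]
    exact Subgroup.mem_top _
  exact Subgroup.mem_subgroupOf.1 this

/-- Conjugate vectors have conjugate centralisers. -/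
theorem cent_conj {v : V3} {g : G} {f : V3 → V3} (hg : T.Acts g f)
    (h : T.centQ (f v) ≤ Subgroup.normalizer (T.J : Set G)) : T.centQ v ≤ Subgroup.normalizer (T.J : Set G) := by
  intro x hx
  have h1 := h (Conf.mem_centQ.2 (T.acts_conj_comm hg (Conf.mem_centQ.1 hx)))
  have hgN := Acts.mem_normalizer T hg
  have h2 := Subgroup.mul_mem _ (Subgroup.mul_mem _ (Subgroup.inv_mem _ hgN) h1) hgN
  rwa [show g⁻¹ * (g * x * g⁻¹) * g = x by group] at h2

theorem centQ_neg (v : V3) : T.centQ (-v) = T.centQ v := by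
  ext x
  rw [Conf.mem_centQ, Conf.mem_centQ, T.q_neg]
  exact ⟨fun h => by simpa using (show Commute x (T.q v)⁻¹ from h).inv_right.eq,
    fun h => (show Commute x (T.q v) from h).inv_right.eq⟩

/-- All centralisers normalise the subgroup, or the third axis is exceptional. -/
theorem cent_le_of_axis (hax : κ = .eight → T.centQ (0, 0, 1) ≤ Subgroup.normalizer (T.J : Set G))
    {v : V3} (hv : v ≠ 0) : T.centQ v ≤ Subgroup.normalizer (T.J : Set G) := by
  rcases vector_cases κ v hv with ⟨p, hp, hd⟩ | hsq | ⟨rfl, p, hp⟩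
  · obtain ⟨g, hg⟩ := hF.all p hp
    refine hF.cent_conj hg ?_
    rcases hd with hd | hd <;> rw [hd]
    · exact T.centQ_dia_le
    · rw [hF.centQ_neg]; exact T.centQ_dia_le
  · exact hF.cent_of_sq hv hsq
  · obtain ⟨g, hg⟩ := hF.all p trivial
    exact hF.cent_conj hg (hp.symm ▸ hax rfl)

/-- The centraliser of an element of the first kind normalises the subgroup or is a cover of the symmetric group
of degree six. -/
theorem axis_cent (hall : ∀ p, κ.mem p) : T.centQ (0, 0, 1) ≤ Subgroup.normalizer (T.J : Set G) ∨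
    ∃ π : T.centQ (0, 0, 1) →* Equiv.Perm (Fin 6), Function.Surjective π ∧ π.ker = T.lineQ (0, 0, 1) := by
  classical
  haveI : Fact (Nat.Prime 3) := ⟨Nat.prime_three⟩
  haveI := T.lineQ_normal (0, 0, 1)
  obtain ⟨P, hE, h9, hC, hloc, hN, hPn, ⟨e⟩⟩ := hF.induced axis_facts.1 (Or.inl rfl) (fun p _ => hall p)
    (fun p => dcode (smap p (1, 0, 0)) (smap p (0, 1, 0))) (by rw [stab_axis_card, DihedralGroup.nat_card])
    (fun p hp q hq r hr => by simp only [hr]; exact dcode_mul p hp q hq)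
    (fun p hp h => dcode_inj p hp h)
  haveI := hPn
  rcases Cfsg.Agent.S3333.result P (P : Subgroup (T.centQ (0, 0, 1) ⧸ T.lineQ (0, 0, 1))) rfl h9 hC e hloc with
    hn | ⟨⟨f⟩⟩
  · left
    intro x hx
    have : (⟨x, hx⟩ : T.centQ (0, 0, 1)) ∈ (Subgroup.normalizer (T.J : Set G)).subgroupOf (T.centQ (0, 0, 1)) := by
      rw [← hN, Subgroup.normalizer_eq_top_iff.2 hn]
      exact Subgroup.mem_top _
    exact Subgroup.mem_subgroupOf.1 this
  · right
    refine ⟨f.toMonoidHom.comp (QuotientGroup.mk' _), f.surjective.comp (QuotientGroup.mk'_surjective _), ?_⟩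
    ext x
    simp

end Framed

end Conf

end Cfsg.Agent.Spor.SymNine
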