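import Cfsg.Agent.Lib.Spor.SymNine.Frame
import Cfsg.Agent.Lib.Solv.Special.Main

/-!
Finite facts for the monomial case.
-/

set_option autoImplicit false
set_option maxRecDepth 100000
set_option synthInstance.maxSize 4096
set_option synthInstance.maxHeartbeats 200000

namespace Cfsg.Agent.Spor.SymNine

open Cfsg.Agent.Lie.PSpFourThreeAmalgam (V3 mU mT mA mB act act_add eta pT pU pA pB)
open Cfsg.Agent.Lie.PSpFourThreeFull (ext_additive)
open Cfsg.Agent.Solv.Special (D3 T3 M108)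

theorem act_idx : ∀ i j : Fin 24, (∀ v, act i v = act j v) → i = j := by decide +kernel

/-- The basis. -/
def units : List V3 := [(1, 0, 0), (0, 1, 0), (0, 0, 1)]

theorem act_comp_units : ∀ i j : Fin 24, ∃ k, (∀ u ∈ units, act k u = act i (act j u)) ∧
    eta k = eta i * eta j := by decide +kernel

theorem act_comp (i j : Fin 24) : ∃ k, (∀ v, act k v = act i (act j v)) ∧ eta k = eta i * eta j := by
  obtain ⟨k, hk, he⟩ := act_comp_units i j
  exact ⟨k, ext_additive (act_add k) (fun v w => by rw [act_add, act_add]) hk, he⟩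

theorem eta_idx : ∀ i : Fin 24, eta i = 1 → i = 0 := by decide +kernel

theorem idx_facts :
    (∀ v, act 0 v = v) ∧ eta 0 = 1 ∧ (∀ v, act 1 v = mT v) ∧ eta 1 = pT ∧ (∀ v, act 2 v = mU v) ∧ eta 2 = pU ∧
      (∀ v, act 6 v = mA v) ∧ eta 6 = pA ∧ (∀ v, act 12 v = mB v) ∧ eta 12 = pB := by decide +kernel

/-- Membership in the four-group. -/
def v4 (σ : Equiv.Perm (Fin 4)) : Prop := σ = 1 ∨ σ = pA ∨ σ = pB ∨ σ = pA * pB

instance (σ : Equiv.Perm (Fin 4)) : Decidable (v4 σ) := inferInstanceAs (Decidable (_ ∨ _))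

theorem v4_even : ∀ σ : Equiv.Perm (Fin 4), v4 σ → Equiv.Perm.sign σ = 1 := by decide +kernel

theorem even_cases : ∀ σ : Equiv.Perm (Fin 4), Equiv.Perm.sign σ = 1 →
    v4 σ ∨ v4 (σ * pU⁻¹) ∨ v4 (σ * pU) := by decide +kernel

/-- The quotient of the alternating group by the four-group. -/
def c3 (σ : Equiv.Perm (Fin 4)) : ZMod 3 := if v4 σ then 0 else if v4 (σ * pU⁻¹) then 1 else 2

theorem c3_mul : ∀ σ τ : Equiv.Perm (Fin 4), Equiv.Perm.sign σ = 1 → Equiv.Perm.sign τ = 1 →
    c3 (σ * τ) = c3 σ + c3 τ := by decide +kernel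

theorem sign_facts : Equiv.Perm.sign pT = -1 ∧ Equiv.Perm.sign pU = 1 ∧ c3 pU = 1 := by decide +kernel

theorem comm_three : ∀ σ : Equiv.Perm (Fin 4), σ ^ 3 = 1 →
    σ * (pA * σ * pA) = pA * σ * pA * σ → σ = 1 := by decide +kernel

theorem sign_images : ∀ v : V3, ∃ w w' : V3, v = mA w + -w + (mB w' + -w') := by decide +kernel

theorem mA_fix : ∀ w : V3, mA w = w → ∀ v, mA v + (w + w) = mA (v + (w + w)) := by decide +kernel

theorem m_comm : ∀ v : V3, mA (mB (mA (mB v))) = v ∧ mA (mB (mA v)) = mB v := by decide +kernel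

theorem both_neg : ∀ u : V3, mA u = -u → mB u = -u → mA (-u) + mB (-u) + u = 0 ∧ -u + mB (-u) = 0 := by
  decide +kernel

/-- A twist of an element outside the base by the base. -/
theorem base_twist : ∀ m : Wr, ¬ inJ m → m * m * m = 1 → ∃ v, jc v * m * (jc v)⁻¹ = cc * m := by decide +kernel

/-- An element of order nine. -/
def nn : Wr := jc (1, 0, 0) * sm

theorem nn_nine : nn ^ 9 = 1 := by decide +kernel

theorem nn_pows : ∀ m : Fin 9, m ≠ 0 → ∃ j : Fin 9, nn ^ (m.val * j.val) = cc := by decide +kernel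

/-- The rotation part. -/
def rv : D3 → ZMod 3
  | .r i => i
  | .sr i => -i

/-- The reflection part. -/
def fl : D3 → ℕ
  | .r _ => 0
  | .sr _ => 1

/-- The coordinates of an element of the special group. -/
def vec (t : M108) : V3 := (rv (t : T3).1, rv (t : T3).2.1, rv (t : T3).2.2)

/-- The first sign. -/
def ca (t : M108) : ℕ := fl (t : T3).2.1

/-- The second sign. -/
def cb (t : M108) : ℕ := fl (t : T3).1

theorem m108_mul : ∀ t u : M108, vec (t * u) = vec t + mA^[ca t] (mB^[cb t] (vec u)) ∧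
    ca (t * u) = (ca t + ca u) % 2 ∧ cb (t * u) = (cb t + cb u) % 2 := by decide +kernel

theorem m108_inj : ∀ t : M108, ca t = 0 → cb t = 0 → vec t = 0 → t = 1 := by decide +kernel

theorem m108_surj : ∀ (v : V3) (a b : Fin 2), ∃ t : M108, vec t = v ∧ ca t = a.val ∧ cb t = b.val := by
  decide +kernel

theorem sign_idx : ∀ a b : Fin 2, ∀ i : Fin 24, (∀ v, act i v = mA^[a.val] (mB^[b.val] v)) →
    eta i = pA ^ a.val * pB ^ b.val ∧ ((∀ v, act i v = v) → a = 0 ∧ b = 0) := by decide +kernel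

theorem sign_exists : ∀ a b : Fin 2, ∃ i : Fin 24, ∀ v, act i v = mA^[a.val] (mB^[b.val] v) := by decide +kernel

theorem v4_words : ∀ σ : Equiv.Perm (Fin 4), v4 σ ↔ ∃ a b : Fin 2, σ = pA ^ a.val * pB ^ b.val := by
  decide +kernel

end Cfsg.Agent.Spor.SymNine
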