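import Cfsg.Agent.Lib.Spor.SymNine.Setup

/-!
The four possible actions of the normaliser on the base, in a monomial frame.
-/

set_option autoImplicit false
set_option linter.unusedSectionVars false
set_option maxRecDepth 100000
set_option synthInstance.maxSize 4096
set_option synthInstance.maxHeartbeats 200000

namespace Cfsg.Agent.Spor.SymNine

open Cfsg.Agent.Lie.PSpFourThreeAmalgam (V3 mU mT act)
open Cfsg.Agent.Lie.PSpFourThreeFull (six dia sh sh_neg sh_add sh_dia sh_six sh_negv smap ext_additive)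

/-- The four kinds of the induced group: the symmetric group, with signs, the monomial group, with signs. -/
inductive Kind | one | two | four | eight
deriving DecidableEq

instance : Fintype Kind := ⟨{.one, .two, .four, .eight}, fun κ => by cases κ <;> simp⟩

/-- The monomial maps of a kind. -/
def Kind.mem : Kind → Fin 24 × Bool → Prop
  | .one, p => p.2 = true ∧ act p.1 dia = dia
  | .two, p => act p.1 dia = dia
  | .four, p => p.2 = true
  | .eight, _ => True

instance : ∀ (κ : Kind) (p : Fin 24 × Bool), Decidable (κ.mem p)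
  | .one, p => inferInstanceAs (Decidable (p.2 = true ∧ act p.1 dia = dia))
  | .two, p => inferInstanceAs (Decidable (act p.1 dia = dia))
  | .four, p => inferInstanceAs (Decidable (p.2 = true))
  | .eight, _ => inferInstanceAs (Decidable True)

theorem six_act : ∀ k : Fin 6, ∃ i, act i dia = dia ∧ ∀ v : V3, six k v = act i v := by decide +kernel

theorem act_six : ∀ i : Fin 24, act i dia = dia → ∃ k : Fin 6, ∀ v : V3, act i v = six k v := by decide +kernel

/-- The twist of the model by a shift along the diagonal. -/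
def twist (l : ZMod 3) : Wr →* Wr where
  toFun m := ⟨sh l m.v, m.k⟩
  map_one' := Wr.ext ((show ∀ l : ZMod 3, sh l (0 : V3) = 0 by decide) l) rfl
  map_mul' a b := Wr.ext (show sh l (a.v + six a.k b.v) = sh l a.v + six a.k (sh l b.v) by
    rw [sh_add, sh_six]) rfl

theorem twist_inj (l : ZMod 3) : Function.Injective (twist l) := fun a b h =>
  Wr.ext (by rw [← (sh_neg l a.v).2, show sh l a.v = sh l b.v from congrArg Wr.v h, (sh_neg l b.v).2])
    (congrArg Wr.k h :)

namespace Conf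

variable {G : Type*} [Group G] [Finite G]

/-- The induced monomial maps are exactly those of the kind. -/
structure Framed (T : Conf G) (κ : Kind) : Prop where
  dir : ∀ g ∈ Subgroup.normalizer (T.J : Set G), ∃ p, κ.mem p ∧ T.Acts g (smap p)
  all : ∀ p, κ.mem p → ∃ g, T.Acts g (smap p)

/-- The frame can be shifted along the diagonal. -/
theorem exists_straight (T : Conf G) (l : ZMod 3) :
    ∃ T' : Conf G, T'.a = T.a ∧ T'.J = T.J ∧ ∀ v, T'.q v = T.q (sh l v) := by
  have hrange : (T.φ.comp (twist l)).range = T.φ.range := by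
    rw [MonoidHom.range_comp, MonoidHom.range_eq_top.2
      (Finite.injective_iff_surjective.1 (twist_inj l)), ← MonoidHom.range_eq_map]
  have hJ : Jm.map (T.φ.comp (twist l)) = T.J := by
    rw [← Subgroup.map_map]
    refine congrArg (Subgroup.map T.φ) (Subgroup.eq_of_le_of_card_ge ?_
      (by rw [Subgroup.card_map_of_injective (twist_inj l)]))
    rintro _ ⟨m, hm, rfl⟩
    exact mem_Jm.2 (show inJ m from mem_Jm.1 hm)
  have hc : twist l cc = cc := Wr.ext (sh_dia l) rfl
  refine ⟨⟨T.φ.comp (twist l), T.inj.comp (twist_inj l), ?_, fun K hK hJK => T.sig K hK (hJ.symm.le.trans hJK)⟩,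
    ?_, hJ, fun v => rfl⟩
  · rw [hrange, MonoidHom.comp_apply, hc]
    exact T.range_eq
  · show T.φ (twist l cc) = _
    rw [hc]
    rfl

/-- There is a monomial frame. -/
theorem exists_framed (T : Conf G) :
    ∃ (T' : Conf G) (κ : Kind), T'.a = T.a ∧ T'.J = T.J ∧ T'.Framed κ := by
  have hact : ∀ g : Subgroup.normalizer (T.J : Set G), T.Acts g (T.conjPerm g) := fun g v => T.conjPerm_spec g v
  rcases T.wdata.card_cases with ⟨hn, h1 | h4⟩ | ⟨hn, h2 | h8⟩
  · refine ⟨T, .one, rfl, rfl, ⟨fun g hg => ?_, fun p hp => ?_⟩⟩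
    · obtain ⟨x, hx⟩ := Finset.card_eq_one.1 h1
      have hd : T.conjPerm ⟨g, hg⟩ dia = dia := by
        have h3 := T.wdata.orb_map (w := T.conjPerm ⟨g, hg⟩) ⟨_, rfl⟩ T.wdata.dia_mem
        have h4 := T.wdata.dia_mem
        rw [hx, Finset.mem_singleton] at h3 h4
        rw [h3, h4]
      obtain ⟨k, hk⟩ := T.wdata.stab _ ⟨_, rfl⟩ hd
      obtain ⟨i, hi, hiv⟩ := six_act k
      exact ⟨(i, true), ⟨rfl, hi⟩, fun v => by rw [hact ⟨g, hg⟩ v, hk, hiv]; rfl⟩
    · obtain ⟨k, hk⟩ := act_six p.1 hp.2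
      obtain ⟨_, ⟨g, rfl⟩, hg⟩ := T.wdata.real k
      exact ⟨g, fun v => by rw [hact g v, hg, smap, if_pos hp.1, hk]⟩
  · obtain ⟨l, hdir, hall⟩ := T.wdata.monomial hn h4
    obtain ⟨T', ha, hJ, hq⟩ := T.exists_straight l
    refine ⟨T', .four, ha, hJ, ⟨fun g hg => ?_, fun p hp => ?_⟩⟩
    · rw [hJ] at hg
      obtain ⟨i, hi⟩ := hdir _ ⟨⟨g, hg⟩, rfl⟩
      exact ⟨(i, true), rfl, fun v => by rw [hq, hq, hact ⟨g, hg⟩, hi]; rfl⟩
    · obtain ⟨_, ⟨g, rfl⟩, hg⟩ := hall p.1
      exact ⟨g, fun v => by rw [hq, hq, hact g, hg, smap, if_pos (show p.2 = true from hp)]⟩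
  · obtain ⟨z, hz, hzv⟩ := T.wdata.exists_neg hn
    have horb : ∀ v ∈ T.wdata.orb, v = dia ∨ v = -dia := by
      intro v hv
      by_contra h
      push Not at h
      have h3 : ({v, dia, -dia} : Finset V3).card ≤ T.wdata.orb.card := Finset.card_le_card fun x hx => by
        simp only [Finset.mem_insert, Finset.mem_singleton] at hx
        rcases hx with rfl | rfl | rfl
        exacts [hv, T.wdata.dia_mem, hn]
      rw [h2, Finset.card_insert_of_notMem (by simp [h.1, h.2]), Finset.card_insert_of_notMem (by decide),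
        Finset.card_singleton] at h3
      omega
    refine ⟨T, .two, rfl, rfl, ⟨fun g hg => ?_, fun p hp => ?_⟩⟩
    · rcases horb _ (T.wdata.orb_map (w := T.conjPerm ⟨g, hg⟩) ⟨_, rfl⟩ T.wdata.dia_mem) with hd | hd
      · obtain ⟨k, hk⟩ := T.wdata.stab _ ⟨_, rfl⟩ hd
        obtain ⟨i, hi, hiv⟩ := six_act k
        exact ⟨(i, true), hi, fun v => by rw [hact ⟨g, hg⟩ v, hk, hiv]; rfl⟩
      · obtain ⟨k, hk⟩ := T.wdata.stab (z * T.conjPerm ⟨g, hg⟩) (T.W.mul_mem hz ⟨_, rfl⟩)
          (by rw [Equiv.Perm.mul_apply, hd, hzv, neg_neg])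
        obtain ⟨i, hi, hiv⟩ := six_act k
        refine ⟨(i, false), hi, fun v => ?_⟩
        have h3 := hk v
        rw [Equiv.Perm.mul_apply, hzv, hiv] at h3
        rw [hact ⟨g, hg⟩ v, ← neg_neg (T.conjPerm ⟨g, hg⟩ v), h3]
        rfl
    · obtain ⟨k, hk⟩ := act_six p.1 hp
      obtain ⟨w, hw, hwv⟩ := T.wdata.real k
      rcases hb : p.2 with _ | _
      · obtain ⟨g, hg⟩ := T.W.mul_mem hz hw
        exact ⟨g, fun v => by rw [hact g v, hg, Equiv.Perm.mul_apply, hzv, hwv, smap, hb, ← hk]; rfl⟩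
      · obtain ⟨g, hg⟩ := hw
        exact ⟨g, fun v => by rw [hact g v, hg, hwv, smap, hb, ← hk]; rfl⟩
  · obtain ⟨l, hdir, hall⟩ := T.wdata.signed_monomial hn h8
    obtain ⟨T', ha, hJ, hq⟩ := T.exists_straight l
    refine ⟨T', .eight, ha, hJ, ⟨fun g hg => ?_, fun p _ => ?_⟩⟩
    · rw [hJ] at hg
      obtain ⟨i, hi | hi⟩ := hdir _ ⟨⟨g, hg⟩, rfl⟩
      · exact ⟨(i, true), trivial, fun v => by rw [hq, hq, hact ⟨g, hg⟩, hi]; rfl⟩
      · exact ⟨(i, false), trivial, fun v => by rw [hq, hq, hact ⟨g, hg⟩, hi, ← sh_negv]; rfl⟩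
    · obtain ⟨⟨_, ⟨g₁, rfl⟩, h₁⟩, _, ⟨g₂, rfl⟩, h₂⟩ := hall p.1
      rcases hb : p.2 with _ | _
      · exact ⟨g₂, fun v => by rw [hq, hq, hact g₂, h₂, smap, hb, ← sh_negv]; rfl⟩
      · exact ⟨g₁, fun v => by rw [hq, hq, hact g₁, h₁, smap, hb]; rfl⟩

/-- The element is inverted exactly for two of the kinds. -/
theorem Framed.inverted {T : Conf G} {κ : Kind} (hF : T.Framed κ) :
    (∃ g : G, g * T.a * g⁻¹ = T.a⁻¹) ↔ κ = .two ∨ κ = .eight := by
  rw [← T.neg_mem_orb_iff, T.wdata.mem_orb]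
  constructor
  · rintro ⟨_, ⟨g, rfl⟩, hg⟩
    obtain ⟨p, hp, hpv⟩ := hF.dir g g.2
    have h := (T.conjPerm_spec g dia).symm.trans (hpv dia)
    rw [hg] at h
    exact (show ∀ κ : Kind, ∀ p : Fin 24 × Bool, κ.mem p → smap p dia = -dia → κ = .two ∨ κ = .eight by
      decide +kernel) κ p hp (T.q_inj h).symm
  · intro h
    have hp : κ.mem (0, false) := by rcases h with rfl | rfl <;> decide
    obtain ⟨g, hg⟩ := hF.all _ hp
    refine ⟨T.conjPerm ⟨g, Acts.mem_normalizer T hg⟩, ⟨_, rfl⟩, T.q_inj ?_⟩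
    exact (T.conjPerm_spec ⟨g, _⟩ dia).symm.trans ((hg dia).trans (congrArg T.q
      ((show smap (0, false) dia = -dia by decide))))

/-- The centraliser of one element of the subgroup. -/
def centQ (T : Conf G) (v : V3) : Subgroup G := Subgroup.centralizer ({T.q v} : Set G)

theorem mem_centQ {T : Conf G} {v : V3} {x : G} : x ∈ T.centQ v ↔ x * T.q v = T.q v * x :=
  Subgroup.mem_centralizer_singleton_iff

theorem J_le_centQ (T : Conf G) (v : V3) : T.J ≤ T.centQ v := fun _ hx =>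
  mem_centQ.2 (T.J_comm hx (T.q_mem v))

/-- The group of the element inside its centraliser. -/
def lineQ (T : Conf G) (v : V3) : Subgroup (T.centQ v) := (Subgroup.zpowers (T.q v)).subgroupOf (T.centQ v)

theorem lineQ_normal (T : Conf G) (v : V3) : (T.lineQ v).Normal := by
  refine ⟨fun x hx y => ?_⟩
  obtain ⟨k, hk⟩ := Subgroup.mem_zpowers_iff.1 (Subgroup.mem_subgroupOf.1 hx)
  refine Subgroup.mem_subgroupOf.2 ⟨k, ?_⟩
  show T.q v ^ k = (y : G) * (x : G) * (y : G)⁻¹
  rw [← hk, ((show Commute (y : G) (T.q v) from mem_centQ.1 y.2).zpow_right k).eq, mul_inv_cancel_right]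

theorem q_smul (T : Conf G) (a : ZMod 3) (v : V3) : T.q (a • v) = T.q v ^ a.val := by
  conv_lhs => rw [← ZMod.natCast_zmod_val a, Nat.cast_smul_eq_nsmul]
  induction a.val with
  | zero => rw [zero_smul, T.q_zero, pow_zero]
  | succ n ih => rw [succ_nsmul, T.q_add, ih, pow_succ]

theorem mem_lineQ (T : Conf G) {v : V3} {x : T.centQ v} : x ∈ T.lineQ v ↔ ∃ a : ZMod 3, (x : G) = T.q (a • v) := by
  rw [lineQ, Subgroup.mem_subgroupOf, Subgroup.mem_zpowers_iff]
  constructor
  · rintro ⟨k, hk⟩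
    refine ⟨(k : ZMod 3), ?_⟩
    rw [← hk, T.q_smul, ← zpow_natCast, ZMod.val_intCast]
    conv_lhs => rw [← Int.mul_ediv_add_emod k 3, zpow_add, zpow_mul,
      show T.q v ^ (3 : ℤ) = 1 from by exact_mod_cast T.q_cube v, one_zpow, one_mul]
    norm_num
  · rintro ⟨a, ha⟩
    exact ⟨(a.val : ℤ), by rw [zpow_natCast, ← T.q_smul, ha]⟩

/-- The centraliser of the central element is in the normaliser. -/
theorem centQ_dia_le (T : Conf G) : T.centQ dia ≤ Subgroup.normalizer (T.J : Set G) := by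
  intro g hg
  rw [mem_centQ, T.q_dia] at hg
  obtain ⟨m, rfl⟩ := T.cent_a.1 hg
  refine Acts.mem_normalizer T (f := six m.k) fun v => ?_
  simp only [q]
  rw [← normalising, map_mul, map_mul, map_inv]

end Conf

end Cfsg.Agent.Spor.SymNine
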