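import Cfsg.Agent.Lib.Spor.SymNine.Cent
import Cfsg.Agent.S0205
import Cfsg.Agent.S0215
import Mathlib.GroupTheory.Solvable

/-!
When the normaliser of the base contains all centralisers of its non-trivial elements: control of fusion,
normal subgroups of odd order and isolated involutions.
-/

set_option autoImplicit false
set_option linter.unusedSectionVars false
set_option linter.style.haveILetI false
set_option maxRecDepth 100000
set_option synthInstance.maxSize 4096
set_option synthInstance.maxHeartbeats 200000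

namespace Cfsg.Agent.Spor.SymNine

open Cfsg.Agent.Lie.PSpFourThreeAmalgam (V3)
open Cfsg.Agent.Lie.PSpFourThreeFull (smap smap_inj dia)

/-- Outside the orbit of the diagonal the stabilisers have no element of order three. -/
theorem three_stab : ∀ κ : Kind, ∀ w : V3, w ≠ 0 →
    (∃ p, κ.mem p ∧ (smap p w = dia ∨ smap p w = -dia)) ∨
    (∀ p, κ.mem p → smap p w = w → (∀ u, smap p (smap p (smap p u)) = u) → ∀ u, smap p u = u) := by
  decide +kernel

/-- An element of order three fixes a vector of the orbit of the diagonal. -/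
theorem three_fix : ∀ κ : Kind, ∀ p, κ.mem p → (∀ u, smap p (smap p (smap p u)) = u) → (¬ ∀ u, smap p u = u) →
    ∃ p', κ.mem p' ∧ ∃ w, smap p' w = dia ∧ smap p w = w := by decide +kernel

theorem comm_out : ∀ m : Wr, m ∈ Pm → ¬ inJ m →
    jc (1, 0, 0) * m * (jc (1, 0, 0))⁻¹ * m⁻¹ * m ≠ m * (jc (1, 0, 0) * m * (jc (1, 0, 0))⁻¹ * m⁻¹) := by
  decide +kernel

namespace Conf.Framed

variable {G : Type*} [Group G] [Finite G] {T : Conf G} {κ : Kind} (hF : T.Framed κ)
include hF

/-- An element of order dividing three of the normaliser acts with order dividing three. -/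
theorem three_acts {g : G} (hg : g ∈ Subgroup.normalizer (T.J : Set G)) (h3 : g ^ 3 = 1) :
    ∃ p, κ.mem p ∧ T.Acts g (smap p) ∧ ∀ u, smap p (smap p (smap p u)) = u := by
  obtain ⟨p, hp, hgp⟩ := hF.dir g hg
  refine ⟨p, hp, hgp, fun u => T.q_inj ?_⟩
  have h4 := Acts.mul T (Acts.mul T hgp hgp) hgp u
  rw [← h4, ← pow_two, ← pow_succ, h3]
  simp

variable (hc : ∀ v : V3, v ≠ 0 → T.centQ v ≤ Subgroup.normalizer (T.J : Set G))
include hc

/-- Conjugation moving a nontrivial element of the base into the base normalises it. -/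
theorem mem_normalizer_of_conj {g : G} {v : V3} (hv : v ≠ 0) (h : g * T.q v * g⁻¹ ∈ T.J) :
    g ∈ Subgroup.normalizer (T.J : Set G) := by
  classical
  obtain ⟨w, hw⟩ := T.mem_J.1 h
  have hw0 : w ≠ 0 := fun e => hv (by
    rw [e, T.q_zero, eq_comm, conj_eq_one_iff] at hw
    exact T.q_eq_one.1 hw)
  set B := T.J.map (MulAut.conj g).toMonoidHom with hB
  have hBc : Nat.card B = 27 := by rw [hB, Subgroup.card_map_of_injective (MulEquiv.injective _), T.card_J]
  have hBab : ∀ x ∈ B, ∀ y ∈ B, x * y = y * x := by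
    rintro _ ⟨x, hx, rfl⟩ _ ⟨y, hy, rfl⟩
    rw [← map_mul, ← map_mul, T.J_comm hx hy]
  have hB3 : ∀ x ∈ B, x ^ 3 = 1 := by
    rintro _ ⟨x, hx, rfl⟩
    obtain ⟨u, rfl⟩ := T.mem_J.1 hx
    rw [← map_pow, T.q_cube, map_one]
  have hBw : B ≤ T.centQ w := fun x hx => Conf.mem_centQ.2
    (hBab x hx _ (hw ▸ ⟨T.q v, T.q_mem v, rfl⟩))
  suffices hBJ : B = T.J by rwa [Subgroup.mem_normalizer_iff_map_conj_eq]
  rcases three_stab κ w hw0 with ⟨p', hp', hd⟩ | hst
  · obtain ⟨h', hh'⟩ := hF.all p' hp'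
    set B' := B.map (MulAut.conj h').toMonoidHom with hB'
    have hB'r : B' ≤ T.φ.range := by
      rintro _ ⟨x, hx, rfl⟩
      have h1 := T.acts_conj_comm hh' (Conf.mem_centQ.1 (hBw hx))
      refine T.cent_a.1 ?_
      rcases hd with hd | hd <;> rw [hd] at h1
      · rwa [T.q_dia] at h1
      · rw [T.q_neg, T.q_dia] at h1
        simpa using (show Commute _ T.a⁻¹ from h1).inv_right.eq
    have hmap : (B'.comap T.φ).map T.φ = B' := Subgroup.map_comap_eq_self hB'r
    have h1 := eq_Jm (B'.comap T.φ) (by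
        have h2 := congrArg (fun S : Subgroup G => Nat.card S) hmap
        simp only [Subgroup.card_map_of_injective T.inj] at h2
        rw [h2, hB', Subgroup.card_map_of_injective (MulEquiv.injective _), hBc])
      (fun x hx y hy => T.inj (by
        obtain ⟨a, ha, hax⟩ := hx
        obtain ⟨b, hb, hby⟩ := hy
        rw [map_mul, map_mul, ← hax, ← hby, ← map_mul, ← map_mul, hBab a ha b hb]))
      (fun x hx => T.inj (by
        obtain ⟨a, ha, hax⟩ := hx
        rw [map_mul, map_mul, map_one, ← hax, ← pow_two, ← pow_succ, ← map_pow, hB3 a ha, map_one]))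
    have h2 : B' = T.J := by rw [← hmap, h1]; rfl
    have hh'N := Subgroup.mem_normalizer_iff_map_conj_eq.1 (Acts.mem_normalizer T hh')
    exact Subgroup.map_injective (MulEquiv.injective (MulAut.conj h')) (h2.trans hh'N.symm)
  · refine Subgroup.eq_of_le_of_card_ge (fun x hx => ?_) (by rw [hBc, T.card_J])
    obtain ⟨p, hp, hxp, hp3⟩ := hF.three_acts (hc w hw0 (hBw hx)) (hB3 x hx)
    have hid := hst p hp ((Acts.comm_iff T hxp).1 (Conf.mem_centQ.1 (hBw hx))) hp3
    exact T.mem_J_of_acts fun u => by rw [hxp u, hid u]; rfl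

/-- An element of the normaliser conjugate to one of the base outside the orbit of the diagonal is in the base. -/
theorem mem_J_of_isConj {z g : G} {v : V3} (hz : z ∈ Subgroup.normalizer (T.J : Set G)) (hv : v ≠ 0)
    (hno : ∀ p, κ.mem p → smap p v ≠ dia ∧ smap p v ≠ -dia) (h : g * T.q v * g⁻¹ = z) : z ∈ T.J := by
  have hz3 : z ^ 3 = 1 := by rw [← h, conj_pow, T.q_cube, mul_one, mul_inv_cancel]
  obtain ⟨p, hp, hzp, hp3⟩ := hF.three_acts hz hz3
  by_contra hzJ
  obtain ⟨p', hp', w, hw, hfix⟩ := three_fix κ p hp hp3 fun hid =>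
    hzJ (T.mem_J_of_acts fun u => by rw [hzp u, hid u]; rfl)
  have hw0 : w ≠ 0 := fun e => by
    have h0 : smap p' 0 = 0 := (AddMonoidHom.mk' (smap p')
      (Cfsg.Agent.Lie.PSpFourThreeFull.smap_add p')).map_zero
    rw [e, h0] at hw
    exact Cfsg.Agent.Lie.PSpFourThreeFull.dia_ne.1 hw.symm
  have hzw : z * T.q w = T.q w * z := (Acts.comm_iff T hzp).2 hfix
  set y := g⁻¹ * T.q w * g with hy
  have hyv : y ∈ T.centQ v := Conf.mem_centQ.2 (by
    rw [← h] at hzw
    calc g⁻¹ * T.q w * g * T.q v = g⁻¹ * (T.q w * (g * T.q v * g⁻¹)) * g := by group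
      _ = _ := by rw [← hzw, hy]; group)
  have hy3 : y ^ 3 = 1 := by
    rw [hy, show g⁻¹ * T.q w * g = g⁻¹ * T.q w * g⁻¹⁻¹ by group, conj_pow, T.q_cube]
    group
  obtain ⟨r, hr, hyr, hr3⟩ := hF.three_acts (hc v hv hyv) hy3
  have hyJ : y ∈ T.J := by
    rcases three_stab κ v hv with ⟨q', hq', hd⟩ | hst
    · exact absurd hd (not_or.2 (hno q' hq'))
    · have hid := hst r hr ((Acts.comm_iff T hyr).1 (Conf.mem_centQ.1 hyv)) hr3
      exact T.mem_J_of_acts fun u => by rw [hyr u, hid u]; rfl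
  have hg : g⁻¹ ∈ Subgroup.normalizer (T.J : Set G) :=
    hF.mem_normalizer_of_conj hc hw0 (by rwa [inv_inv])
  exact hzJ (h ▸ (Subgroup.mem_normalizer_iff.1 (by simpa using Subgroup.inv_mem _ hg) _).1 (T.q_mem v))

/-- A nontrivial normal subgroup of odd order makes the base normal. -/
theorem top_of_odd_normal {N₀ : Subgroup G} (hN : N₀.Normal) (hodd : Odd (Nat.card N₀)) (hne : N₀ ≠ ⊥) :
    Subgroup.normalizer (T.J : Set G) = ⊤ := by
  classical
  haveI : Fact (Nat.Prime 3) := ⟨Nat.prime_three⟩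
  obtain ⟨M, ⟨hMn, hMne, hMle⟩, hmin⟩ := Set.exists_min_image
    {M : Subgroup G | M.Normal ∧ M ≠ ⊥ ∧ M ≤ N₀} (fun M => Nat.card M) (Set.toFinite _) ⟨N₀, hN, hne, le_rfl⟩
  haveI := hMn
  have hMin : ∀ M' : Subgroup G, M'.Normal → M' ≤ M → M' ≠ ⊥ → M' = M := fun M' h1 h2 h3 =>
    Subgroup.eq_of_le_of_card_ge h2 (hmin M' ⟨h1, h3, h2.trans hMle⟩)
  -- it is abelian
  haveI : Nontrivial M := (Subgroup.nontrivial_iff_ne_bot M).2 hMne
  haveI : Group.IsSolvable M := Cfsg.Agent.S0205.result (by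
    obtain ⟨k, hk⟩ := Subgroup.card_dvd_of_le hMle
    rw [hk] at hodd
    exact (Nat.odd_mul.1 hodd).1)
  have hab : ⁅M, M⁆ = ⊥ := by
    by_contra h
    have h1 := hMin _ inferInstance (Subgroup.commutator_le_self M) h
    exact (Group.IsSolvable.commutator_lt_top_of_nontrivial M).ne
      (Subgroup.map_injective M.subtype_injective (by
        rw [Subgroup.map_subtype_commutator, h1, ← MonoidHom.range_eq_map, Subgroup.range_subtype]))
  have hMc : ∀ x ∈ M, ∀ y ∈ M, x * y = y * x := fun x hx y hy => by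
    have h1 := Subgroup.commutator_mem_commutator hx hy
    rw [hab, Subgroup.mem_bot, commutatorElement_eq_one_iff_mul_comm] at h1
    exact h1
  -- it is a three-group of exponent three
  have h3 : 3 ∣ Nat.card M := by
    by_contra h
    refine hMne (T.sig M ((Nat.prime_three.coprime_iff_not_dvd.2 h).symm) fun j _ => ?_)
    rw [Subgroup.normalizer_eq_top_iff.2 hMn]
    exact Subgroup.mem_top _
  let V : Subgroup G :=
    { carrier := {x | x ∈ M ∧ x ^ 3 = 1}
      one_mem' := ⟨M.one_mem, one_pow 3⟩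
      mul_mem' := fun {x y} hx hy => ⟨M.mul_mem hx.1 hy.1, by
        rw [(show Commute x y from hMc x hx.1 y hy.1).mul_pow, hx.2, hy.2, one_mul]⟩
      inv_mem' := fun {x} hx => ⟨M.inv_mem hx.1, by rw [inv_pow, hx.2, inv_one]⟩ }
  have hVn : V.Normal := ⟨fun x hx g => ⟨hMn.conj_mem x hx.1 g, by
    rw [conj_pow, hx.2, mul_one, mul_inv_cancel]⟩⟩
  have hVM : V = M := by
    refine hMin V hVn (fun x hx => hx.1) fun h => ?_
    obtain ⟨x, hx⟩ := exists_prime_orderOf_dvd_card' 3 h3
    have h1 : (x : G) ∈ V := ⟨x.2, by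
      rw [← SubgroupClass.coe_pow, ← hx, pow_orderOf_eq_one]; rfl⟩
    rw [h, Subgroup.mem_bot] at h1
    rw [show x = 1 from Subtype.ext h1, orderOf_one] at hx
    omega
  have hMp : IsPGroup 3 M := fun x => ⟨1, Subtype.ext (by
    rw [pow_one, SubgroupClass.coe_pow]
    exact (hVM.symm ▸ x.2 : (x : G) ∈ V).2)⟩
  -- it lies in the base
  have hMS : M ≤ T.S := by
    have hp : IsPGroup 3 (T.S ⊔ M : Subgroup G) := IsPGroup.to_sup_of_normal_right
      (IsPGroup.of_card (n := 4) (by rw [T.card_S]; norm_num)) hMp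
    rw [Subgroup.eq_of_le_of_card_ge (le_sup_left : T.S ≤ T.S ⊔ M)
      (by rw [T.card_S]; exact T.card_le_of_isPGroup hp)]
    exact le_sup_right
  have hMJ : M ≤ T.J := by
    intro x hx
    obtain ⟨m, hm, rfl⟩ := hMS hx
    by_contra hJ
    refine comm_out m hm (fun h => hJ ⟨m, mem_Jm.2 h, rfl⟩) (T.inj ?_)
    have h1 : T.φ (jc (1, 0, 0) * m * (jc (1, 0, 0))⁻¹ * m⁻¹) ∈ M := by
      simp only [map_mul, map_inv]
      exact M.mul_mem (hMn.conj_mem _ hx _) (M.inv_mem hx)
    rw [map_mul, map_mul _ m]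
    convert hMc _ h1 _ hx using 3 <;> rfl
  obtain ⟨x, hx, hx1⟩ := (Subgroup.bot_or_exists_ne_one M).resolve_left hMne
  obtain ⟨v, rfl⟩ := T.mem_J.1 (hMJ hx)
  exact eq_top_iff.2 fun g _ => hF.mem_normalizer_of_conj hc (fun e => hx1 (by rw [e, T.q_zero]))
    (hMJ (hMn.conj_mem _ hx g))

/-- An isolated involution moving the base makes it normal. -/
theorem top_of_isolated (P : Sylow 2 G) {r : G} (hr : orderOf r = 2) (hrP : r ∈ (P : Subgroup G))
    (hiso : ∀ g : G, g * r * g⁻¹ ∈ (P : Subgroup G) → g * r * g⁻¹ = r) {v : V3}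
    (hmov : r * T.q v ≠ T.q v * r) : Subgroup.normalizer (T.J : Set G) = ⊤ := by
  obtain ⟨N₀, hN, hodd, hcomm⟩ := Cfsg.Agent.S0215.result P r hr hrP hiso
  refine hF.top_of_odd_normal hc hN hodd fun h => hmov ?_
  have h1 := hcomm (T.q v)
  rw [h, Subgroup.mem_bot, mul_inv_eq_one, mul_inv_eq_iff_eq_mul] at h1
  exact h1

end Conf.Framed

end Cfsg.Agent.Spor.SymNine
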