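import Cfsg.Agent.Lib.Spor.AltNine.Model
import Cfsg.Agent.Lib.Lie.PSpFourThreeFull.Local

/-!
The centraliser in `Sym(9)` of a product of three disjoint three-cycles, as `(ZMod 3)³ : S₃`.
-/

set_option autoImplicit false
set_option maxRecDepth 100000
set_option synthInstance.maxSize 4096
set_option synthInstance.maxHeartbeats 200000

namespace Cfsg.Agent.Spor.SymNine

open Cfsg.Agent.Lie.PSpFourThreeAmalgam (V3 mU mT)
open Cfsg.Agent.Lie.PSpFourThreeFull (six)
open Cfsg.Agent.Spor.AltNine (P9 jel hel blk pt exists_hel)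
open Equiv

/-- The product of two of the six maps. -/
def sixMul (i j : Fin 6) : Fin 6 :=
  let a := i.1 % 3
  let b := j.1 % 3
  if i.1 < 3 then
    (if j.1 < 3 then ⟨(a + b) % 3, by omega⟩ else ⟨3 + (b + 2 * a) % 3, by omega⟩)
  else
    (if j.1 < 3 then ⟨3 + (a + b) % 3, by omega⟩ else ⟨(b + 2 * a) % 3, by omega⟩)

/-- The inverse of one of the six maps. -/
def sixInv (i : Fin 6) : Fin 6 := if i.1 < 3 then ⟨(3 - i.1) % 3, by omega⟩ else i

theorem six_sixMul : ∀ i j : Fin 6, ∀ v : V3, six (sixMul i j) v = six i (six j v) := by decide +kernel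

theorem sixMul_assoc : ∀ i j k : Fin 6, sixMul (sixMul i j) k = sixMul i (sixMul j k) := by decide +kernel

theorem sixMul_one : ∀ i : Fin 6, sixMul 0 i = i ∧ sixMul i 0 = i ∧ sixMul (sixInv i) i = 0 := by decide +kernel

theorem six_zero : ∀ v : V3, six 0 v = v := by decide +kernel

theorem six_map_zero : ∀ i : Fin 6, six i 0 = 0 := by decide +kernel

theorem six_map_add : ∀ i : Fin 6, ∀ v w : V3, six i (v + w) = six i v + six i w := by decide +kernel

/-- The wreath product in coordinates. -/
@[ext] structure Wr where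
  v : V3
  k : Fin 6
deriving DecidableEq

instance : Fintype Wr := Fintype.ofEquiv (V3 × Fin 6)
  ⟨fun p => ⟨p.1, p.2⟩, fun m => (m.v, m.k), fun _ => rfl, fun _ => rfl⟩

instance : Mul Wr := ⟨fun a b => ⟨a.v + six a.k b.v, sixMul a.k b.k⟩⟩

instance : One Wr := ⟨⟨0, 0⟩⟩

instance : Inv Wr := ⟨fun a => ⟨-(six (sixInv a.k) a.v), sixInv a.k⟩⟩

theorem mul_def (a b : Wr) : a * b = ⟨a.v + six a.k b.v, sixMul a.k b.k⟩ := rfl

theorem one_def : (1 : Wr) = ⟨0, 0⟩ := rfl

instance : Group Wr :=
  Group.ofLeftAxioms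
    (fun a b c => Wr.ext
      (show a.v + six a.k b.v + six (sixMul a.k b.k) c.v = a.v + six a.k (b.v + six b.k c.v) by
        rw [six_sixMul, six_map_add, add_assoc])
      (sixMul_assoc _ _ _))
    (fun a => Wr.ext (show 0 + six 0 a.v = a.v by rw [six_zero, zero_add]) (sixMul_one _).1)
    (fun a => Wr.ext
      (show -(six (sixInv a.k) a.v) + six (sixInv a.k) a.v = 0 from neg_add_cancel _)
      (sixMul_one _).2.2)

/-- The coordinates of the base. -/
def jc (v : V3) : Wr := ⟨v, 0⟩

/-- The cyclic shift of the blocks. -/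
def sm : Wr := ⟨0, 1⟩

/-- The exchange of the first two blocks. -/
def tm : Wr := ⟨0, 3⟩

/-- Membership in the base. -/
def inJ (m : Wr) : Prop := m.k = 0

instance (m : Wr) : Decidable (inJ m) := inferInstanceAs (Decidable (_ = _))

/-- The central element. -/
def cc : Wr := jc (1, 1, 1)

theorem jc_add : ∀ v w : V3, jc (v + w) = jc v * jc w := by decide +kernel

theorem jc_inj : ∀ v w : V3, jc v = jc w → v = w := fun _ _ h => congrArg Wr.v h

theorem inJ_iff : ∀ m : Wr, inJ m ↔ ∃ v, jc v = m :=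
  fun m => ⟨fun h => ⟨m.v, Wr.ext rfl h.symm⟩, by rintro ⟨v, rfl⟩; rfl⟩

theorem sm_act : ∀ v, sm * jc v * sm⁻¹ = jc (mU v) := by decide +kernel

theorem tm_act : ∀ v, tm * jc v * tm⁻¹ = jc (mT v) := by decide +kernel

theorem tm_sq : tm * tm = 1 := by decide +kernel

theorem sm_cube : sm * sm * sm = 1 := by decide +kernel

theorem cc_comm : ∀ m : Wr, m * cc = cc * m := by decide +kernel

theorem cc_ne : cc ≠ 1 := by decide +kernel

theorem six_conj_jc : ∀ (k : Fin 6) (v : V3), (⟨0, k⟩ : Wr) * jc v * (⟨0, k⟩ : Wr)⁻¹ = jc (six k v) := by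
  decide +kernel

theorem normalising : ∀ m : Wr, ∀ v, m * jc v * m⁻¹ = jc (six m.k v) := by decide +kernel

theorem centralising : ∀ m : Wr, m * jc (1, 0, 0) = jc (1, 0, 0) * m → m * jc (0, 1, 0) = jc (0, 1, 0) * m →
    inJ m := by decide +kernel

theorem center_eq : ∀ m : Wr, m * sm = sm * m → m * tm = tm * m → m * jc (1, 0, 0) = jc (1, 0, 0) * m →
    m = 1 ∨ m = cc ∨ m = cc * cc := by decide +kernel

/-- An element of order three outside the base centralises few elements of the base. -/
theorem three_out : ∀ m : Wr, m * m * m = 1 → ¬ inJ m → ∀ v : V3, m * jc v = jc v * m →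
    v.1 = v.2.1 ∧ v.2.1 = v.2.2 := by decide +kernel

theorem card_Wr : Nat.card Wr = 162 := by
  rw [Nat.card_eq_fintype_card]
  decide +kernel

/-! ### The permutations -/

/-- A three-cycle. -/
def rot3 : Perm (Fin 3) := finRotate 3

/-- The permutations of the blocks. -/
def blockPerm (k : Fin 6) : Perm (Fin 3) :=
  if k.1 < 3 then rot3 ^ k.1 else swap 0 1 * rot3 ^ (k.1 - 3)

/-- The lift of a permutation of the blocks. -/
def blockLift (k : Fin 6) : P9 := hel 1 1 1 (blockPerm k)

theorem lift_mul : ∀ i j : Fin 6, blockLift i * blockLift j = blockLift (sixMul i j) := by decide +kernel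

theorem lift_zero : blockLift 0 = 1 := by decide +kernel

/-- The coordinates as exponents. -/
def ex (v : V3) : Fin 3 × Fin 3 × Fin 3 := (⟨v.1.val, v.1.val_lt⟩, ⟨v.2.1.val, v.2.1.val_lt⟩, ⟨v.2.2.val, v.2.2.val_lt⟩)

theorem ex_add : ∀ v w : V3, ex (v + w) = ex v + ex w := by decide +kernel

theorem lift_jel : ∀ (i : Fin 6) (v : V3), blockLift i * jel (ex v) = jel (ex (six i v)) * blockLift i := by
  decide +kernel

/-- The permutation of an element of the wreath product. -/
def toPerm : Wr →* P9 where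
  toFun m := jel (ex m.v) * blockLift m.k
  map_one' := by
    show jel (ex 0) * blockLift 0 = 1
    rw [lift_zero, show ex 0 = 0 from by decide, AltNine.jel_zero, one_mul]
  map_mul' a b := by
    show jel (ex (a.v + six a.k b.v)) * blockLift (sixMul a.k b.k) = _
    rw [ex_add, ← AltNine.jel_mul, ← lift_mul]
    calc jel (ex a.v) * jel (ex (six a.k b.v)) * (blockLift a.k * blockLift b.k)
        = jel (ex a.v) * (jel (ex (six a.k b.v)) * blockLift a.k) * blockLift b.k := by simp only [mul_assoc]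
      _ = jel (ex a.v) * (blockLift a.k * jel (ex b.v)) * blockLift b.k := by rw [lift_jel]
      _ = _ := by simp only [mul_assoc]

theorem toPerm_apply (m : Wr) : toPerm m = jel (ex m.v) * blockLift m.k := rfl

theorem toPerm_ker : ∀ m : Wr, toPerm m = 1 → m = 1 := by
  intro m
  rw [toPerm_apply, one_def]
  revert m
  decide +kernel

/-- The product of the three three-cycles. -/
def sigma : P9 := swap 0 1 * swap 1 2 * swap 3 4 * swap 4 5 * swap 6 7 * swap 7 8

theorem toPerm_cc : toPerm cc = sigma := by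
  rw [toPerm_apply]
  decide +kernel

theorem sigma_orbit : ∀ i j : Fin 9, blk i = blk j → ∃ m : Fin 3, (sigma ^ m.val) i = j := by decide +kernel

theorem sigma_blk : ∀ (m : Fin 3) (i : Fin 9), blk ((sigma ^ m.val) i) = blk i := by decide +kernel

theorem comm_even : ∀ x y z π : Perm (Fin 3),
    (∀ i : Fin 9, hel x y z π (sigma i) = sigma (hel x y z π i)) →
    Perm.sign x = 1 ∧ Perm.sign y = 1 ∧ Perm.sign z = 1 := by decide +kernel

theorem even_rot : ∀ x : Perm (Fin 3), Perm.sign x = 1 → ∃ a : Fin 3, x = rot3 ^ a.val := by decide +kernel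

theorem hel_rot : ∀ (a b c : Fin 3) (π : Perm (Fin 3)), ∃ k : Fin 6, π = blockPerm k ∧
    hel (rot3 ^ a.val) (rot3 ^ b.val) (rot3 ^ c.val) π =
      jel (ex (six k ((a.val : ZMod 3), (b.val : ZMod 3), (c.val : ZMod 3)))) * blockLift k := by
  decide +kernel

theorem range_toPerm : toPerm.range = Subgroup.centralizer ({sigma} : Set P9) := by
  apply le_antisymm
  · rintro _ ⟨m, rfl⟩
    rw [Subgroup.mem_centralizer_singleton_iff, ← toPerm_cc, ← map_mul, ← map_mul, cc_comm]
  · intro p hp
    rw [Subgroup.mem_centralizer_singleton_iff] at hp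
    have hpow : ∀ m : ℕ, p * sigma ^ m = sigma ^ m * p := fun m => (show Commute p sigma from hp).pow_right m
    obtain ⟨x, y, z, π, rfl⟩ := exists_hel p fun i j hij => by
      obtain ⟨m, hm⟩ := sigma_orbit i j hij
      rw [← hm]
      have := Equiv.congr_fun (hpow m.val) i
      simp only [Perm.mul_apply] at this
      rw [this, sigma_blk]
    obtain ⟨hx, hy, hz⟩ := comm_even x y z π fun i => by
      have := Equiv.congr_fun hp i
      simpa only [Perm.mul_apply] using this
    obtain ⟨a, rfl⟩ := even_rot x hx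
    obtain ⟨b, rfl⟩ := even_rot y hy
    obtain ⟨c, rfl⟩ := even_rot z hz
    obtain ⟨k, -, hk⟩ := hel_rot a b c π
    exact ⟨⟨_, k⟩, hk.symm⟩

/-- The coordinates of the centraliser. -/
noncomputable def modelEquiv : Wr ≃* Subgroup.centralizer ({sigma} : Set P9) :=
  (MonoidHom.ofInjective ((injective_iff_map_eq_one toPerm).2 toPerm_ker)).trans
    (MulEquiv.subgroupCongr range_toPerm)

end Cfsg.Agent.Spor.SymNine
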