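import Cfsg.Agent.Lib.Spor.SymNine.Model
import Cfsg.Agent.Lib.Lie.PSpFourThreeFull.WFour
import Cfsg.Agent.Lib.Lie.PSpFourThreeFull.PlaneFacts
import Cfsg.Agent.Lib.Fusion.Cores
import Mathlib.GroupTheory.Nilpotent
import Mathlib.Algebra.Group.Subgroup.Pointwise

/-!
A group with an element of order three whose centraliser is `3³:S₃` (a wreath product): coordinates on the
elementary abelian subgroup of order twenty-seven, control of fusion and the Sylow subgroup.
-/

set_option autoImplicit false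
set_option linter.unusedSectionVars false
set_option linter.style.haveILetI false
set_option maxRecDepth 100000
set_option synthInstance.maxSize 4096
set_option synthInstance.maxHeartbeats 200000

namespace Cfsg.Agent.Spor.SymNine

open Cfsg.Agent.Lie.PSpFourThreeAmalgam (V3 mU mT V3_card)
open Cfsg.Agent.Lie.PSpFourThreeFull (six dia WData ext_additive six_add)

/-- The coordinates as a homomorphism. -/
def jhom : Multiplicative V3 →* Wr := MonoidHom.mk' (fun x => jc x.toAdd) fun x y => jc_add _ _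

/-- The elementary abelian subgroup in the model. -/
def Jm : Subgroup Wr := jhom.range

theorem mem_Jm {m : Wr} : m ∈ Jm ↔ inJ m := by
  rw [inJ_iff]
  exact ⟨fun ⟨x, hx⟩ => ⟨x.toAdd, hx⟩, fun ⟨v, hv⟩ => ⟨Multiplicative.ofAdd v, hv⟩⟩

theorem jc_zero : jc 0 = 1 := rfl

theorem jc_one : jc (1, 1, 1) = cc := rfl

theorem card_Jm : Nat.card Jm = 27 := by
  have hinj : Function.Injective jhom := fun x y h => jc_inj x.toAdd y.toAdd h
  rw [Jm, ← Nat.card_congr (MonoidHom.ofInjective hinj).toEquiv, Nat.card_congr Multiplicative.toAdd, V3_card]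

theorem lt_three_mul : ∀ i j : Fin 6, i.1 < 3 → j.1 < 3 → (sixMul i j).1 < 3 ∧ (sixInv i).1 < 3 := by
  decide +kernel

/-- The Sylow subgroup of the model. -/
def Pm : Subgroup Wr where
  carrier := {m | m.k.1 < 3}
  one_mem' := by decide
  mul_mem' {a b} ha hb := (lt_three_mul a.k b.k ha hb).1
  inv_mem' {a} ha := (lt_three_mul a.k a.k ha ha).2

instance (m : Wr) : Decidable (m ∈ Pm) := inferInstanceAs (Decidable (m.k.1 < 3))

theorem Jm_le_Pm : Jm ≤ Pm := fun m hm => by
  show m.k.1 < 3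
  rw [show m.k = 0 from mem_Jm.1 hm]
  decide

theorem sm_mem : sm ∈ Pm := by decide

theorem jc_mem (v : V3) : jc v ∈ Pm := Jm_le_Pm (mem_Jm.2 rfl)

theorem card_Pm : Nat.card Pm = 81 := by
  rw [Nat.card_eq_fintype_card]
  decide +kernel

theorem center_Pm : ∀ m : Wr, m ∈ Pm → sm * m = m * sm → jc (1, 0, 0) * m = m * jc (1, 0, 0) →
    m = 1 ∨ m = cc ∨ m = cc * cc := by decide +kernel

/-- The elementary abelian subgroups of order twenty-seven are the base. -/
theorem eq_Jm (B : Subgroup Wr) (hc : Nat.card B = 27) (hab : ∀ x ∈ B, ∀ y ∈ B, x * y = y * x)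
    (he : ∀ x ∈ B, x * x * x = 1) : B = Jm := by
  classical
  by_contra hne
  obtain ⟨x, hx, hxJ⟩ : ∃ x ∈ B, x ∉ Jm := by
    by_contra h
    push Not at h
    exact hne (Subgroup.eq_of_le_of_card_ge h (by rw [hc, card_Jm]))
  have key : ∀ x : Wr, ¬ inJ x → x * x * x = 1 →
      (Finset.univ.filter fun y : Wr => x * y = y * x).card < 27 := by decide +kernel
  have hlt := key x (fun h => hxJ (mem_Jm.2 h)) (he x hx)
  have hle : (Finset.univ.filter fun y : Wr => y ∈ B).card ≤
      (Finset.univ.filter fun y : Wr => x * y = y * x).card := Finset.card_le_card fun y hy => by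
    simp only [Finset.mem_filter, Finset.mem_univ, true_and] at hy ⊢
    exact hab x hx y hy
  rw [← Fintype.card_subtype, ← Nat.card_eq_fintype_card] at hle
  omega

/-- The only abelian subgroup of order twenty-seven in the Sylow subgroup of the model. -/
theorem abelian_eq (B : Subgroup Wr) (hB : B ≤ Pm) (hc : Nat.card B = 27)
    (hab : ∀ x ∈ B, ∀ y ∈ B, x * y = y * x) : B = Jm := by
  classical
  by_contra hne
  obtain ⟨x, hx, hxJ⟩ : ∃ x ∈ B, x ∉ Jm := by
    by_contra h
    push Not at h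
    exact hne (Subgroup.eq_of_le_of_card_ge h (by rw [hc, card_Jm]))
  have key : ∀ x : Wr, x ∈ Pm → ¬ inJ x →
      (Finset.univ.filter fun y : Wr => y ∈ Pm ∧ x * y = y * x).card < 27 := by decide +kernel
  have hlt := key x (hB hx) (fun h => hxJ (mem_Jm.2 h))
  have hle : (Finset.univ.filter fun y : Wr => y ∈ B).card ≤
      (Finset.univ.filter fun y : Wr => y ∈ Pm ∧ x * y = y * x).card := Finset.card_le_card fun y hy => by
    simp only [Finset.mem_filter, Finset.mem_univ, true_and] at hy ⊢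
    exact ⟨hB hy, hab x hx y hy⟩
  rw [← Fintype.card_subtype, ← Nat.card_eq_fintype_card] at hle
  omega

/-- The local data. -/
structure Conf (G : Type*) [Group G] where
  φ : Wr →* G
  inj : Function.Injective φ
  range_eq : φ.range = Subgroup.centralizer ({φ cc} : Set G)
  sig : ∀ K : Subgroup G, (Nat.card K).Coprime 3 → Jm.map φ ≤ Subgroup.normalizer (K : Set G) → K = ⊥

namespace Conf

variable {G : Type*} [Group G] (T : Conf G)

/-- The element of order three. -/
def a : G := T.φ cc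

/-- The elementary abelian subgroup. -/
def J : Subgroup G := Jm.map T.φ

/-- A Sylow subgroup. -/
def S : Subgroup G := Pm.map T.φ

/-- The coordinates. -/
def q (v : V3) : G := T.φ (jc v)

theorem q_add (v w : V3) : T.q (v + w) = T.q v * T.q w := by rw [q, jc_add, map_mul]; rfl

theorem q_zero : T.q 0 = 1 := by rw [q, jc_zero, map_one]

theorem q_inj {v w : V3} (h : T.q v = T.q w) : v = w := jc_inj v w (T.inj h)

theorem q_neg (v : V3) : T.q (-v) = (T.q v)⁻¹ :=
  eq_inv_of_mul_eq_one_right (by rw [← T.q_add, add_neg_cancel, T.q_zero])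

theorem q_dia : T.q dia = T.a := by rw [q, dia, jc_one]; rfl

theorem mem_J {x : G} : x ∈ T.J ↔ ∃ v, T.q v = x := by
  constructor
  · rintro ⟨m, hm, rfl⟩
    obtain ⟨v, rfl⟩ := (inJ_iff m).1 (mem_Jm.1 hm)
    exact ⟨v, rfl⟩
  · rintro ⟨v, rfl⟩
    exact ⟨jc v, mem_Jm.2 ((inJ_iff _).2 ⟨v, rfl⟩), rfl⟩

theorem q_mem (v : V3) : T.q v ∈ T.J := T.mem_J.2 ⟨v, rfl⟩

theorem q_comm (v w : V3) : T.q v * T.q w = T.q w * T.q v := by rw [← T.q_add, add_comm, T.q_add]

theorem J_comm {x y : G} (hx : x ∈ T.J) (hy : y ∈ T.J) : x * y = y * x := by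
  obtain ⟨v, rfl⟩ := T.mem_J.1 hx
  obtain ⟨w, rfl⟩ := T.mem_J.1 hy
  exact T.q_comm v w

theorem q_cube (v : V3) : T.q v ^ 3 = 1 := by
  rw [pow_succ, pow_two, ← T.q_add, ← T.q_add,
    show v + v + v = 0 by revert v; decide +kernel, T.q_zero]

theorem a_ne : T.a ≠ 1 := fun h => cc_ne (T.inj (h.trans T.φ.map_one.symm))

theorem a_cube : T.a ^ 3 = 1 := by rw [← T.q_dia, T.q_cube]

theorem a_mem : T.a ∈ T.J := T.q_dia ▸ T.q_mem dia

theorem cent_a {g : G} : g * T.a = T.a * g ↔ g ∈ T.φ.range := by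
  rw [T.range_eq]
  exact Subgroup.mem_centralizer_singleton_iff.symm

theorem card_J : Nat.card T.J = 27 := by
  rw [J, Subgroup.card_map_of_injective T.inj, card_Jm]

theorem card_S : Nat.card T.S = 81 := by rw [S, Subgroup.card_map_of_injective T.inj, card_Pm]

theorem J_le_S : T.J ≤ T.S := Subgroup.map_mono Jm_le_Pm

theorem S_comm_a {s : G} (hs : s ∈ T.S) : s * T.a = T.a * s := by
  obtain ⟨m, -, rfl⟩ := hs
  exact T.cent_a.2 ⟨m, rfl⟩

/-- The subgroup is its own centraliser. -/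
theorem cent_J {g : G} (h : ∀ x ∈ T.J, g * x = x * g) : g ∈ T.J := by
  obtain ⟨m, rfl⟩ := T.cent_a.1 (h _ T.a_mem)
  refine ⟨m, mem_Jm.2 (centralising m ?_ ?_), rfl⟩ <;>
  · apply T.inj
    rw [map_mul, map_mul]
    exact h _ (T.q_mem _)

/-- In the Sylow subgroup there is no other abelian subgroup of order twenty-seven. -/
theorem abelian_eq {B : Subgroup G} (hB : B ≤ T.S) (hc : Nat.card B = 27)
    (hab : ∀ x ∈ B, ∀ y ∈ B, x * y = y * x) : B = T.J := by
  have hBr : B ≤ T.φ.range := hB.trans (Subgroup.map_le_range _ _)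
  have hmap : (B.comap T.φ).map T.φ = B := Subgroup.map_comap_eq_self hBr
  have h1 := SymNine.abelian_eq (B.comap T.φ) (fun m hm => by
    obtain ⟨p, hp, hpm⟩ := hB hm
    exact T.inj hpm ▸ hp) (by rw [← hc]; conv_rhs => rw [← hmap, Subgroup.card_map_of_injective T.inj])
    fun x hx y hy => T.inj (by rw [map_mul, map_mul]; exact hab _ hx _ hy)
  rw [← hmap, h1]
  rfl

theorem mem_center_S {x : G} (hx : x ∈ T.S) (h : ∀ s ∈ T.S, s * x = x * s) :
    x = 1 ∨ x = T.a ∨ x = T.a⁻¹ := by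
  obtain ⟨m, hm, rfl⟩ := hx
  have hc : ∀ p ∈ Pm, p * m = m * p := fun p hp => T.inj (by rw [map_mul, map_mul]; exact h _ ⟨p, hp, rfl⟩)
  rcases center_Pm m hm (hc sm sm_mem) (hc _ (jc_mem (1, 0, 0))) with rfl | rfl | rfl
  · exact Or.inl (map_one _)
  · exact Or.inr (Or.inl rfl)
  · exact Or.inr (Or.inr (by
      refine eq_inv_of_mul_eq_one_left ?_
      rw [map_mul, show T.φ cc = T.a from rfl, ← pow_two, ← pow_succ]
      exact T.a_cube))

variable [Finite G]
include T

theorem normalizer_S_le : Subgroup.normalizer (T.S : Set G) ≤ Subgroup.normalizer (T.J : Set G) := by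
  intro g hg
  rw [Subgroup.mem_normalizer_iff_map_conj_eq]
  refine T.abelian_eq ?_ ?_ ?_
  · rintro _ ⟨x, hx, rfl⟩
    exact (Subgroup.mem_normalizer_iff.1 hg x).1 (T.J_le_S hx)
  · rw [Subgroup.card_map_of_injective (MulEquiv.injective _), T.card_J]
  · rintro _ ⟨x, hx, rfl⟩ _ ⟨y, hy, rfl⟩
    rw [← map_mul, ← map_mul, T.J_comm hx hy]

/-- The Sylow three-subgroups have order eighty-one. -/
theorem card_le_of_isPGroup {P : Subgroup G} (hP : IsPGroup 3 P) : Nat.card P ≤ 81 := by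
  classical
  haveI : Fact (Nat.Prime 3) := ⟨Nat.prime_three⟩
  by_contra hgt
  push Not at hgt
  have hSp : IsPGroup 3 T.S := IsPGroup.of_card (n := 4) (by rw [T.card_S]; norm_num)
  obtain ⟨Q, hQ⟩ := hSp.exists_le_sylow
  have hlt : T.S < Q := by
    refine lt_of_le_of_ne hQ fun h => ?_
    obtain ⟨n, hn⟩ := IsPGroup.iff_card.1 hP
    have h1 : Nat.card P ∣ 81 := by
      rw [← T.card_S, h, Q.card_eq_multiplicity, hn]
      exact pow_dvd_pow 3 ((Nat.prime_three.pow_dvd_iff_le_factorization Nat.card_pos.ne').1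
        (hn ▸ Subgroup.card_subgroup_dvd_card P))
    have := Nat.le_of_dvd (by norm_num) h1
    omega
  haveI : Group.IsNilpotent (Q : Subgroup G) := Q.2.isNilpotent
  have hlt' : T.S.subgroupOf Q < ⊤ := lt_top_iff_ne_top.2 fun h =>
    hlt.ne (le_antisymm hQ (Subgroup.subgroupOf_eq_top.1 h))
  obtain ⟨x, hxN, hxS⟩ := SetLike.exists_of_lt (Group.normalizerCondition_of_isNilpotent _ hlt')
  have hxN' : (x : G) ∈ Subgroup.normalizer (T.S : Set G) := by
    rw [Subgroup.mem_normalizer_iff]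
    intro y
    refine ⟨fun hy => Subgroup.mem_subgroupOf.1 ((Subgroup.mem_normalizer_iff.1 hxN ⟨y, hQ hy⟩).1
      (Subgroup.mem_subgroupOf.2 hy)), fun hy => ?_⟩
    have hyQ : y ∈ (Q : Subgroup G) := by
      have := (Q : Subgroup G).mul_mem ((Q : Subgroup G).mul_mem ((Q : Subgroup G).inv_mem x.2) (hQ hy)) x.2
      simpa [mul_assoc] using this
    exact Subgroup.mem_subgroupOf.1 ((Subgroup.mem_normalizer_iff.1 hxN ⟨y, hyQ⟩).2
      (Subgroup.mem_subgroupOf.2 hy))
  -- it centralises the centre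
  have hxa : (x : G) * T.a * (x : G)⁻¹ = T.a ∨ (x : G) * T.a * (x : G)⁻¹ = T.a⁻¹ := by
    have hm : (x : G) * T.a * (x : G)⁻¹ ∈ T.S :=
      (Subgroup.mem_normalizer_iff.1 hxN' _).1 (T.J_le_S T.a_mem)
    refine ((T.mem_center_S hm fun s hs => ?_).resolve_left fun h => T.a_ne (conj_eq_one_iff.1 h))
    have h1 : (x : G)⁻¹ * s * (x : G) ∈ T.S := by
      have := (Subgroup.mem_normalizer_iff.1 (Subgroup.inv_mem _ hxN') s).1 hs
      rwa [inv_inv] at this
    have h2 := T.S_comm_a h1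
    calc s * ((x : G) * T.a * (x : G)⁻¹) = (x : G) * (((x : G)⁻¹ * s * x) * T.a) * (x : G)⁻¹ := by group
      _ = _ := by rw [h2]; group
  obtain ⟨n, hn⟩ := Q.2 x
  have hxpow : (x : G) ^ 3 ^ n = 1 := by simpa using congrArg Subtype.val hn
  have hxC : (x : G) * T.a = T.a * x := by
    rcases hxa with h | h
    · exact mul_inv_eq_iff_eq_mul.1 h
    · exfalso
      have h2 : ∀ k : ℕ, Odd k → (x : G) ^ k * T.a * ((x : G) ^ k)⁻¹ = T.a⁻¹ := by
        rintro k ⟨j, rfl⟩
        induction j with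
        | zero => simpa using h
        | succ j ih =>
          calc _ = (x : G) * ((x : G) * ((x : G) ^ (2 * j + 1) * T.a * ((x : G) ^ (2 * j + 1))⁻¹) * (x : G)⁻¹) *
              (x : G)⁻¹ := by
                rw [show 2 * (j + 1) + 1 = 2 * j + 1 + 1 + 1 by ring, pow_succ', pow_succ' (x : G) (2 * j + 1)]
                group
            _ = T.a⁻¹ := by
                rw [ih, ← conj_inv, h, inv_inv, h]
      have h3 := h2 (3 ^ n) (Odd.pow (by decide))
      rw [hxpow, one_mul, inv_one, mul_one] at h3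
      exact T.a_ne (by
        have h4 := T.a_cube
        rwa [pow_succ, pow_two, show T.a * T.a = 1 by nth_rewrite 2 [h3]; exact mul_inv_cancel _, one_mul] at h4)
  obtain ⟨m, hm⟩ := T.cent_a.1 hxC
  -- a three-group in the centraliser larger than a Sylow subgroup
  have hxP : IsPGroup 3 (T.S ⊔ Subgroup.zpowers (x : G) : Subgroup G) :=
    Q.2.to_le (sup_le hQ (Subgroup.zpowers_le.2 x.2))
  have hle : T.S ⊔ Subgroup.zpowers (x : G) ≤ T.φ.range :=
    sup_le (Subgroup.map_le_range _ _) (Subgroup.zpowers_le.2 ⟨m, hm⟩)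
  obtain ⟨j, hj⟩ := IsPGroup.iff_card.1 hxP
  have hd := Subgroup.card_dvd_of_le hle
  rw [← Nat.card_congr (MonoidHom.ofInjective T.inj).toEquiv, card_Wr, hj] at hd
  have hlt2 : T.S < T.S ⊔ Subgroup.zpowers (x : G) := lt_of_le_of_ne le_sup_left fun h => hxS
    (Subgroup.mem_subgroupOf.2 (h ▸ Subgroup.mem_sup_right (Subgroup.mem_zpowers _)))
  have h81 : 81 < 3 ^ j := by
    rw [← hj, ← T.card_S]
    exact lt_of_not_ge fun h => hlt2.ne (Subgroup.eq_of_le_of_card_ge hlt2.le h)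
  have hj5 : 5 ≤ j := by
    by_contra h
    have : 3 ^ j ≤ 3 ^ 4 := Nat.pow_le_pow_right (by norm_num) (by omega)
    omega
  have := (pow_dvd_pow 3 hj5).trans hd
  norm_num at this

/-- An abelian subgroup of order twenty-seven in the centraliser is conjugate to the given one. -/
theorem conj_into_J {B : Subgroup G} (hB : B ≤ T.φ.range) (hc : Nat.card B = 27)
    (hab : ∀ x ∈ B, ∀ y ∈ B, x * y = y * x) :
    ∃ h ∈ T.φ.range, B.map (MulAut.conj h).toMonoidHom = T.J := by
  haveI : Fact (Nat.Prime 3) := ⟨Nat.prime_three⟩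
  have hBc : Nat.card (B.comap T.φ) = 27 := by
    rw [← hc]
    conv_rhs => rw [← Subgroup.map_comap_eq_self hB, Subgroup.card_map_of_injective T.inj]
  obtain ⟨Q, hQ⟩ := (IsPGroup.of_card (n := 3) (by rw [hBc]; norm_num) : IsPGroup 3 (B.comap T.φ)).exists_le_sylow
  have hidx : ¬ 3 ∣ Pm.index := fun h => by
    have := Pm.card_mul_index
    rw [card_Pm, card_Wr] at this
    omega
  obtain ⟨g, hg⟩ := MulAction.exists_smul_eq Wr Q
    ((IsPGroup.of_card (n := 4) (by rw [card_Pm]; norm_num) : IsPGroup 3 Pm).toSylow hidx)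
  have hle : (B.comap T.φ).map (MulAut.conj g).toMonoidHom ≤ Pm := by
    rintro _ ⟨y, hy, rfl⟩
    show _ ∈ (((IsPGroup.of_card (n := 4) (by rw [card_Pm]; norm_num) : IsPGroup 3 Pm).toSylow hidx) : Subgroup Wr)
    rw [← hg, Sylow.coe_subgroup_smul]
    exact Subgroup.smul_mem_pointwise_smul y (MulAut.conj g) _ (hQ hy)
  have h1 := SymNine.abelian_eq _ hle (by rw [Subgroup.card_map_of_injective (MulEquiv.injective _), hBc]) (by
    rintro _ ⟨x, hx, rfl⟩ _ ⟨y, hy, rfl⟩
    rw [← map_mul, ← map_mul]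
    congr 1
    exact T.inj (by rw [map_mul, map_mul]; exact hab _ hx _ hy))
  refine ⟨T.φ g, ⟨g, rfl⟩, ?_⟩
  rw [J, ← h1, Subgroup.map_map]
  conv_lhs => rw [← Subgroup.map_comap_eq_self hB, Subgroup.map_map]
  congr 1
  ext y
  simp [map_mul]

/-- The normaliser of the subgroup controls the fusion of the central element in it. -/
theorem fusion {g : G} (hg : g * T.a * g⁻¹ ∈ T.J) :
    ∃ n ∈ Subgroup.normalizer (T.J : Set G), n * T.a * n⁻¹ = g * T.a * g⁻¹ := by
  obtain ⟨h, hh, hhJ⟩ := T.conj_into_J (B := T.J.map (MulAut.conj g⁻¹).toMonoidHom) (by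
    rintro _ ⟨x, hx, rfl⟩
    refine T.cent_a.1 ?_
    have h1 := T.J_comm hx hg
    show g⁻¹ * x * g⁻¹⁻¹ * T.a = T.a * (g⁻¹ * x * g⁻¹⁻¹)
    calc g⁻¹ * x * g⁻¹⁻¹ * T.a = g⁻¹ * (x * (g * T.a * g⁻¹)) * g := by group
      _ = _ := by rw [h1]; group) (by rw [Subgroup.card_map_of_injective (MulEquiv.injective _), T.card_J]) (by
    rintro _ ⟨x, hx, rfl⟩ _ ⟨y, hy, rfl⟩
    rw [← map_mul, ← map_mul, T.J_comm hx hy])
  have hn : h * g⁻¹ ∈ Subgroup.normalizer (T.J : Set G) := by
    rw [Subgroup.mem_normalizer_iff_map_conj_eq]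
    conv_rhs => rw [← hhJ, Subgroup.map_map]
    congr 1
    ext y
    simp [mul_assoc]
  refine ⟨(h * g⁻¹)⁻¹, Subgroup.inv_mem _ hn, ?_⟩
  have hha := T.cent_a.2 hh
  calc (h * g⁻¹)⁻¹ * T.a * (h * g⁻¹)⁻¹⁻¹ = g * (h⁻¹ * (T.a * h)) * g⁻¹ := by group
    _ = g * T.a * g⁻¹ := by rw [← hha]; group

/-! ### The action of the normaliser on the coordinates -/

/-- The coordinates as an equivalence. -/
noncomputable def coordEquiv : V3 ≃ T.J :=
  Equiv.ofBijective (fun v => ⟨T.q v, T.q_mem v⟩)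
    ⟨fun _ _ h => T.q_inj (congrArg Subtype.val h), fun x => by
      obtain ⟨v, hv⟩ := T.mem_J.1 x.2
      exact ⟨v, Subtype.ext hv⟩⟩

/-- The permutations of the coordinates. -/
noncomputable def conjPerm : Subgroup.normalizer (T.J : Set G) →* Equiv.Perm V3 :=
  (T.coordEquiv.symm.permCongrHom.toMonoidHom).comp
    ((MulAut.toPerm T.J).comp (Subgroup.normalizerMonoidHom T.J))

theorem conjPerm_spec (g : Subgroup.normalizer (T.J : Set G)) (v : V3) :
    (g : G) * T.q v * (g : G)⁻¹ = T.q (T.conjPerm g v) := by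
  have h : T.coordEquiv (T.conjPerm g v) = Subgroup.normalizerMonoidHom T.J g (T.coordEquiv v) := by
    simp [conjPerm, MulAut.toPerm]
    rfl
  exact (congrArg Subtype.val h).symm

theorem conjPerm_eq {g : Subgroup.normalizer (T.J : Set G)} {v w : V3}
    (h : (g : G) * T.q v * (g : G)⁻¹ = T.q w) : T.conjPerm g v = w :=
  T.q_inj ((T.conjPerm_spec g v).symm.trans h)

/-- The image of the normaliser. -/
noncomputable def W : Subgroup (Equiv.Perm V3) := T.conjPerm.range

theorem conjPerm_ker {g : Subgroup.normalizer (T.J : Set G)} : T.conjPerm g = 1 ↔ (g : G) ∈ T.J := by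
  constructor
  · intro h
    refine T.cent_J fun x hx => ?_
    obtain ⟨v, rfl⟩ := T.mem_J.1 hx
    refine mul_inv_eq_iff_eq_mul.1 ?_
    rw [T.conjPerm_spec, h]
    rfl
  · intro h
    exact Equiv.ext fun v => T.conjPerm_eq (by
      rw [T.J_comm h (T.q_mem v), mul_inv_cancel_right]
      rfl)

theorem sm_normal : T.φ sm ∈ Subgroup.normalizer (T.J : Set G) := by
  have hle : T.J.map (MulAut.conj (T.φ sm)).toMonoidHom ≤ T.J := by
    rintro _ ⟨x, hx, rfl⟩
    obtain ⟨v, rfl⟩ := T.mem_J.1 hx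
    refine T.mem_J.2 ⟨mU v, ?_⟩
    rw [q, ← sm_act, map_mul, map_mul, map_inv]
    rfl
  rw [Subgroup.mem_normalizer_iff_map_conj_eq]
  exact Subgroup.eq_of_le_of_card_ge hle (by rw [Subgroup.card_map_of_injective (MulEquiv.injective _)])

theorem tm_normal : T.φ tm ∈ Subgroup.normalizer (T.J : Set G) := by
  have hle : T.J.map (MulAut.conj (T.φ tm)).toMonoidHom ≤ T.J := by
    rintro _ ⟨x, hx, rfl⟩
    obtain ⟨v, rfl⟩ := T.mem_J.1 hx
    refine T.mem_J.2 ⟨mT v, ?_⟩
    rw [q, ← tm_act, map_mul, map_mul, map_inv]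
    rfl
  rw [Subgroup.mem_normalizer_iff_map_conj_eq]
  exact Subgroup.eq_of_le_of_card_ge hle (by rw [Subgroup.card_map_of_injective (MulEquiv.injective _)])

theorem sm_act' (v : V3) : T.φ sm * T.q v * (T.φ sm)⁻¹ = T.q (mU v) := by
  simp only [q]
  rw [← sm_act, map_mul, map_mul, map_inv]

theorem tm_act' (v : V3) : T.φ tm * T.q v * (T.φ tm)⁻¹ = T.q (mT v) := by
  simp only [q]
  rw [← tm_act, map_mul, map_mul, map_inv]

theorem conjPerm_add (g : Subgroup.normalizer (T.J : Set G)) (x y : V3) :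
    T.conjPerm g (x + y) = T.conjPerm g x + T.conjPerm g y := by
  refine T.conjPerm_eq ?_
  rw [T.q_add, T.q_add, ← T.conjPerm_spec, ← T.conjPerm_spec]
  group

theorem wdata : WData T.W where
  add := by
    rintro _ ⟨g, rfl⟩ x y
    exact T.conjPerm_add g x y
  stab := by
    rintro _ ⟨g, rfl⟩ h
    have hga := T.conjPerm_spec g dia
    rw [h, T.q_dia, mul_inv_eq_iff_eq_mul] at hga
    obtain ⟨m, hm⟩ := T.cent_a.1 hga
    obtain ⟨k, hk⟩ : ∃ k, k = m.k := ⟨_, rfl⟩
    refine ⟨k, fun v => ext_additive (f := ⇑(T.conjPerm g)) (T.conjPerm_add g) (six_add k)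
      (fun u hu => T.conjPerm_eq ?_) v⟩
    rw [← hm]
    simp only [q, hk, ← normalising, map_mul, map_inv]
  real := by
    intro k
    let u : Equiv.Perm V3 := T.conjPerm ⟨_, T.sm_normal⟩
    let t : Equiv.Perm V3 := T.conjPerm ⟨_, T.tm_normal⟩
    have hu : ∀ v, u v = mU v := fun v => T.conjPerm_eq (T.sm_act' v)
    have ht : ∀ v, t v = mT v := fun v => T.conjPerm_eq (T.tm_act' v)
    have huW : u ∈ T.W := ⟨_, rfl⟩
    have htW : t ∈ T.W := ⟨_, rfl⟩
    have hpow : ∀ n v, (u ^ n) v = mU^[n] v := fun n v => by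
      rw [← Equiv.Perm.iterate_eq_pow, show ⇑u = mU from funext hu]
    unfold six
    by_cases hk : k.1 < 3
    · exact ⟨u ^ k.1, T.W.pow_mem huW _, fun v => by rw [if_pos hk, hpow]⟩
    · exact ⟨t * u ^ (k.1 - 3), T.W.mul_mem htW (T.W.pow_mem huW _), fun v => by
        rw [if_neg hk, Equiv.Perm.mul_apply, ht, hpow]⟩
  nine := by
    haveI : Fact (Nat.Prime 3) := ⟨Nat.prime_three⟩
    intro h
    have hk : Nat.card T.conjPerm.ker = 27 := by
      rw [← T.card_J, ← Subgroup.card_map_of_injective (Subgroup.subtype_injective _)]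
      congr 2
      ext x
      constructor
      · rintro ⟨g, hg, rfl⟩
        exact T.conjPerm_ker.1 hg
      · intro hx
        refine ⟨⟨x, Subgroup.le_normalizer hx⟩, T.conjPerm_ker.2 hx, rfl⟩
    have h243 : 3 ^ 5 ∣ Nat.card (Subgroup.normalizer (T.J : Set G)) := by
      rw [← T.conjPerm.ker.card_mul_index, Subgroup.index_ker, hk]
      rw [show 3 ^ 5 = 27 * 9 from rfl]
      exact Nat.mul_dvd_mul (dvd_refl 27) h
    obtain ⟨Q, hQ⟩ := Sylow.exists_subgroup_card_pow_prime 3 h243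
    have := T.card_le_of_isPGroup ((IsPGroup.of_card hQ).map (Subgroup.normalizer (T.J : Set G)).subtype)
    rw [Subgroup.card_map_of_injective (Subgroup.subtype_injective _), hQ] at this
    norm_num at this

theorem neg_mem_orb_iff : -dia ∈ T.wdata.orb ↔ ∃ g : G, g * T.a * g⁻¹ = T.a⁻¹ := by
  rw [T.wdata.mem_orb]
  constructor
  · rintro ⟨_, ⟨g, rfl⟩, h⟩
    refine ⟨g, ?_⟩
    rw [← T.q_dia, T.conjPerm_spec, h, T.q_neg]
  · rintro ⟨g, hg⟩
    obtain ⟨n, hn, hna⟩ := T.fusion (g := g) (by rw [hg]; exact T.J.inv_mem T.a_mem)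
    refine ⟨T.conjPerm ⟨n, hn⟩, ⟨_, rfl⟩, T.conjPerm_eq ?_⟩
    show n * T.q dia * n⁻¹ = _
    rw [T.q_dia, hna, hg, T.q_neg, T.q_dia]

/-! ### Acting elements -/

/-- Conjugation on the coordinates. -/
def Acts (g : G) (f : V3 → V3) : Prop := ∀ v, g * T.q v * g⁻¹ = T.q (f v)

theorem Acts.mul {g h : G} {f e : V3 → V3} (hg : T.Acts g f) (hh : T.Acts h e) :
    T.Acts (g * h) fun v => f (e v) := fun v => by
  rw [← hg, ← hh]
  group

theorem Acts.comm {g : G} {f : V3 → V3} (hg : T.Acts g f) {v : V3} : g * T.q v = T.q (f v) * g := by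
  rw [← hg, inv_mul_cancel_right]

theorem Acts.comm_iff {g : G} {f : V3 → V3} (hg : T.Acts g f) {v : V3} : g * T.q v = T.q v * g ↔ f v = v := by
  rw [Acts.comm T hg, mul_left_inj]
  exact ⟨fun h => T.q_inj h, fun h => by rw [h]⟩

theorem Acts.mem_normalizer {g : G} {f : V3 → V3} (hg : T.Acts g f) : g ∈ Subgroup.normalizer (T.J : Set G) := by
  rw [Subgroup.mem_normalizer_iff_map_conj_eq]
  refine Subgroup.eq_of_le_of_card_ge ?_ (by rw [Subgroup.card_map_of_injective (MulEquiv.injective _)])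
  rintro _ ⟨x, hx, rfl⟩
  obtain ⟨v, rfl⟩ := T.mem_J.1 hx
  exact T.mem_J.2 ⟨f v, (hg v).symm⟩

theorem acts_of_mem {x : G} (hx : x ∈ T.J) : T.Acts x id := fun v => by
  rw [T.J_comm hx (T.q_mem v), mul_inv_cancel_right]
  rfl

theorem mem_J_of_acts {x : G} (hx : T.Acts x id) : x ∈ T.J := T.cent_J fun y hy => by
  obtain ⟨v, rfl⟩ := T.mem_J.1 hy
  exact (Acts.comm_iff T hx).2 rfl

end Conf

/-- The hypotheses give the local data, for the element or its inverse. -/
theorem exists_conf {G : Type*} [Group G] [Finite G] (x : G) (hx : orderOf x = 3)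
    (eC : Subgroup.centralizer ({x} : Set G) ≃*
      Subgroup.centralizer ({sigma} : Set (Equiv.Perm (Fin 9))))
    (J : Subgroup G) (hJC : J ≤ Subgroup.centralizer ({x} : Set G)) (hJcomm : IsMulCommutative J)
    (hJexp : ∀ j ∈ J, j ^ 3 = 1) (hJcard : Nat.card J = 27)
    (hJsig : ∀ K : Subgroup G, (Nat.card K).Coprime 3 →
      (∀ j ∈ J, K.map (MulAut.conj j).toMonoidHom = K) → K = ⊥) :
    ∃ T : Conf G, T.J = J ∧ (T.a = x ∨ T.a = x⁻¹) := by
  classical
  set C := Subgroup.centralizer ({x} : Set G) with hC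
  set e : Wr ≃* C := modelEquiv.trans eC.symm with he
  set φ : Wr →* G := C.subtype.comp e.toMonoidHom with hφ
  have hinj : Function.Injective φ := C.subtype_injective.comp e.injective
  have hrange : φ.range = C := by
    rw [hφ, MonoidHom.range_comp, MonoidHom.range_eq_top.2 e.surjective, ← MonoidHom.range_eq_map,
      Subgroup.range_subtype]
  have hxC : x ∈ C := Subgroup.mem_centralizer_singleton_iff.2 rfl
  have hcent : ∀ m : Wr, m * e.symm ⟨x, hxC⟩ = e.symm ⟨x, hxC⟩ * m := fun m => by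
    apply e.injective
    rw [map_mul, map_mul, e.apply_symm_apply]
    exact Subtype.ext (Subgroup.mem_centralizer_singleton_iff.1 (e m).2)
  have hcx : φ cc = x ∨ φ cc = x⁻¹ := by
    have hx' : φ (e.symm ⟨x, hxC⟩) = x := by simp [hφ]
    rcases center_eq _ (hcent sm).symm (hcent tm).symm (hcent _).symm with h | h | h
    · exfalso
      rw [h, map_one] at hx'
      rw [← hx', orderOf_one] at hx
      omega
    · exact Or.inl (by rw [← h, hx'])
    · refine Or.inr (eq_inv_of_mul_eq_one_left ?_)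
      rw [← hx', h, ← map_mul, show cc * (cc * cc) = 1 from by decide +kernel, map_one]
  have hJ : Jm.map φ = J := by
    have hJr : J ≤ φ.range := hrange.symm ▸ hJC
    rw [← Subgroup.map_comap_eq_self hJr]
    congr 1
    refine (eq_Jm _ ?_ (fun a ha b hb => hinj ?_) (fun a ha => hinj ?_)).symm
    · rw [← hJcard]
      conv_rhs => rw [← Subgroup.map_comap_eq_self hJr, Subgroup.card_map_of_injective hinj]
    · rw [map_mul, map_mul]
      exact congrArg Subtype.val (hJcomm.is_comm.comm ⟨_, ha⟩ ⟨_, hb⟩)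
    · rw [map_mul, map_mul, map_one, ← pow_two, ← pow_succ]
      exact hJexp _ ha
  refine ⟨⟨φ, hinj, ?_, fun K hK hJK => hJsig K hK fun j hj => Subgroup.mem_normalizer_iff_map_conj_eq.1
    (hJK (hJ.symm ▸ hj))⟩, hJ, hcx⟩
  rw [hrange]
  ext g
  simp only [hC, Subgroup.mem_centralizer_singleton_iff]
  rcases hcx with h | h <;> rw [h]
  exact ⟨fun hg => (show Commute g x from hg).inv_right.eq, fun hg => by
    simpa using (show Commute g x⁻¹ from hg).inv_right.eq⟩

end Cfsg.Agent.Spor.SymNine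

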