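import Cfsg.Agent.Lib.Spor.SymNine.Tm

/-!
The automiser of order six, and the signed monomial automiser with all centralisers inside the normaliser: an
involution of a Sylow subgroup is isolated.
-/

set_option autoImplicit false
set_option linter.unusedSectionVars false
set_option linter.style.haveILetI false
set_option maxRecDepth 100000
set_option synthInstance.maxSize 4096
set_option synthInstance.maxHeartbeats 200000

namespace Cfsg.Agent.Spor.SymNine

open Cfsg.Agent.Lie.PSpFourThreeAmalgam (V3 mT mU)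
open Cfsg.Agent.Lie.PSpFourThreeFull (smap smap_add dia)

theorem one_comm_t : ∀ p, Kind.one.mem p → (∀ u, smap p (mT u) = mT (smap p u)) →
    (∀ u, smap p u = u) ∨ ∀ u, smap p u = mT u := by decide +kernel

theorem nonscalar_comm : ∀ p p' : Fin 24 × Bool, (∀ u, smap p (smap p u) = u) → (¬ ∀ u, smap p u = u) →
    (¬ ∀ u, smap p u = -u) → (∀ u, smap p (smap p' u) = smap p' (smap p u)) →
    ∀ u, smap p' (smap p' (smap p' (smap p' u))) = u := by decide +kernel

theorem wr_invol : ∀ m : Wr, m * m = 1 → m ≠ 1 → ∃ k : Wr, k * tm * k⁻¹ = m := by decide +kernel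

theorem eight_neg : Kind.eight.mem (0, false) ∧ ∀ u, smap (0, false) u = -u := by decide +kernel

theorem rot_facts : (∀ u, mU (-u) = -mU u) ∧ ¬ ∀ u, mU u = u := by decide +kernel

theorem v_facts : mT ((1, 0, 0) : V3) ≠ (1, 0, 0) ∧ (∀ v : V3, -v = v → v = 0) ∧
    ((1, 0, 0) : V3) ≠ 0 ∧ ((1, 1, 0) : V3) ≠ 0 := by decide +kernel

namespace Conf

variable {G : Type*} [Group G] [Finite G] (T : Conf G)

/-- A Sylow subgroup for two has no elements of order three. -/
theorem two_three (P : Sylow 2 G) {x : G} (hx : x ∈ (P : Subgroup G)) (h3 : x ^ 3 = 1) : x = 1 := by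
  obtain ⟨k, hk⟩ := P.2 ⟨x, hx⟩
  have h2 : x ^ 2 ^ k = 1 := by simpa using congrArg Subtype.val hk
  have hg : Nat.gcd 3 (2 ^ k) = 1 := Nat.Coprime.pow_right _ (by norm_num)
  exact pow_one x ▸ hg ▸ pow_gcd_eq_one.2 ⟨h3, h2⟩

theorem J_two (P : Sylow 2 G) {x : G} (hx : x ∈ (P : Subgroup G)) (hJ : x ∈ T.J) : x = 1 := by
  obtain ⟨v, rfl⟩ := T.mem_J.1 hJ
  exact two_three P hx (T.q_cube v)

namespace Framed

variable {T} {κ : Kind} (hF : T.Framed κ)
include hF
variable (hc : ∀ v : V3, v ≠ 0 → T.centQ v ≤ Subgroup.normalizer (T.J : Set G))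
include hc

/-- The automiser of order six gives a normal base. -/
theorem normal_one (hκ : κ = .one) : Subgroup.normalizer (T.J : Set G) = ⊤ := by
  subst hκ
  haveI : Fact (Nat.Prime 2) := ⟨Nat.prime_two⟩
  obtain ⟨P, htP, hPN⟩ := hF.exists_sylow_le hc (by decide)
  have hCP : ∀ x ∈ (P : Subgroup G), x * T.t = T.t * x → x = 1 ∨ x = T.t := by
    intro x hx hxt
    obtain ⟨p, hp, hxp, hcomm, -⟩ := hF.comm_t_sq (hPN hx) hxt
    rcases one_comm_t p hp hcomm with hid | hT
    · exact Or.inl (T.J_two P hx (T.mem_J_of_acts fun u => (hxp u).trans (congrArg T.q (hid u))))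
    · refine Or.inr ?_
      have h1 := T.J_two P (mul_mem hx htP) (T.mem_J_of_acts fun u => by
        refine (Acts.mul T hxp T.t_acts u).trans (congrArg T.q ?_)
        exact (hT (mT u)).trans ((show ∀ u : V3, mT (mT u) = u by decide +kernel) u))
      rw [mul_eq_one_iff_eq_inv, inv_eq_of_mul_eq_one_right T.t_sq] at h1
      exact h1
  haveI : Nontrivial (P : Subgroup G) := ⟨⟨T.t, htP⟩, 1, fun h => T.t_ne (congrArg Subtype.val h)⟩
  haveI := P.2.center_nontrivial
  obtain ⟨⟨z, hz⟩, hz1⟩ := exists_ne (1 : Subgroup.center (P : Subgroup G))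
  have hzt : (z : G) = T.t := (hCP z z.2 (congrArg Subtype.val
      (Subgroup.mem_center_iff.1 hz ⟨T.t, htP⟩)).symm).resolve_left fun h => hz1 (Subtype.ext (Subtype.ext h))
  have hall : ∀ x ∈ (P : Subgroup G), x = 1 ∨ x = T.t := fun x hx => hCP x hx (by
    have := congrArg Subtype.val (Subgroup.mem_center_iff.1 hz ⟨x, hx⟩)
    simpa [hzt] using this)
  refine hF.top_of_isolated hc P (orderOf_eq_prime (by rw [pow_two, T.t_sq]) T.t_ne) htP (fun g hg => ?_)
    (v := (1, 0, 0)) fun h => v_facts.1 ((Acts.comm_iff T T.t_acts).1 h)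
  exact (hall _ hg).resolve_left fun h => T.t_ne (conj_eq_one_iff.1 h)

/-- The signed monomial automiser with all centralisers in the normaliser gives a normal base. -/
theorem normal_eight (hκ : κ = .eight) : Subgroup.normalizer (T.J : Set G) = ⊤ := by
  subst hκ
  haveI : Fact (Nat.Prime 2) := ⟨Nat.prime_two⟩
  haveI : Fact (Nat.Prime 3) := ⟨Nat.prime_three⟩
  obtain ⟨P, htP, hPN⟩ := hF.exists_sylow_le hc (by decide)
  set N := Subgroup.normalizer (T.J : Set G) with hN
  -- an involution of the Sylow subgroup inverting the base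
  obtain ⟨g₀, hg₀⟩ := hF.all _ eight_neg.1
  have hg₀N : g₀ ∈ N := Acts.mem_normalizer T hg₀
  have hn2 : ∀ v, g₀ * g₀ * T.q v * (g₀ * g₀)⁻¹ = T.q v := fun v =>
    (Acts.mul T hg₀ hg₀ v).trans (congrArg T.q (((eight_neg.2 _).trans (congrArg Neg.neg (eight_neg.2 v))).trans (neg_neg v)))
  obtain ⟨w, hw⟩ := T.mem_J.1 (T.mem_J_of_acts (x := g₀ * g₀) hn2)
  set z₀ := g₀ * g₀ * g₀ with hz₀
  have hz₀sq : z₀ * z₀ = 1 := by
    rw [hz₀, ← T.q_cube w, hw, pow_succ, pow_two]
    group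
  have hz₀a : T.Acts z₀ fun v => -v := fun v => by
    rw [hz₀, Acts.mul T (Acts.mul T hg₀ hg₀) hg₀ v]
    simp only [eight_neg.2, neg_neg]
  have hz₀1 : z₀ ≠ 1 := fun h => by
    have h1 := hz₀a (1, 0, 0)
    rw [h, one_mul, inv_one, mul_one] at h1
    exact v_facts.2.2.1 (v_facts.2.1 _ (T.q_inj h1).symm)
  obtain ⟨S', hS'⟩ := (IsPGroup.of_card (n := 1) (by
    rw [Nat.card_zpowers, Subgroup.orderOf_mk, orderOf_eq_prime (by rw [pow_two, hz₀sq]) hz₀1, pow_one]) :
      IsPGroup 2 (Subgroup.zpowers (⟨z₀, Acts.mem_normalizer T hz₀a⟩ : N))).exists_le_sylow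
  obtain ⟨n, hn⟩ := MulAction.exists_smul_eq N S' (P.subtype hPN)
  have hzP : (n : G) * z₀ * (n : G)⁻¹ ∈ (P : Subgroup G) := by
    have h1 : MulAut.conj n • (⟨z₀, Acts.mem_normalizer T hz₀a⟩ : N) ∈ ((n • S' : Sylow 2 N) : Subgroup N) := by
      rw [Sylow.coe_subgroup_smul]
      exact Subgroup.smul_mem_pointwise_smul _ _ _ (hS' (Subgroup.mem_zpowers _))
    rw [hn] at h1
    exact h1
  set z := (n : G) * z₀ * (n : G)⁻¹ with hz
  have hza : T.Acts z fun v => -v := fun v => by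
    obtain ⟨p, -, hp⟩ := hF.dir _ (N.inv_mem n.2)
    have h1 : (n : G)⁻¹ * T.q v * (n : G) = T.q (smap p v) := by simpa using hp v
    calc (n : G) * z₀ * (n : G)⁻¹ * T.q v * ((n : G) * z₀ * (n : G)⁻¹)⁻¹
        = (n : G) * (z₀ * ((n : G)⁻¹ * T.q v * (n : G)) * z₀⁻¹) * (n : G)⁻¹ := by group
      _ = (n : G) * (T.q (smap p v))⁻¹ * (n : G)⁻¹ := by rw [h1, hz₀a, T.q_neg]
      _ = T.q (-v) := by rw [T.q_neg, ← h1]; group
  have hz2 : z * z = 1 := by
    rw [hz, show (n : G) * z₀ * (n : G)⁻¹ * ((n : G) * z₀ * (n : G)⁻¹) = (n : G) * (z₀ * z₀) * (n : G)⁻¹ by group,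
      hz₀sq]
    group
  have hz1 : z ≠ 1 := fun h => hz₀1 (conj_eq_one_iff.1 h)
  -- it is isolated
  refine hF.top_of_isolated hc P (orderOf_eq_prime (by rw [pow_two, hz2]) hz1) hzP (fun g hg => ?_)
    (v := (1, 0, 0)) fun h => v_facts.2.2.1 (v_facts.2.1 _ ((Acts.comm_iff T hza).1 h))
  set r := g * z * g⁻¹ with hr
  have hr2 : r * r = 1 := by
    rw [hr, show g * z * g⁻¹ * (g * z * g⁻¹) = g * (z * z) * g⁻¹ by group, hz2]
    group
  have hr1 : r ≠ 1 := fun h => hz1 (conj_eq_one_iff.1 h)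
  obtain ⟨p, -, hrp⟩ := hF.dir r (hPN hg)
  have hsq : ∀ u, smap p (smap p u) = u := fun u => T.q_inj (by
    rw [← Acts.mul T hrp hrp u, hr2]; group)
  by_cases hneg : ∀ u, smap p u = -u
  · have h1 := T.J_two P (mul_mem hg hzP) (T.mem_J_of_acts fun u => by
      refine (Acts.mul T hrp hza u).trans (congrArg T.q ?_)
      exact (hneg (-u)).trans (neg_neg u))
    rw [mul_eq_one_iff_eq_inv, inv_eq_of_mul_eq_one_right hz2] at h1
    exact h1
  exfalso
  have hid : ¬ ∀ u, smap p u = u := fun h =>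
    hr1 (T.J_two P hg (T.mem_J_of_acts fun u => (hrp u).trans (congrArg T.q (h u))))
  obtain ⟨v₀, hv₀, hfix₀⟩ := (invol_fixes .eight p trivial hsq).resolve_right fun h => hneg h.2
  by_cases horb : ∃ v, smap p v = v ∧ ∃ p', Kind.eight.mem p' ∧ (smap p' v = dia ∨ smap p' v = -dia)
  · -- it would be conjugate to the involution fixing the central element
    obtain ⟨v, hfix, p', hp', hd⟩ := horb
    obtain ⟨h', hh'⟩ := hF.all p' hp'
    have h1 := T.acts_conj_comm hh' ((Acts.comm_iff T hrp).2 hfix)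
    have h2 : h' * r * h'⁻¹ ∈ T.φ.range := T.cent_a.1 (by
      rcases hd with hd | hd <;> rw [hd] at h1
      · rwa [T.q_dia] at h1
      · rw [T.q_neg, T.q_dia] at h1
        simpa using (show Commute _ T.a⁻¹ from h1).inv_right.eq)
    obtain ⟨m, hm⟩ := h2
    obtain ⟨k, hk⟩ := wr_invol m (T.inj (by
        rw [map_mul, map_one, hm, show h' * r * h'⁻¹ * (h' * r * h'⁻¹) = h' * (r * r) * h'⁻¹ by group, hr2]
        group))
      (fun h => hr1 (conj_eq_one_iff.1 (by rw [← hm, h, map_one])))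
    set e := g⁻¹ * h'⁻¹ * T.φ k with he
    have hze : e * T.t * e⁻¹ = z := by
      calc e * T.t * e⁻¹ = g⁻¹ * h'⁻¹ * (T.φ k * T.φ tm * (T.φ k)⁻¹) * h' * g := by rw [he, Conf.t]; group
        _ = g⁻¹ * h'⁻¹ * (h' * r * h'⁻¹) * h' * g := by rw [← map_mul, ← map_inv, ← map_mul, hk, hm]
        _ = z := by rw [hr]; group
    have heN : e⁻¹ ∈ N := hF.fix_t hc (by decide) (g := e⁻¹) (by
      rw [inv_inv, hze]; exact Acts.mem_normalizer T hza)
    obtain ⟨u, hu⟩ := T.mem_J.1 ((Subgroup.mem_normalizer_iff.1 (by simpa using N.inv_mem heN : e ∈ N) _).1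
      (T.q_mem (1, 1, 0)))
    have hcomm : z * T.q u = T.q u * z := by
      have h3 := (Acts.comm_iff T T.t_acts).2 tm_fixed.2.1
      rw [← hze, hu]
      calc e * T.t * e⁻¹ * (e * T.q (1, 1, 0) * e⁻¹) = e * (T.t * T.q (1, 1, 0)) * e⁻¹ := by group
        _ = _ := by rw [h3]; group
    have hu0 : u = 0 := v_facts.2.1 u ((Acts.comm_iff T hza).1 hcomm)
    rw [hu0, T.q_zero, eq_comm, conj_eq_one_iff, T.q_eq_one] at hu
    exact v_facts.2.2.2 hu
  · -- the centraliser would have too few elements of order three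
    push Not at horb
    obtain ⟨h, hha, hhz⟩ := T.exists_comm_lift hza hz2 T.sm_act' rot_facts.1
    obtain ⟨w', hw'⟩ := T.mem_J.1 (T.mem_J_of_acts (x := h * h * h) fun u => by
      rw [Acts.mul T (Acts.mul T hha hha) hha u]
      exact congrArg T.q ((show ∀ u, mU (mU (mU u)) = u by decide +kernel) u))
    have hh3 : h ^ 3 = 1 := by
      rw [pow_succ, pow_two, ← hw', T.q_eq_one]
      refine v_facts.2.1 _ ((Acts.comm_iff T hza).1 ?_)
      rw [hw']
      exact (((show Commute h z from hhz).mul_left hhz).mul_left hhz).symm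
    have hhJ : h ∉ T.J := fun hh => rot_facts.2 fun u => T.q_inj (by
      rw [← hha u, T.J_comm hh (T.q_mem u), mul_inv_cancel_right])
    set X := Subgroup.centralizer ({r} : Set G) with hX
    have hyX : g * h * g⁻¹ ∈ X := Subgroup.mem_centralizer_singleton_iff.2 (by
      calc g * h * g⁻¹ * r = g * (h * z) * g⁻¹ := by rw [hr]; group
        _ = _ := by rw [hhz, hr]; group)
    have hy3 : (⟨g * h * g⁻¹, hyX⟩ : X) ^ 3 = 1 := Subtype.ext (by
      rw [SubgroupClass.coe_pow, conj_pow, hh3]; simp)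
    set E := T.J.subgroupOf X with hE
    have hEp : IsPGroup 3 E := fun e => ⟨1, Subtype.ext (Subtype.ext (by
      obtain ⟨u, hu⟩ := T.mem_J.1 (Subgroup.mem_subgroupOf.1 e.2)
      rw [pow_one, SubgroupClass.coe_pow, SubgroupClass.coe_pow, ← hu, T.q_cube]
      rfl))⟩
    obtain ⟨R, hR⟩ := hEp.exists_le_sylow
    have hRE : (R : Subgroup X) ≤ E := by
      by_contra hne
      haveI : Group.IsNilpotent (R : Subgroup X) := R.2.isNilpotent
      have hlt : E.subgroupOf (R : Subgroup X) < ⊤ := lt_top_iff_ne_top.2 fun h =>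
        hne (Subgroup.subgroupOf_eq_top.1 h)
      obtain ⟨x, hx, hxE⟩ := SetLike.exists_of_lt (Group.normalizerCondition_of_isNilpotent _ hlt)
      have hqX : T.q v₀ ∈ X := Subgroup.mem_centralizer_singleton_iff.2 ((Acts.comm_iff T hrp).2 hfix₀).symm
      have hxN : ((x : X) : G) ∈ N := by
        have hmem := (Subgroup.mem_normalizer_iff.1 hx ⟨⟨T.q v₀, hqX⟩, hR (Subgroup.mem_subgroupOf.2 (T.q_mem v₀))⟩).1
          (Subgroup.mem_subgroupOf.2 (Subgroup.mem_subgroupOf.2 (T.q_mem v₀)))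
        exact hF.mem_normalizer_of_conj hc hv₀
          (by simpa using Subgroup.mem_subgroupOf.1 (Subgroup.mem_subgroupOf.1 hmem))
      obtain ⟨p', -, hp'⟩ := hF.dir _ hxN
      have hxr : ((x : X) : G) * r = r * ((x : X) : G) := Subgroup.mem_centralizer_singleton_iff.1 (x : X).2
      have h4 := nonscalar_comm p p' hsq hid hneg fun u => T.q_inj (by
        rw [← Acts.mul T hrp hp' u, ← hxr, Acts.mul T hp' hrp u])
      set x' := ((x : X) : G) with hx'
      obtain ⟨u₄, hu₄⟩ := T.mem_J.1 (T.mem_J_of_acts (x := x' * x' * (x' * x')) fun u => by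
        rw [Acts.mul T (Acts.mul T hp' hp') (Acts.mul T hp' hp') u]
        exact congrArg T.q (h4 u))
      obtain ⟨k, hk⟩ := R.2 x
      have h12 : x' ^ 12 = 1 := by
        rw [show (12 : ℕ) = 4 * 3 from rfl, pow_mul, show x' ^ 4 = x' * x' * (x' * x') by simp [pow_succ, mul_assoc],
          ← hu₄, T.q_cube]
      have h3k : x' ^ 3 ^ k = 1 := by
        have h5 := congrArg (fun y : (R : Subgroup X) => ((y : X) : G)) hk
        simpa using h5
      have hx3 : x' ^ 3 = 1 := by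
        have hd : orderOf x' ∣ 3 := by
          obtain ⟨i, -, hi⟩ := (Nat.dvd_prime_pow Nat.prime_three).1 (orderOf_dvd_iff_pow_eq_one.2 h3k)
          have h9 := orderOf_dvd_iff_pow_eq_one.2 h12
          rw [hi] at h9 ⊢
          rcases i with _ | _ | i
          · simp
          · simp
          · exfalso
            have : 9 ∣ 12 := (Dvd.intro_left (3 ^ i) (by ring)).trans h9
            norm_num at this
        exact orderOf_dvd_iff_pow_eq_one.1 hd
      refine hxE (Subgroup.mem_subgroupOf.2 (Subgroup.mem_subgroupOf.2 ?_))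
      have hx4 : x' = x' * x' * (x' * x') := by
        calc x' = x' * x' ^ 3 := by rw [hx3, mul_one]
          _ = _ := by simp [pow_succ, mul_assoc]
      show x' ∈ T.J
      rw [hx4, ← hu₄]
      exact T.q_mem u₄
    obtain ⟨R', hR'⟩ := (show IsPGroup 3 (Subgroup.zpowers (⟨g * h * g⁻¹, hyX⟩ : X)) from fun y => ⟨1, by
      obtain ⟨i, hi⟩ := Subgroup.mem_zpowers_iff.1 y.2
      refine Subtype.ext ?_
      rw [pow_one, SubgroupClass.coe_pow, ← hi, ← zpow_natCast (_ ^ i), ← zpow_mul, mul_comm, zpow_mul,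
        zpow_natCast, hy3, one_zpow]
      rfl⟩).exists_le_sylow
    obtain ⟨k, hk⟩ := MulAction.exists_smul_eq X R' R
    have h5 : MulAut.conj k • (⟨g * h * g⁻¹, hyX⟩ : X) ∈ ((k • R' : Sylow 3 X) : Subgroup X) := by
      rw [Sylow.coe_subgroup_smul]
      exact Subgroup.smul_mem_pointwise_smul _ _ _ (hR' (Subgroup.mem_zpowers _))
    rw [hk] at h5
    obtain ⟨u, hu⟩ := T.mem_J.1 (Subgroup.mem_subgroupOf.1 (hRE h5))
    have hu' : T.q u = ((k : G) * g) * h * ((k : G) * g)⁻¹ := by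
      rw [hu, MulAut.smul_def, MulAut.conj_apply]
      simp [mul_assoc]
    have hu0 : u ≠ 0 := fun h0 => hhJ (by
      rw [h0, T.q_zero, eq_comm, conj_eq_one_iff] at hu'
      rw [hu']; exact T.J.one_mem)
    refine hhJ (hF.mem_J_of_isConj hc (z := h) (g := ((k : G) * g)⁻¹) (Acts.mem_normalizer T hha) hu0
      (fun p' hp' => ?_) (by rw [hu']; group))
    refine horb u ?_ p' hp'
    exact (Acts.comm_iff T hrp).1 (by
      rw [hu]
      exact (Subgroup.mem_centralizer_singleton_iff.1 (MulAut.conj k • (⟨g * h * g⁻¹, hyX⟩ : X)).2).symm)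

end Framed

end Conf

end Cfsg.Agent.Spor.SymNine
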