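import Cfsg.Agent.Lib.Spor.SymNine.Fusion

/-!
The involution of the centraliser of the central element: its centraliser, its conjugates in the normaliser of the
base, and the Sylow subgroups for the prime two.
-/

set_option autoImplicit false
set_option linter.unusedSectionVars false
set_option linter.style.haveILetI false
set_option maxRecDepth 100000
set_option synthInstance.maxSize 4096
set_option synthInstance.maxHeartbeats 200000

namespace Cfsg.Agent.Spor.SymNine

open Cfsg.Agent.Lie.PSpFourThreeAmalgam (V3 mT)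
open Cfsg.Agent.Lie.PSpFourThreeFull (smap smap_add indep)

theorem tm_comm_sq : ∀ p : Fin 24 × Bool, (∀ u, smap p (mT u) = mT (smap p u)) →
    ∀ u, smap p (smap p u) = u := by decide +kernel

theorem tm_plane : ∀ p : Fin 24 × Bool, smap p (1, 1, 0) = (1, 1, 0) → smap p (0, 0, 1) = (0, 0, 1) →
    (∀ u, smap p u = u) ∨ ∀ u, smap p u = mT u := by decide +kernel

theorem plane_indep : indep ((1, 1, 0) : V3) (0, 0, 1) := by
  unfold indep
  decide +kernel

theorem tm_fixed : (Finset.univ.filter fun v : V3 => mT v = v).card = 9 ∧ mT ((1, 1, 0) : V3) = (1, 1, 0) ∧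
    mT ((0, 0, 1) : V3) = (0, 0, 1) := by decide +kernel

theorem invol_fixes : ∀ κ : Kind, ∀ p, κ.mem p → (∀ u, smap p (smap p u) = u) →
    (∃ v, v ≠ 0 ∧ smap p v = v) ∨ ((κ = .two ∨ κ = .eight) ∧ ∀ u, smap p u = -u) := by decide +kernel

theorem order_four : ∃ p : Fin 24 × Bool, ¬ ∀ u, smap p (smap p (smap p (smap p (smap p (smap p u))))) = u := by
  decide +kernel

namespace Conf

variable {G : Type*} [Group G] [Finite G] (T : Conf G)

/-- The involution. -/
def t : G := T.φ tm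

theorem t_sq : T.t * T.t = 1 := by rw [t, ← map_mul, tm_sq, map_one]

theorem t_acts : T.Acts T.t mT := T.tm_act'

theorem t_ne : T.t ≠ 1 := fun h => by
  have h1 := T.t_acts (1, 0, 0)
  rw [h, one_mul, inv_one, mul_one] at h1
  exact absurd (T.q_inj h1) (by decide)

/-- Lifting into the centraliser of an element inverting the base. -/
theorem exists_comm_lift {r g₀ : G} {f : V3 → V3} (hr : T.Acts r fun v => -v) (hr2 : r * r = 1)
    (hg : T.Acts g₀ f) (hf : ∀ v, f (-v) = -f v) : ∃ h, T.Acts h f ∧ h * r = r * h := by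
  have hri : r⁻¹ = r := inv_eq_of_mul_eq_one_right hr2
  have hd : ∀ v, g₀⁻¹ * r * g₀ * r⁻¹ * T.q v * (g₀⁻¹ * r * g₀ * r⁻¹)⁻¹ = T.q v := by
    intro v
    have h1 : r⁻¹ * T.q v * r = T.q (-v) := by
      have := hr v
      rwa [hri] at this ⊢
    calc g₀⁻¹ * r * g₀ * r⁻¹ * T.q v * (g₀⁻¹ * r * g₀ * r⁻¹)⁻¹
        = g₀⁻¹ * (r * (g₀ * (r⁻¹ * T.q v * r) * g₀⁻¹) * r⁻¹) * g₀ := by group
      _ = g₀⁻¹ * T.q (f v) * g₀ := by
          rw [h1, hg, hr, hf]
          simp only [neg_neg]
      _ = T.q v := by rw [← hg]; group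
  obtain ⟨w, hw⟩ := T.mem_J.1 (T.mem_J_of_acts (x := g₀⁻¹ * r * g₀ * r⁻¹) hd)
  refine ⟨g₀ * T.q (-w), fun v => ?_, ?_⟩
  · rw [Acts.mul T hg (T.acts_of_mem (T.q_mem (-w))) v]
    rfl
  · have h2 : r * g₀ = g₀ * T.q w * r := by rw [hw]; group
    have h3 : r * T.q (-w) = T.q w * r := by
      have := hr (-w)
      simp only [neg_neg] at this
      rw [mul_inv_eq_iff_eq_mul] at this
      exact this
    calc g₀ * T.q (-w) * r = g₀ * (T.q (w + w) * r) := by
          rw [show w + w = -w from (show ∀ w : V3, w + w = -w by decide +kernel) w, mul_assoc]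
      _ = g₀ * T.q w * (T.q w * r) := by rw [T.q_add]; group
      _ = g₀ * T.q w * r * T.q (-w) := by rw [← h3]; group
      _ = r * (g₀ * T.q (-w)) := by rw [← h2]; group

namespace Framed

variable {T} {κ : Kind} (hF : T.Framed κ)
include hF

/-- An element of the normaliser commuting with the involution acts with square one. -/
theorem comm_t_sq {g : G} (hg : g ∈ Subgroup.normalizer (T.J : Set G)) (hc : g * T.t = T.t * g) :
    ∃ p, κ.mem p ∧ T.Acts g (smap p) ∧ (∀ u, smap p (mT u) = mT (smap p u)) ∧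
      ∀ u, smap p (smap p u) = u := by
  obtain ⟨p, hp, hgp⟩ := hF.dir g hg
  have hcomm : ∀ u, smap p (mT u) = mT (smap p u) := fun u => T.q_inj (by
    rw [← Acts.mul T hgp T.t_acts u, hc, Acts.mul T T.t_acts hgp u])
  exact ⟨p, hp, hgp, hcomm, tm_comm_sq p hcomm⟩

variable (hc : ∀ v : V3, v ≠ 0 → T.centQ v ≤ Subgroup.normalizer (T.J : Set G))
include hc

/-- The centraliser of the involution normalises the base. -/
theorem cent_t {x₀ : G} (hx₀ : x₀ * T.t = T.t * x₀) : x₀ ∈ Subgroup.normalizer (T.J : Set G) := by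
  classical
  set X := Subgroup.centralizer ({T.t} : Set G) with hX
  set L := (Subgroup.zpowers T.t).subgroupOf X with hL
  have hmL : ∀ x : X, x ∈ L ↔ (x : G) = 1 ∨ (x : G) = T.t := by
    intro x
    rw [hL, Subgroup.mem_subgroupOf, Subgroup.mem_zpowers_iff]
    constructor
    · rintro ⟨k, hk⟩
      rw [← hk]
      rcases Int.even_or_odd k with ⟨j, rfl⟩ | ⟨j, rfl⟩
      · exact Or.inl (by rw [← two_mul, zpow_mul, zpow_two, T.t_sq, one_zpow])
      · exact Or.inr (by rw [zpow_add, zpow_mul, zpow_two, T.t_sq, one_zpow, one_mul, zpow_one])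
    · rintro (h | h)
      · exact ⟨0, by rw [zpow_zero, h]⟩
      · exact ⟨1, by rw [zpow_one, h]⟩
  have hxt : ∀ x : X, (x : G) * T.t = T.t * (x : G) := fun x => Subgroup.mem_centralizer_singleton_iff.1 x.2
  haveI hLn : L.Normal := ⟨fun y hy x => (hmL _).2 (by
    rcases (hmL y).1 hy with h | h <;> simp [h, hxt x])⟩
  set π := QuotientGroup.mk' L with hπ
  set E := T.J.subgroupOf X with hE
  have hqX : ∀ v, mT v = v → T.q v ∈ X := fun v hv => Subgroup.mem_centralizer_singleton_iff.2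
    ((Acts.comm_iff T T.t_acts).2 hv).symm
  have hEmem : ∀ e : X, e ∈ E ↔ ∃ v, mT v = v ∧ (e : G) = T.q v := by
    intro e
    rw [hE, Subgroup.mem_subgroupOf, T.mem_J]
    constructor
    · rintro ⟨v, hv⟩
      refine ⟨v, (Acts.comm_iff T T.t_acts).1 ?_, hv.symm⟩
      rw [hv, hxt e]
    · rintro ⟨v, -, hv⟩
      exact ⟨v, hv.symm⟩
  have hEc : Nat.card E = 9 := by
    rw [← tm_fixed.1, ← Fintype.card_subtype, ← Nat.card_eq_fintype_card]
    refine (Nat.card_congr (Equiv.ofBijective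
      (fun v : {v : V3 // mT v = v} => (⟨⟨T.q v.1, hqX v.1 v.2⟩, (hEmem _).2 ⟨v.1, v.2, rfl⟩⟩ : E))
      ⟨fun a b h => Subtype.ext (T.q_inj (congrArg (fun e : E => ((e : X) : G)) h)), fun e => ?_⟩)).symm
    obtain ⟨v, hv, hev⟩ := (hEmem e).1 e.2
    exact ⟨⟨v, hv⟩, Subtype.ext (Subtype.ext hev.symm)⟩
  have hEcube : ∀ e ∈ E, (e : G) ^ 3 = 1 := fun e he => by
    obtain ⟨v, -, hv⟩ := (hEmem e).1 he
    rw [hv, T.q_cube]
  -- elements of order three of a coset of the kernel
  have hcube : ∀ a b : X, (a : G) ^ 3 = 1 → (b : G) ^ 3 = 1 → π a = π b → a = b := by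
    intro a b ha hb h
    rcases (hmL _).1 ((QuotientGroup.eq).1 h) with h1 | h1
    · exact Subtype.ext (inv_mul_eq_one.1 h1)
    · exfalso
      rw [Subgroup.coe_mul, Subgroup.coe_inv, inv_mul_eq_iff_eq_mul] at h1
      rw [h1, (show Commute (a : G) T.t from hxt a).mul_pow, ha, one_mul, pow_succ, pow_two, T.t_sq,
        one_mul] at hb
      exact T.t_ne hb
  have hconj : ∀ x e : X, e ∈ E → ((x * e * x⁻¹ : X) : G) ^ 3 = 1 := fun x e he => by
    rw [Subgroup.coe_mul, Subgroup.coe_mul, Subgroup.coe_inv, conj_pow, hEcube e he, mul_one, mul_inv_cancel]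
  -- elements normalising the image normalise the base
  have hback : ∀ x : X, π x ∈ Subgroup.normalizer ((E.map π) : Set (X ⧸ L)) →
      (x : G) ∈ Subgroup.normalizer (T.J : Set G) := by
    intro x hx
    have he : (⟨T.q (1, 1, 0), hqX _ tm_fixed.2.1⟩ : X) ∈ E := (hEmem _).2 ⟨_, tm_fixed.2.1, rfl⟩
    obtain ⟨f, hf, hfe⟩ := (Subgroup.mem_normalizer_iff.1 hx _).1 (Subgroup.mem_map_of_mem π he)
    rw [← map_inv, ← map_mul, ← map_mul] at hfe
    have h1 := hcube _ _ (hEcube f hf) (hconj x _ he) hfe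
    exact hF.mem_normalizer_of_conj hc (v := (1, 1, 0)) (by decide)
      (by have h2 := Subgroup.mem_subgroupOf.1 hf; rw [h1] at h2; simpa using h2)
  have hforth : ∀ x : X, (x : G) ∈ Subgroup.normalizer (T.J : Set G) →
      π x ∈ Subgroup.normalizer ((E.map π) : Set (X ⧸ L)) := by
    intro x hx
    rw [Subgroup.mem_normalizer_iff_map_conj_eq]
    refine Subgroup.eq_of_le_of_card_ge ?_ (le_of_eq (Subgroup.card_map_of_injective (K := E.map π)
      (f := (MulAut.conj (π x)).toMonoidHom) (MulAut.conj (π x)).injective).symm)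
    rintro _ ⟨_, ⟨e, he, rfl⟩, rfl⟩
    refine ⟨x * e * x⁻¹, Subgroup.mem_subgroupOf.2 ?_, by simp⟩
    simpa using (Subgroup.mem_normalizer_iff.1 hx _).1 (Subgroup.mem_subgroupOf.1 he)
  have hcomm : ∀ x e : X, e ∈ E → π x * π e = π e * π x → (x : G) * (e : G) = (e : G) * x := by
    intro x e he h
    rw [← mul_inv_eq_iff_eq_mul, ← map_inv, ← map_mul, ← map_mul] at h
    have h1 := congrArg Subtype.val (hcube _ _ (hconj x e he) (hEcube e he) h)
    simp only [Subgroup.coe_mul, Subgroup.coe_inv] at h1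
    exact mul_inv_eq_iff_eq_mul.1 h1
  have htop := plane_normal (E.map π) (by
      refine (Nat.card_congr (Equiv.ofBijective
        (fun e : E => (⟨π e, Subgroup.mem_map_of_mem π e.2⟩ : E.map π))
        ⟨fun a b h => Subtype.ext (hcube _ _ (hEcube a a.2) (hEcube b b.2) (congrArg Subtype.val h)), ?_⟩)).symm.trans hEc
      rintro ⟨_, e, he, rfl⟩
      exact ⟨⟨e, he⟩, rfl⟩)
    ⟨⟨fun a b => Subtype.ext (by
      obtain ⟨_, e, he, rfl⟩ := a
      obtain ⟨_, f, hf, rfl⟩ := b
      show π e * π f = π f * π e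
      rw [← map_mul, ← map_mul]
      exact congrArg π (Subtype.ext (T.J_comm (Subgroup.mem_subgroupOf.1 he) (Subgroup.mem_subgroupOf.1 hf))))⟩⟩
    (by
      rintro _ ⟨e, he, rfl⟩
      rw [← map_pow, ← map_one π]
      exact congrArg π (Subtype.ext (by rw [SubgroupClass.coe_pow, hEcube e he]; rfl)))
    (by
      refine le_antisymm (fun xb hxb => ?_) (fun y hy => Subgroup.mem_centralizer_iff.2 fun z hz => ?_)
      · obtain ⟨x, rfl⟩ := QuotientGroup.mk'_surjective L xb
        have hfix : ∀ v (hv : mT v = v), (x : G) * T.q v = T.q v * x := fun v hv => by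
          have he : (⟨T.q v, hqX v hv⟩ : X) ∈ E := (hEmem _).2 ⟨v, hv, rfl⟩
          exact hcomm x _ he (Subgroup.mem_centralizer_iff.1 hxb _ (Subgroup.mem_map_of_mem π he)).symm
        have h1 := hfix _ tm_fixed.2.1
        have h2 := hfix _ tm_fixed.2.2
        obtain ⟨p, hp⟩ := hF.acts_smap (hF.plane_cent plane_indep h1 h2)
        rcases tm_plane p ((Acts.comm_iff T hp).1 h1) ((Acts.comm_iff T hp).1 h2) with hid | hT
        · exact ⟨x, Subgroup.mem_subgroupOf.2 (T.mem_J_of_acts fun u => by rw [hp u, hid]; rfl), rfl⟩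
        · have hj : (x : G) * T.t ∈ T.J := T.mem_J_of_acts fun u => by
            refine (Acts.mul T hp T.t_acts u).trans (congrArg T.q ?_)
            exact (hT (mT u)).trans ((show ∀ u : V3, mT (mT u) = u by decide +kernel) u)
          refine ⟨⟨(x : G) * T.t, X.mul_mem x.2 (Subgroup.mem_centralizer_singleton_iff.2 rfl)⟩,
            Subgroup.mem_subgroupOf.2 hj, QuotientGroup.eq.2 ((hmL _).2 (Or.inr ?_))⟩
          simp only [Subgroup.coe_mul, Subgroup.coe_inv, mul_inv_rev, inv_eq_of_mul_eq_one_right T.t_sq]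
          group
      · obtain ⟨e, he, rfl⟩ := hy
        obtain ⟨f, hf, rfl⟩ := hz
        rw [← map_mul, ← map_mul]
        exact congrArg π (Subtype.ext (T.J_comm (Subgroup.mem_subgroupOf.1 hf) (Subgroup.mem_subgroupOf.1 he))))
    (by
      rintro _ ⟨e, he, rfl⟩ hne xb hxb
      obtain ⟨x, rfl⟩ := QuotientGroup.mk'_surjective L xb
      obtain ⟨v, -, hv⟩ := (hEmem e).1 he
      have hv0 : v ≠ 0 := fun h => hne ((QuotientGroup.eq_one_iff e).2 ((hmL e).2
        (Or.inl (by rw [hv, h, T.q_zero]))))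
      refine hforth x (hc v hv0 (Conf.mem_centQ.2 ?_))
      rw [← hv]
      exact hcomm x e he (Subgroup.mem_centralizer_singleton_iff.1 hxb))
    (by
      intro xb hxb
      obtain ⟨x, rfl⟩ := QuotientGroup.mk'_surjective L xb
      obtain ⟨p, -, hp, -, hsq⟩ := hF.comm_t_sq (hback x hxb) (hxt x)
      rw [← map_mul]
      exact Subgroup.mem_map_of_mem π (Subgroup.mem_subgroupOf.2 (T.mem_J_of_acts fun u => by
        rw [Subgroup.coe_mul, Acts.mul T hp hp u]; exact congrArg T.q (hsq u))))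
  exact hback ⟨x₀, Subgroup.mem_centralizer_singleton_iff.2 hx₀⟩ (htop ▸ Subgroup.mem_top _)

/-- An element of order three commuting with the involution is in the base. -/
theorem mem_J_of_comm_t {x : G} (hx : x * T.t = T.t * x) (h3 : x ^ 3 = 1) : x ∈ T.J := by
  obtain ⟨p, hp, hxp, -, hsq⟩ := hF.comm_t_sq (hF.cent_t hc hx) hx
  have h4 : ∀ u, T.q (smap p u) = T.q u := fun u => by
    have h5 := Acts.mul T (Acts.mul T hxp hxp) hxp u
    rw [← pow_two, ← pow_succ, h3, one_mul, inv_one, mul_one] at h5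
    exact (h5.trans (congrArg T.q (hsq (smap p u)))).symm
  exact T.mem_J_of_acts fun u => by rw [hxp u, T.q_inj (h4 u)]; rfl

/-- Moving a conjugate of the involution, fixing a point of the base, into the normaliser. -/
theorem mem_normalizer_of_fixed {g : G} {v : V3} (hv : v ≠ 0)
    (h : g⁻¹ * T.t * g * T.q v = T.q v * (g⁻¹ * T.t * g)) : g ∈ Subgroup.normalizer (T.J : Set G) := by
  refine hF.mem_normalizer_of_conj hc hv (hF.mem_J_of_comm_t hc ?_ ?_)
  · calc g * T.q v * g⁻¹ * T.t = g * (T.q v * (g⁻¹ * T.t * g)) * g⁻¹ := by group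
      _ = _ := by rw [← h]; group
  · rw [conj_pow, T.q_cube, mul_one, mul_inv_cancel]

/-- Outside the second kind conjugates of the involution in the normaliser are conjugate there. -/
theorem fix_t (hκ : κ ≠ .two) {g : G} (h : g⁻¹ * T.t * g ∈ Subgroup.normalizer (T.J : Set G)) :
    g ∈ Subgroup.normalizer (T.J : Set G) := by
  set r := g⁻¹ * T.t * g with hr
  have hr2 : r * r = 1 := by
    calc g⁻¹ * T.t * g * (g⁻¹ * T.t * g) = g⁻¹ * (T.t * T.t) * g := by group
      _ = 1 := by rw [T.t_sq]; group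
  obtain ⟨p, hp, hrp⟩ := hF.dir r h
  have hsq : ∀ u, smap p (smap p u) = u := fun u => T.q_inj (by
    rw [← Acts.mul T hrp hrp u, hr2]; group)
  rcases invol_fixes κ p hp hsq with ⟨v, hv, hfix⟩ | ⟨hk, hneg⟩
  · exact hF.mem_normalizer_of_fixed hc hv ((Acts.comm_iff T hrp).2 hfix)
  exfalso
  obtain ⟨p₄, h4⟩ := order_four
  obtain ⟨g₀, hg₀⟩ := hF.all p₄ (by rcases hk with rfl | rfl; exacts [absurd rfl hκ, trivial])
  obtain ⟨k, hka, hkr⟩ := T.exists_comm_lift (r := r) (fun v => by rw [hrp v, hneg]) hr2 hg₀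
    fun v => (AddMonoidHom.mk' (smap p₄) (smap_add p₄)).map_neg v
  have hy : g * k * g⁻¹ * T.t = T.t * (g * k * g⁻¹) := by
    calc g * k * g⁻¹ * T.t = g * (k * r) * g⁻¹ := by rw [hr]; group
      _ = _ := by rw [hkr, hr]; group
  obtain ⟨p', -, hp', -, hsq'⟩ := hF.comm_t_sq (hF.cent_t hc hy) hy
  obtain ⟨w, hw⟩ := T.mem_J.1 (T.mem_J_of_acts (x := g * k * g⁻¹ * (g * k * g⁻¹)) fun u => by
    rw [Acts.mul T hp' hp' u]; exact congrArg T.q (hsq' u))
  have h6 : k * k * (k * k) * (k * k) = 1 := by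
    have h7 := T.q_cube w
    rw [hw, show g * k * g⁻¹ * (g * k * g⁻¹) = g * (k * k) * g⁻¹ by group, conj_pow, conj_eq_one_iff,
      pow_succ, pow_two] at h7
    exact h7
  refine h4 fun u => T.q_inj ?_
  have h2 := Acts.mul T hka hka
  have h8 := Acts.mul T (Acts.mul T h2 h2) h2 u
  rw [h6] at h8
  rw [← h8]
  group

/-- A Sylow subgroup containing the involution normalises the base. -/
theorem exists_sylow_le (hκ : κ ≠ .two) :
    ∃ P : Sylow 2 G, T.t ∈ (P : Subgroup G) ∧ (P : Subgroup G) ≤ Subgroup.normalizer (T.J : Set G) := by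
  haveI : Fact (Nat.Prime 2) := ⟨Nat.prime_two⟩
  set N := Subgroup.normalizer (T.J : Set G) with hN
  have htN : T.t ∈ N := Acts.mem_normalizer T T.t_acts
  have ht2 : IsPGroup 2 (Subgroup.zpowers (⟨T.t, htN⟩ : N)) := IsPGroup.of_card (n := 1) (by
    rw [Nat.card_zpowers, Subgroup.orderOf_mk, orderOf_eq_prime (by rw [pow_two, T.t_sq]) T.t_ne, pow_one])
  obtain ⟨S, hS⟩ := ht2.exists_le_sylow
  have hSt : T.t ∈ (S : Subgroup N).map N.subtype :=
    ⟨_, hS (Subgroup.mem_zpowers _), rfl⟩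
  obtain ⟨Q, hQ⟩ := (S.2.map N.subtype).exists_le_sylow
  refine ⟨Q, hQ hSt, fun y hy => ?_⟩
  set S' := ((S : Subgroup N).map N.subtype).subgroupOf (Q : Subgroup G)
  suffices htop : S' = ⊤ by
    obtain ⟨z, -, hz⟩ := Subgroup.mem_subgroupOf.1 (htop ▸ Subgroup.mem_top (⟨y, hy⟩ : (Q : Subgroup G)))
    rw [show y = (z : G) from hz.symm]
    exact z.2
  by_contra hne
  haveI : Group.IsNilpotent (Q : Subgroup G) := Q.2.isNilpotent
  obtain ⟨x, hx, hxS⟩ := SetLike.exists_of_lt
    (Group.normalizerCondition_of_isNilpotent (G := (Q : Subgroup G)) S' (lt_top_iff_ne_top.2 hne))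
  have hmem := (Subgroup.mem_normalizer_iff.1 hx ⟨T.t, hQ hSt⟩).1 hSt
  obtain ⟨z, -, hz⟩ := Subgroup.mem_subgroupOf.1 hmem
  have hxN : (x : G) ∈ N := by
    have := Subgroup.inv_mem _ (hF.fix_t hc hκ (g := (x : G)⁻¹) (by
      rw [inv_inv]
      have h9 := z.2
      rw [show (z : G) = (x : G) * T.t * (x : G)⁻¹ by simpa using hz] at h9
      exact h9))
    rwa [inv_inv] at this
  have hle : (S : Subgroup N) ≤ (Q : Subgroup G).subgroupOf N := fun s hs => hQ ⟨s, hs, rfl⟩
  have heq := S.is_maximal' (Q.2.comap_of_injective N.subtype N.subtype_injective) hle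
  refine hxS (Subgroup.mem_subgroupOf.2 ⟨⟨x, hxN⟩, ?_, rfl⟩)
  show (⟨x, hxN⟩ : N) ∈ (S : Subgroup N)
  rw [← heq]
  exact x.2

end Framed

end Conf

end Cfsg.Agent.Spor.SymNine
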