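import Cfsg.Agent.Lib.Spor.AltNine.Top.Model

/-!
Small facts about centralisers in the symmetric group of degree nine, computed on lists of images.
-/

set_option autoImplicit false
set_option maxRecDepth 100000
set_option synthInstance.maxSize 4000

namespace Cfsg.Agent.Spor.SymNine.Top

open Equiv
open Cfsg.Agent.Spor.AltNine.Top

/-- A transposition. -/
def w1 : P9 := swap 1 2
/-- A transposition. -/
def w2 : P9 := swap 3 4
/-- A transposition. -/
def w3 : P9 := swap 5 6
/-- A transposition. -/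
def w4 : P9 := swap 7 8
/-- A nine-cycle. -/
def pn : P9 := swap 0 3 * swap 3 6 * swap 6 1 * swap 1 4 * swap 4 7 * swap 7 2 * swap 2 5 * swap 5 8
/-- The elements of the group of order eight. -/
def wlist : List P9 := [1, w1, w2, w3, w1 * w2, w1 * w3, w2 * w3, w1 * w2 * w3]

/-- Powers of lists of images. -/
def powL (a : List (Fin 9)) : ℕ → List (Fin 9)
  | 0 => idL
  | n + 1 => mulL (powL a n) a

theorem powL_img (p : P9) : ∀ n, powL (img p) n = img (p ^ n)
  | 0 => by rw [powL, pow_zero, img_one]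
  | n + 1 => by rw [powL, powL_img p n, mulL_img, pow_succ]

theorem pow_eq_of_powL {p : P9} {n : ℕ} (h : powL (img p) n = idL) : p ^ n = 1 :=
  img_eq_idL ((powL_img p n).symm.trans h)

theorem powL_of_pow_eq {p : P9} {n : ℕ} (h : p ^ n = 1) : powL (img p) n = idL := by
  rw [powL_img, h, img_one]

theorem all_sols {gens : List P9} {f : List (Fin 9) → Bool} (h : (sols (gens.map img)).all f = true) {p : P9}
    (hp : ∀ g ∈ gens, g * p = p * g) : f (img p) = true :=
  List.all_eq_true.1 h _ (mem_sols hp)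

theorem cb_nine_list : ((sols ([pb].map img)).all fun l => !(powL l 9 == idL) || (powL l 3 == idL)) = true := by
  decide +kernel

theorem cc_five_list : ((sols ([pc].map img)).all fun l => !(powL l 5 == idL) || (l == idL)) = true := by
  decide +kernel

theorem cw_exp_list : ((sols ([w1, w2, w3].map img)).all fun l => powL l 6 == idL) = true := by decide +kernel

theorem cw_px_list : ((sols ([w1, w2, w3, px].map img)).all fun l => (wlist.map img).any fun d =>
    (List.range 3).any fun i => l == mulL d (powL (img px) i)) = true := by decide +kernel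

theorem cb_nine {q : P9} (hp : ∀ g ∈ [pb], g * q = q * g) (h9 : q ^ 9 = 1) : q ^ 3 = 1 := by
  have := all_sols cb_nine_list hp
  simp only [powL_of_pow_eq h9, beq_self_eq_true, Bool.not_true, Bool.false_or, beq_iff_eq] at this
  exact pow_eq_of_powL this

theorem cc_five {q : P9} (hp : ∀ g ∈ [pc], g * q = q * g) (h5 : q ^ 5 = 1) : q = 1 := by
  have := all_sols cc_five_list hp
  simp only [powL_of_pow_eq h5, beq_self_eq_true, Bool.not_true, Bool.false_or, beq_iff_eq] at this
  exact img_eq_idL this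

theorem cw_exp {q : P9} (hp : ∀ g ∈ [w1, w2, w3], g * q = q * g) : q ^ 6 = 1 :=
  pow_eq_of_powL (beq_iff_eq.1 (all_sols cw_exp_list hp))

theorem cw_px {q : P9} (hp : ∀ g ∈ [w1, w2, w3, px], g * q = q * g) :
    ∃ d ∈ wlist, ∃ i : Fin 3, q = d * px ^ i.val := by
  have := all_sols cw_px_list hp
  simp only [List.any_eq_true, List.mem_map, List.mem_range, beq_iff_eq] at this
  obtain ⟨_, ⟨d, hd, rfl⟩, i, hi, he⟩ := this
  rw [powL_img, mulL_img] at he
  exact ⟨d, hd, ⟨i, hi⟩, img_inj he⟩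

theorem pn_facts : pn ^ 9 = 1 ∧ pn ^ 3 ≠ 1 ∧ pn * pc = pc * pn := by
  refine ⟨pow_eq_of_powL (by decide +kernel), fun h => ?_, img_inj ?_⟩
  · exact absurd (powL_of_pow_eq h) (by decide +kernel)
  · rw [← mulL_img, ← mulL_img]; decide +kernel

theorem w_facts : w1 * w1 = 1 ∧ w2 * w2 = 1 ∧ w3 * w3 = 1 ∧ px * w1 = w1 * px ∧ px * w2 = w2 * px ∧
    px * w3 = w3 * px ∧ w4 * w4 = 1 ∧ w4 * w1 = w1 * w4 ∧ w4 * w2 = w2 * w4 ∧ w4 * w3 = w3 * w4 := by
  decide +kernel

theorem w_act : pd * w1 * pd⁻¹ = w2 ∧ pd * w2 * pd⁻¹ = w3 ∧ pd * w3 * pd⁻¹ = w1 ∧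
    (px * w4 * px⁻¹ * w4⁻¹) ^ 3 = 1 ∧ px * w4 * px⁻¹ * w4⁻¹ ≠ 1 := by decide +kernel

theorem wlist_mul_list : ((wlist.map img).all fun a => (wlist.map img).all fun b =>
    (wlist.map img).contains (mulL a b)) = true := by decide +kernel

theorem wlist_mul : ∀ a ∈ wlist, ∀ b ∈ wlist, a * b ∈ wlist := by
  intro a ha b hb
  have h := List.all_eq_true.1 (List.all_eq_true.1 wlist_mul_list _ (List.mem_map_of_mem ha)) _ (List.mem_map_of_mem hb)
  rw [List.contains_iff_mem, mulL_img, List.mem_map] at h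
  obtain ⟨c, hc, he⟩ := h
  rwa [← img_inj he]

theorem wlist_sq_list : ((wlist.map img).all fun a => mulL a a == idL) = true := by decide +kernel

theorem wlist_sq : ∀ a ∈ wlist, a * a = 1 := by
  intro a ha
  have h := beq_iff_eq.1 (List.all_eq_true.1 wlist_sq_list _ (List.mem_map_of_mem ha))
  rw [mulL_img] at h
  exact img_eq_idL h

theorem reps_three :
    px * w1 = w1 * px ∧ px * (w1 * w2) = w1 * w2 * px ∧ px * (w1 * w2 * w3) = w1 * w2 * w3 * px ∧
      pd * pt = pt * pd ∧ px ^ 3 = 1 ∧ px ≠ 1 ∧ pd ^ 3 = 1 ∧ pd ≠ 1 ∧ pa * pu = pu * pa := by decide +kernel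

end Cfsg.Agent.Spor.SymNine.Top
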